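import Cfsg.Agent.Lib.O8E.Lift

/-!
# The quotient `H/O₂(H)` of a solvable local subgroup
-/

set_option autoImplicit false

namespace Cfsg.Lib.O8E

open Subgroup Cfsg.Lib Cfsg.Lib.BG Cfsg.Lib.Transfer Cfsg.Lib.PLocal Cfsg.Lib.Loc
open scoped commutatorElement

universe u v

variable {G : Type u} [Group G] [Finite G] {X : Type v} [Group X] [Finite X] {H O : Subgroup G}

/-- A solvable `Om8` group with `O₂ = 1`. -/
structure XQ (X : Type*) [Group X] : Prop where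
  om : Om8 X
  sol : Group.IsSolvable X
  o2 : ∀ U : Subgroup X, IsPGroup 2 U → U.Normal → U = ⊥

/-- Take `X = H ⧸ O.subgroupOf H`. -/
theorem Lo.quot (h : Om8 G) (l : Lo H O) :
    ∃ (X : Type u) (_ : Group X) (_ : Finite X) (π : H →* X), Ov H O π ∧ XQ X := by
  have := l.sol
  have n : (O.subgroupOf H).Normal := (normal_subgroupOf_iff_le_normalizer l.nml.le).2 l.nml.norm
  have o : Ov H O (QuotientGroup.mk' (O.subgroupOf H)) :=
    ⟨l.nml.le, QuotientGroup.mk'_surjective _, fun x => QuotientGroup.eq_one_iff x⟩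
  refine ⟨H ⧸ O.subgroupOf H, inferInstance, inferInstance, _, o, (h.sub H).surj o.surj, inferInstance,
    fun U hU nU => le_bot_iff.1 (o.pre_le_iff.1 ?_)⟩
  have := pre_nml (ρ := QuotientGroup.mk' (O.subgroupOf H)) (A := U) (B := ⊤) ⟨le_top, le_normalizer_of_normal⟩
  rw [pre_top] at this
  rw [o.pre_bot]
  exact l.mx _ (o.pg_pre l.pg hU) this

theorem XQ.o2' (q : XQ X) : 𝐎({2}, (⊤ : Subgroup X)) = ⊥ :=
  q.o2 _ (pcore_pgroup 2 _) (normalizer_eq_top_iff.1 (eq_top_iff.2 (pcore_nml _ _).norm))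

/-- `F(X)` lies in every subgroup containing `O₃(X), O₅(X), O₇(X)`. -/
theorem XQ.fit_le (q : XQ X) {K : Subgroup X} (e : ∀ r, r = 3 ∨ r = 5 ∨ r = 7 → 𝐎({r}, (⊤ : Subgroup X)) ≤ K) :
    𝐅((⊤ : Subgroup X)) ≤ K := nil_le_of_pcore_le (Fitting_nil _) fun r hr hd => by
  have := Fact.mk hr
  rw [pcore_Fitting]
  rcases (q.om.sub _).prime_le hr hd with rfl | k
  exacts [q.o2'.le.trans bot_le, e r k]

theorem XQ.cent_fit (q : XQ X) : 𝐂(𝐅((⊤ : Subgroup X))) ≤ 𝐅((⊤ : Subgroup X)) := by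
  have := q.sol
  simpa using cent_sub_Fitting (H := (⊤ : Subgroup X)) inferInstance

/-- Proof: `F(X)` is the product of the `O_r(X)`, `r = 3, 5, 7`, and `C(F(X)) ≤ F(X)` (`cent_sub_Fitting`); a subgroup
centralising the three is contained in `F(X)`, which has odd order. -/
theorem XQ.act (q : XQ X) {D : Subgroup X} (hD : IsPGroup 2 D) (D1 : D ≠ ⊥) :
    ∃ r, (r = 3 ∨ r = 5 ∨ r = 7) ∧ ¬ D ≤ 𝐂(𝐎({r}, (⊤ : Subgroup X))) := by
  by_contra! k
  exact D1 (le_bot_iff.1 (q.o2' ▸ le_pcore_of_le_Fitting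
    ((le_centralizer_iff.1 (q.fit_le fun r hr => le_centralizer_iff.1 (k r hr))).trans q.cent_fit) hD))

/-- Proof: `F(X) = O₃(X)` (`Fitting_eq_pcore`, pattern `K3.fit3`). -/
theorem XQ.fit3 (q : XQ X) (h5 : 𝐎({5}, (⊤ : Subgroup X)) = ⊥) (h7 : 𝐎({7}, (⊤ : Subgroup X)) = ⊥) :
    𝐂(𝐎({3}, (⊤ : Subgroup X))) ≤ 𝐎({3}, (⊤ : Subgroup X)) := by
  have e : 𝐅((⊤ : Subgroup X)) ≤ 𝐎({3}, (⊤ : Subgroup X)) := q.fit_le (by
    rintro r (rfl | rfl | rfl)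
    exacts [le_rfl, h5.le.trans bot_le, h7.le.trans bot_le])
  exact (cent_anti e).trans (q.cent_fit.trans e)

/-- Proof: `Spec2.exists_big` for `π` with `p = 2`; `C(ker π).map π = 1` by `l.sc`. -/
theorem Ov.big (h : Om8 G) (l : L72.OQ H O) {π : H →* X} (o : Ov H O π) {K : Subgroup X} {b : X} (hb : b ∈ 𝐍(K))
    (hf : ∀ i, 0 < i → i < orderOf b → K ⊓ 𝐂[b ^ i] = ⊥) (hc : ¬ 2 ∣ Nat.card K) (hs : Group.IsSolvable K)
    (K1 : K ≠ ⊥) : orderOf b ≤ 4 := by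
  obtain ⟨g, e⟩ := Spec2.exists_big o.surj (o.pg_ker l.pg) hb hf hc hs fun k => K1 (eq_bot_iff.2 fun x hx => by
    obtain ⟨c, hc, rfl⟩ := k hx
    exact (o.ker c).2 (l.sc ⟨c.2, mem_cent.2 fun y hy =>
      congrArg Subtype.val (mem_cent.1 hc ⟨y, o.le hy⟩ ((o.ker _).2 hy))⟩))
  have := (Nat.le_of_dvd (orderOf_pos g) e).trans (h.sub H g)
  omega

end Cfsg.Lib.O8E
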