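import Cfsg.Agent.Lib.O8E.K0
import Cfsg.Agent.Lib.O8E.LoQ

/-!
# `2`-elements centralising elements of order three modulo `O`
-/

set_option autoImplicit false

namespace Cfsg.Lib.O8E

open Subgroup Cfsg.Lib Cfsg.Lib.BG Cfsg.Lib.Transfer Cfsg.Lib.PLocal Cfsg.Lib.Loc
open scoped commutatorElement

universe u v

variable {G : Type u} [Group G] [Finite G] {H O U : Subgroup G} {a b u x y : G}

/-- Proof: `L72.fixc` (with `g := u`; `x u x⁻¹ u⁻¹` is the inverse of `e`) gives `o u ∈ C(x)`.  `D = O ⊔ ⟨u⟩` is a `2`-group and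
`D ⊓ C(x)` is abelian (`h.elem_cent`) and contains `o u` and `O ⊓ C(x)`. -/
theorem f1b (h : Om8 G) (hO : IsPGroup 2 O) (hx : orderOf x = 3) (xO : x ∈ 𝐍(O)) (uO : u ∈ 𝐍(O)) (hu : L72.T2 u)
    (e : u * x * u⁻¹ * x⁻¹ ∈ O) : ∃ o ∈ O, o * u ∈ 𝐂[x] ∧ o * u ∈ 𝐂(O ⊓ 𝐂[x]) := by
  obtain ⟨n, hn, k⟩ := L72.fixc hO (L72.odd3 hx) xO (g := u) (by convert inv_mem e using 1; group)
  exact ⟨n, hn, mem_cent1.2 k, mem_cent.2 fun y hy => mem_cent1.1 (k0_cent h (pgroup_sup hO hu.pg (zpowers_le.2 uO)) hx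
    ⟨mul_mem (mem_sup_left hn) (mem_sup_right (mem_zpowers u)), mem_cent1.2 k⟩ ⟨mem_sup_left hy.1, hy.2⟩)⟩

/-- Proof: let `u' = o u` be as in `f1b`, `D = O ⊓ C(x)` (abelian, normalised by `y`).  `u'` and `y u' y⁻¹` centralise `D`, hence so
does `u' y u'⁻¹ y⁻¹ = o' y⁻²` where `o' = u' y u'⁻¹ y ∈ O ⊓ C(x) = D`.  So `y⁻² = y` centralises `D`. -/
theorem refl3 (h : Om8 G) (hO : IsPGroup 2 O) (hx : orderOf x = 3) (hy : orderOf y = 3) (xy : x * y = y * x)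
    (xO : x ∈ 𝐍(O)) (yO : y ∈ 𝐍(O)) (uO : u ∈ 𝐍(O)) (hu : L72.T2 u) (e1 : u * x * u⁻¹ * x⁻¹ ∈ O)
    (e2 : u * y * u⁻¹ * y ∈ O) : O ⊓ 𝐂[x] ≤ 𝐂[y] := by
  obtain ⟨o, ho, k1, k2⟩ := f1b h hO hx xO uO hu e1
  have yx : y ∈ 𝐂[x] := mem_cent1.2 xy.symm
  have yD : y ∈ 𝐍(𝐂(O ⊓ 𝐂[x])) := zpowers_le.1 (norm_cent (zpowers_le.2 (k0_inf yO (le_norm _ yx))))
  have h1 : o * u * y * (o * u)⁻¹ * y ∈ O ⊓ 𝐂[x] :=
    mem_inf.2 ⟨by convert mul_mem (mul_mem ho e2) (conj_mem_of_norm' yO (inv_mem ho)) using 1; group,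
      mul_mem (mul_mem (mul_mem k1 yx) (inv_mem k1)) yx⟩
  have h2 := mul_mem (inv_mem (PGroup.elemAb_le_centralizer (h.elem_cent hO hx) h1))
    (mul_mem k2 (conj_mem_of_norm yD (inv_mem k2)))
  have e : (o * u * y * (o * u)⁻¹ * y)⁻¹ * (o * u * (y * (o * u)⁻¹ * y⁻¹)) = (y * y)⁻¹ := by group
  rw [e, L72.o3_sq (L72.o3_pow hy), inv_inv] at h2
  exact fun z hz => mem_cent1.2 (mem_cent.1 h2 z hz)

/-- Proof: `D = O ⊔ ⟨u⟩` is a `2`-group normalised by `a, b`.  `L72.fixc` for `a` gives `u₁ = n u ∈ C(a)`; `fixc` for `b` with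
`N := O ⊓ C(a)` gives `u₂ = n' u₁ ∈ C(a) ⊓ C(b)`.  By `e9c` for `D`, `u₂ ∈ C(D) ≤ C(O)`, so `u₂ ∈ O` by `l.sc`. -/
theorem p1 (h : Om8 G) (l : L72.OQ H O) (e : L72.E9 a b) (aH : a ∈ H) (bH : b ∈ H) (uH : u ∈ H) (hu : L72.T2 u)
    (ea : u * a * u⁻¹ * a⁻¹ ∈ O) (eb : u * b * u⁻¹ * b⁻¹ ∈ O) : u ∈ O := by
  have aO := l.nml.norm aH
  have bO := l.nml.norm bH
  have ba : b ∈ 𝐂[a] := mem_cent1.2 e.cm.symm
  obtain ⟨n, hn, k⟩ := L72.fixc l.pg (L72.odd3 e.ox) aO (g := u) (by convert inv_mem ea using 1; group)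
  have k' : n * u ∈ 𝐂[a] := mem_cent1.2 k
  obtain ⟨m, hm, j⟩ := L72.fixc (N := O ⊓ 𝐂[a]) (pgroup_of_le l.pg inf_le_left) (L72.odd3 e.oy) (k0_inf bO (le_norm _ ba))
    (g := n * u) (mem_inf.2 ⟨by convert mul_mem (mul_mem (conj_mem_of_norm bO hn) (inv_mem eb)) (inv_mem hn) using 1; group,
      mul_mem (mul_mem (mul_mem ba k') (inv_mem ba)) (inv_mem k')⟩)
  have c : m * (n * u) ∈ 𝐂[a] := mul_mem hm.2 k'
  have vH : m * (n * u) ∈ H := mul_mem (l.nml.le hm.1) (mul_mem (l.nml.le hn) uH)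
  have t : L72.T2 (m * (n * u)) := L72.t2_of (pgroup_sup l.pg hu.pg (zpowers_le.2 (l.nml.norm uH)))
    (mul_mem (mem_sup_left hm.1) (mul_mem (mem_sup_left hn) (mem_sup_right (mem_zpowers u))))
  have nD : ∀ {z}, z ∈ 𝐍(O) → Commute (m * (n * u)) z → z ∈ 𝐍(O ⊔ zpowers (m * (n * u))) := fun a b =>
    zpowers_le.1 (norm_sup (zpowers_le.2 a) (zpowers_le.2 (L72.cent_zp b.symm)))
  have := e9c h (pgroup_sup l.pg t.pg (zpowers_le.2 (l.nml.norm vH))) e (nD aO (mem_cent1.1 c)) (nD bO j)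
    ⟨⟨mem_sup_right (mem_zpowers _), c⟩, mem_cent1.2 j⟩
  exact (mul_mem_cancel_left hn).1 ((mul_mem_cancel_left (mem_inf.1 hm).1).1 (l.sc ⟨vH, cent_anti le_sup_left this⟩))

/-- A solvable `Om8` group with `O₂ = 1` has no subgroup `A₄`. -/
theorem XQ.a4 {X : Type v} [Group X] [Finite X] (q : XQ X) {U : Subgroup X} {y : X} (hU : IsElementaryAbelian 2 U)
    (hy : orderOf y = 3) (yU : y ∈ 𝐍(U)) : U ≤ 𝐂[y] := by
  rw [← cent_zpowers, ← comm_eq_bot_iff]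
  by_contra K1
  have pU := PGroup.elemAb_isPGroup hU
  have KU : ⁅U, zpowers y⁆ ≤ U := comm_le_left (zpowers_le.2 yU)
  have yK : y ∈ 𝐍(⁅U, zpowers y⁆) := zpowers_le.1 (norm_comm (zpowers_le.2 yU) (le_norm _))
  have f : 𝐂(zpowers y) ⊓ ⁅U, zpowers y⁆ = ⊥ := Coprime.centralizer_inf_commutator_eq_bot
    (abelian_iff.2 (PGroup.elemAb_le_centralizer hU)) (zpowers_le.2 yU) (L72.cop pU (L72.odd3 hy))
  set K := ⁅U, zpowers y⁆
  have pK := pgroup_of_le pU KU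
  obtain ⟨r, hr, nk⟩ := q.act pK K1
  have : Fact r.Prime := ⟨by rcases hr with rfl | rfl | rfl <;> norm_num⟩
  have r2 : r ≠ 2 := by omega
  have nR : 𝐎({r}, (⊤ : Subgroup X)).Normal := normalizer_eq_top_iff.1 (eq_top_iff.2 (pcore_nml _ _).norm)
  have pR := pcore_pgroup r (⊤ : Subgroup X)
  set R := 𝐎({r}, (⊤ : Subgroup X))
  have d : ∀ z ∈ K, z ∈ R → z = 1 := fun z a b => disjoint_def.1 (IsPGroup.disjoint_of_ne 2 r r2.symm _ _ pK pR) a b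
  have o3 : orderOf (QuotientGroup.mk' R y) = 3 := by
    refine ((Nat.dvd_prime Nat.prime_three).1 (hy ▸ orderOf_map_dvd _ y)).resolve_left fun k => K1 (eq_bot_iff.2 fun z hz => ?_)
    exact d z hz (commutator_le_right _ R (commutator_mono le_rfl (zpowers_le.2 ((QuotientGroup.eq_one_iff y).1
      (orderOf_eq_one_iff.1 k))) hz))
  obtain ⟨g, e⟩ := Spec2.exists_big (p := r) (QuotientGroup.mk'_surjective R) (by rwa [QuotientGroup.ker_mk'])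
    (K := K.map (QuotientGroup.mk' R)) (b := QuotientGroup.mk' R y)
    (map_norm _ (zpowers_le.2 yK) (mem_map_of_mem _ (mem_zpowers y))) (fun i i0 i3 => eq_bot_iff.2 (by
      rintro _ ⟨⟨k, hk, rfl⟩, c⟩
      have c1 : y ^ i * k * (y ^ i)⁻¹ * k⁻¹ = 1 := d _ (mul_mem (conj_mem_of_norm (pow_mem yK i) hk) (inv_mem hk))
        ((QuotientGroup.eq_one_iff _).1 (by
          change QuotientGroup.mk' R _ = 1
          simp only [map_mul, map_inv, map_pow]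
          rw [← mem_cent1.1 c]; group))
      have c2 : k ∈ 𝐂[y ^ i] := mem_cent1.2 (mul_inv_eq_iff_eq_mul.1 (mul_inv_eq_one.1 c1)).symm
      have c3 : k ∈ 𝐂[y] := by
        rw [o3] at i3
        interval_cases i
        · simpa using c2
        · rwa [sq, L72.o3_sq (L72.o3_pow hy), cent1_inv] at c2
      rw [mem_bot.1 (f.le ⟨cent_zpowers y ▸ c3, hk⟩), map_one]
      exact one_mem _))
    (fun k => r2 (pgroup_eq_of_dvd (pK.map _) Fact.out k)) (pgroup_sol (pK.map _)) (fun k => nk fun z hz => by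
      obtain ⟨c, hc, e⟩ := k (mem_map_of_mem _ hz)
      rw [QuotientGroup.ker_mk'] at hc
      have s : c⁻¹ * z ∈ R := QuotientGroup.eq.1 e
      obtain ⟨m, hm⟩ := pR ⟨_, s⟩
      have hm : (c⁻¹ * z) ^ r ^ m = 1 := congrArg Subtype.val hm
      have cm : Commute c (c⁻¹ * z) := (mem_cent.1 hc _ s).symm
      obtain ⟨j, hj⟩ : Odd (r ^ m) := ((Fact.out : r.Prime).odd_of_ne_two r2).pow
      have : z = c ^ r ^ m := by
        rw [← mul_one (c ^ _), ← hm, ← cm.mul_pow, mul_inv_cancel_left, hj, pow_succ, pow_mul,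
          PGroup.elemAb_two_iff.1 hU z (KU hz), one_pow, one_mul]
      exact this ▸ pow_mem hc _)
  exact q.om.not_dvd (by rw [o3]; omega) e

/-- No `A₄` modulo `O`.  Proof: in `X` of `l.quot` let `K = [Ū, ⟨ȳ⟩]` (`Ū` abelian `2`-group, so `K ⊓ C(ȳ) = 1`, `K ≤ Ū`).  If
`K ≠ 1`, `XQ.act` gives `r` with `K ≰ C(R)`, `R = O_r(X)`.  Then `ȳ ∉ R` (else `K ≤ R ⊓ Ū = 1`; for `r ≠ 3` orders), and
`Spec2.exists_big` for `X → X ⧸ R` (image of `K`, which is isomorphic to `K` and meets `C` of the image of `ȳ^i` trivially by coprime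
action, `L72.fixc`-style or `BG.quo` lemmas) gives an element of order divisible by `3 r ≥ 9`.  (If the image of `K` lies in the
image of `C(R)` then `K ≤ C(R) R`, and `K ≤ C(R)` as `C(R)` is normal of `r`-power index in `C(R) R`.) -/
theorem a4 (h : Om8 G) (l : Lo H O) (hU : IsElementaryAbelian 2 U) (UH : U ≤ H) (hy : orderOf y = 3) (yH : y ∈ H)
    (yU : y ∈ 𝐍(U)) (hu : u ∈ U) : u * y * u⁻¹ * y⁻¹ ∈ O := by
  obtain ⟨X, _, _, π, o, q⟩ := l.quot h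
  have := q.a4 (U := (U.subgroupOf H).map π) (y := π ⟨y, yH⟩) (PGroup.elemAb_map π (PGroup.elemAb_subgroupOf hU H))
    (o.order_map l.pg Nat.prime_three (by norm_num) hy)
    (map_norm π (A := zpowers ⟨y, yH⟩) (zpowers_le.2 (mem_normalizer_iff.2 fun z => mem_normalizer_iff.1 yU z))
      (mem_map_of_mem _ (mem_zpowers _))) (mem_map_of_mem π (x := ⟨u, UH hu⟩) hu)
  refine (o.ker (⟨u, UH hu⟩ * ⟨y, yH⟩ * ⟨u, UH hu⟩⁻¹ * ⟨y, yH⟩⁻¹)).1 ?_
  simp only [map_mul, map_inv]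
  rw [mem_cent1.1 this]; group

end Cfsg.Lib.O8E
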