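import Cfsg.Agent.Lib.O8E.LoQ

/-!
# Solvable local subgroups with `H/O₂(H) ≅ S₃`
-/

set_option autoImplicit false

namespace Cfsg.Lib.O8E

open Subgroup Cfsg.Lib Cfsg.Lib.BG Cfsg.Lib.Transfer Cfsg.Lib.PLocal Cfsg.Lib.Loc
open scoped commutatorElement

universe u v

variable {G : Type u} [Group G] [Finite G] {D H K O S : Subgroup G} {g t x : G}

omit [Finite G] in
theorem prime_idx (h1 : O ≤ K) (h2 : K ≤ S) (hp : (O.relIndex S).Prime) : K = O ∨ K = S := by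
  rw [← relIndex_mul_relIndex O K S h1 h2, Nat.prime_mul_iff] at hp
  exact hp.symm.imp (fun a => le_antisymm (relIndex_eq_one.1 a.2) h1) fun a => le_antisymm h2 (relIndex_eq_one.1 a.2)

theorem dvd6 (hO : IsPGroup 2 O) (h1 : O ≤ H) (i : O.relIndex H = 6) {p : ℕ} (hp : p.Prime) (d : p ∣ Nat.card H) :
    p = 2 ∨ p = 3 := by
  rw [← BG.card_mul_relIndex h1, i, hp.dvd_mul, show 6 = 2 * 3 from rfl, hp.dvd_mul] at d
  rcases d with d | d | d
  exacts [.inl (pgroup_eq_of_dvd hO hp d), .inl ((Nat.prime_dvd_prime_iff_eq hp Nat.prime_two).1 d),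
    .inr ((Nat.prime_dvd_prime_iff_eq hp Nat.prime_three).1 d)]

/-- Proof: in `X` of `l.quot`, `O₅ = O₇ = 1`, `R = O₃(X)` has order `∣ 3` and `C(R) ≤ R` (`XQ.fit3`), `|X : C(R)| ∣ |Aut R| ∣ 2`. -/
theorem s3 (h : Om8 G) (l : Lo H O) (h23 : ∀ p, p.Prime → p ∣ Nat.card H → p = 2 ∨ p = 3)
    (h9 : ¬ 9 ∣ Nat.card H) : O.relIndex H ∣ 6 := by
  obtain ⟨X, _, _, π, o, q⟩ := l.quot h
  have e : O.relIndex H = Nat.card (⊤ : Subgroup X) := by rw [← o.relIndex_Q, pre_top]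
  have d : Nat.card (⊤ : Subgroup X) ∣ Nat.card H := e ▸ BG.relIndex_dvd_card O H
  have : Fact (Nat.Prime 5) := ⟨Nat.prime_five⟩
  have : Fact (Nat.Prime 7) := ⟨by norm_num⟩
  have k : ∀ r, [Fact r.Prime] → 3 < r → 𝐎({r}, (⊤ : Subgroup X)) = ⊥ := fun r hr a => by_contra fun n => by
    have := h23 r hr.out (((pgroup_dvd_card (pcore_pgroup r _) n).trans (card_dvd le_top)).trans d)
    omega
  have c := q.fit3 (k 5 (by norm_num)) (k 7 (by norm_num))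
  obtain ⟨j, hj⟩ := IsPGroup.iff_card.1 (pcore_pgroup 3 (⊤ : Subgroup X))
  rw [e, ← BG.card_mul_relIndex (le_top (a := 𝐂(𝐎({3}, (⊤ : Subgroup X)))))]
  rcases j with _ | _ | j
  · rw [card_eq_one.1 hj] at c ⊢
    rw [le_bot_iff.1 c, card_bot, ← le_bot_iff.1 c, cent_bot, relIndex_self]
    norm_num
  · exact mul_dvd_mul (b := 3) (d := 3 - 1) ((card_dvd c).trans (by rw [hj]; rfl))
      (index_cent_prime_dvd hj (pcore_nml _ _).norm)
  · exact (h9 (((Dvd.intro (3 ^ j) (by rw [hj]; ring)).trans (card_dvd (pcore_le {3} ⊤))).trans d)).elim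

/-- Proof: `|H : O| = |H : S| |S : O| ∣ 6`.  If `|S : O| = 2` then `|H : S| ≠ 1`, else `S = H ≤ O` by `l.mx`. -/
theorem s3' (l : Lo H O) (hS : Syl 2 S H) (h6 : O.relIndex H ∣ 6) : S = O ∨ S3o H O S := by
  have OS := l.le_syl hS
  rw [← relIndex_mul_relIndex O S H OS hS.le] at h6
  have n3 : ¬ 3 ∣ O.relIndex S := fun d =>
    absurd (pgroup_eq_of_dvd hS.pgroup Nat.prime_three (d.trans (BG.relIndex_dvd_card O S))) (by norm_num)
  have n1 : O.relIndex S = 1 ∨ O.relIndex S = 2 := by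
    have a := (Dvd.intro _ rfl).trans h6
    have := Nat.le_of_dvd (by norm_num) a
    interval_cases O.relIndex S <;> simp_all
  rcases n1 with a | a
  · exact .inl (le_antisymm (relIndex_eq_one.1 a) OS)
  rw [a] at h6
  rcases (Nat.dvd_prime Nat.prime_three).1 (Nat.dvd_of_mul_dvd_mul_left two_pos h6) with b | b
  · exact .inl (le_antisymm (l.mx S hS.pgroup ⟨hS.le, le_norm_of_le (relIndex_eq_one.1 b)⟩) OS)
  · exact .inr ⟨l, hS, a, b⟩

/-- Proof: `|H| = 6 |O|`, so `H` is a `{2,3}`-group (`Om8.sol23`).  A normal `2`-subgroup `U` lies in `S`; if `U ≰ O` then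
`S = O ⊔ U ⊴ H`. -/
theorem S3o.of (n : Nml O H) (hS : IsPGroup 2 S) (h1 : O ≤ S) (h2 : S ≤ H) (i2 : O.relIndex S = 2)
    (i3 : S.relIndex H = 3) (h3 : ¬ H ≤ 𝐍(S)) (h4 : H ⊓ 𝐂(O) ≤ O) : S3o H O S := by
  have sy : Syl 2 S H := Syl.mk' h2 hS (by rw [i3]; norm_num)
  refine ⟨⟨⟨hS.to_le h1, n, h4, fun U a b => by_contra fun c => ?_⟩, Om8.sol23 fun p => dvd6 (hS.to_le h1) n.le
    (by rw [← relIndex_mul_relIndex O S H h1 h2, i2, i3])⟩, sy, i2, i3⟩
  rcases prime_idx le_sup_left (sup_le h1 (sy.ge_of_nml b (PiGrp.p_iff.2 a))) (i2 ▸ Nat.prime_two) with e | e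
  · exact c (le_sup_right.trans e.le)
  · exact h3 (e ▸ (n.sup b).norm)

namespace S3o

variable (s : S3o H O S)
include s

theorem OS : O ≤ S := s.toLo.le_syl s.syl

theorem i6 : O.relIndex H = 6 := by
  rw [← relIndex_mul_relIndex O S H s.OS s.syl.le, s.i2, s.i3]

theorem not9 : ¬ 9 ∣ Nat.card H := by
  obtain ⟨k, e⟩ := IsPGroup.iff_card.1 s.pg
  rw [← BG.card_mul_relIndex s.nml.le, s.i6, e, show 2 ^ k * 6 = 3 * 2 ^ (k + 1) by ring]
  exact fun d => absurd (Nat.prime_three.dvd_of_dvd_pow (Nat.dvd_of_mul_dvd_mul_left three_pos d)) (by norm_num)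

theorem ex3 : ∃ x ∈ H, orderOf x = 3 := by
  obtain ⟨x, hx⟩ := exists_prime_orderOf_dvd_card' (G := H) 3 (s.i3 ▸ BG.relIndex_dvd_card S H)
  exact ⟨x, x.2, (orderOf_coe x).trans hx⟩

theorem nmem3 (hx : orderOf x = 3) : x ∉ S := by
  exact fun a => absurd (pgroup_eq_of_dvd s.syl.pgroup Nat.prime_three (hx ▸ S.orderOf_dvd_natCard a)) (by norm_num)

theorem max (h1 : S ≤ K) (h2 : K ≤ H) : K = S ∨ K = H := by
  exact prime_idx h1 h2 (s.i3 ▸ Nat.prime_three)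

/-- `S` is not normal in `H` (else `S ≤ O` by `mx`), so it is self-normalising by `max`. -/
theorem nS : H ⊓ 𝐍(S) ≤ S := by
  rcases s.max (le_inf s.syl.le (le_norm S)) inf_le_left with e | e
  · exact e.le
  · have := relIndex_eq_one.2 (s.mx S s.syl.pgroup ⟨s.syl.le, e.ge.trans inf_le_right⟩)
    rw [s.i2] at this
    omega

theorem sup_eq (h1 : D ≤ S) (h2 : ¬ D ≤ O) : O ⊔ D = S := by
  exact (prime_idx le_sup_left (sup_le s.OS h1) (s.i2 ▸ Nat.prime_two)).resolve_left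
    fun e => h2 (le_sup_right.trans e.le)

/-- Proof: else `S ⊓ g S g⁻¹ = S` (`sup_eq`), contrary to `nS`. -/
theorem cap (hg : g ∈ H) (g1 : g ∉ S) : S ⊓ g ⋆ S ≤ O := by
  by_contra n
  have e : S ≤ g ⋆ S := (s.sup_eq inf_le_left n).ge.trans
    (sup_le ((s.nml.conj_eq hg).ge.trans (map_mono s.OS)) inf_le_right)
  exact g1 (s.nS ⟨hg, norm_of_conj_eq (eq_of_le_of_card_le e (card_conj g S).le).symm⟩)

/-- Proof: `K = O⟨x⟩` has index `2` in `H`, so `t x t⁻¹ ∈ {x, x⁻¹} O`; in the first case `x` normalises `S = O⟨t⟩`. -/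
theorem inv (hx : orderOf x = 3) (xH : x ∈ H) (ht : t ∈ S) (t1 : t ∉ O) : t * x * t⁻¹ * x ∈ O := by
  have n : zpowers x ≤ 𝐍(O) := (zpowers_le.2 xH).trans s.nml.norm
  have sd := SD.of_coprime n (L72.cop s.pg (L72.odd3 hx)).symm
  have le : O ⊔ zpowers x ≤ H := sup_le s.nml.le (zpowers_le.2 xH)
  have i := relIndex_mul_relIndex _ _ _ le_sup_left le
  rw [sd.relIndex_left, Nat.card_zpowers, hx, s.i6] at i
  have tH := s.syl.le ht
  have nn := (normal_subgroupOf_iff_le_normalizer le).1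
    (normal_of_index_eq_two (show (O ⊔ zpowers x).relIndex H = 2 by omega))
  obtain ⟨o, ho, y, hy, e⟩ := sd.mem (conj_mem_of_norm (nn tH) (mem_sup_right (mem_zpowers x)))
  rcases L72.mem3 hx hy with rfl | rfl | rfl
  · rw [mul_one] at e
    exact (s.nmem3 hx (s.OS ((mem_normalizer_iff.1 (s.nml.norm tH) x).2 (e ▸ ho)))).elim
  · refine (t1 ((mem_normalizer_iff.1 (s.nml.norm xH) t).2 (s.cap xH (s.nmem3 hx) ⟨?_, t, ht, rfl⟩))).elim
    rw [show y * t * y⁻¹ = o⁻¹ * (o * y) * t * y⁻¹ by group, e, show o⁻¹ * (t * y * t⁻¹) * t * y⁻¹ = o⁻¹ * t by group]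
    exact S.mul_mem (inv_mem (s.OS ho)) ht
  · rwa [← e, inv_mul_cancel_right]

/-- Proof: `L = D ⊔ g D g⁻¹` is not a `2`-group: otherwise `O ⊔ L ⊇ S, g S g⁻¹` is a `2`-subgroup of `H`, so equals `S`, against
`nS`.  `|L|` divides `|H| = 6 |O|`; Cauchy. -/
theorem gen (h1 : D ≤ S) (h2 : ¬ D ≤ O) (hg : g ∈ H) (g1 : g ∉ S) : ∃ x ∈ D ⊔ g ⋆ D, orderOf x = 3 := by
  by_contra n
  have le : D ⊔ g ⋆ D ≤ H := sup_le (h1.trans s.syl.le) (conj_le_of_mem (h1.trans s.syl.le) hg)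
  have p : IsPGroup 2 ↥(D ⊔ g ⋆ D) := PiGrp.p_iff.1 fun p hp d =>
    (dvd6 s.pg s.nml.le s.i6 hp (d.trans (card_dvd le))).resolve_right (by
      rintro rfl
      obtain ⟨x, hx⟩ := exists_prime_orderOf_dvd_card' 3 d
      exact n ⟨x, x.2, (orderOf_coe x).trans hx⟩)
  have e := s.syl.eq_of_le_pgroup ((s.sup_eq h1 h2).ge.trans (sup_le_sup_left le_sup_left O)) (sup_le s.nml.le le)
    (pgroup_sup s.pg p (le.trans s.nml.norm))
  have := (le_inf ((le_sup_right.trans le_sup_right).trans e.ge) (map_mono h1)).trans (s.cap hg g1)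
  exact h2 fun d hd => (mem_normalizer_iff.1 (s.nml.norm hg) d).2 (this ⟨d, hd, rfl⟩)

end S3o

end Cfsg.Lib.O8E
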