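import Cfsg.Agent.Lib.O8E.Bs
import Cfsg.Agent.Lib.O8E.F1b
import Cfsg.Agent.Lib.O8E.S3

/-!
# Type `A₅`: the centraliser of `Ω₁Z(S)`
-/

set_option autoImplicit false

namespace Cfsg.Lib.O8E

open Subgroup Cfsg.Lib Cfsg.Lib.BG Cfsg.Lib.Transfer Cfsg.Lib.PLocal Cfsg.Lib.Loc
open scoped commutatorElement

universe u v

variable {G : Type u} [Group G] [Finite G] {M O Q S : Subgroup G} {y t : G}

/-- Proof: `C = C(Zo S)`; `y` normalises `Zo S, C, O` (`O` is the largest normal `2`-subgroup: `mx`) and `y ∉ C` (`cm`, `y ∉ S`).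
`|Z ⊓ C(y)| ≡ |Z| mod 3` and `|Z| ≤ 4` give `Z ⊓ C(y) = 1`.  A Sylow `3`-subgroup `R ∋ y` of `C⟨y⟩` meets `C` in a normal subgroup
`⟨x⟩` of order `3` (`not9`, `ex3`), so `x y = y x` and `E9 x y`.  For `u ∈ S ∖ O`, `[u,y] ∈ O` (index `2`); `f1b` gives
`u' = o u ∈ C(y)` centralising `W = O ⊓ C(y)`; `S3o.inv` and `refl3` give `W ≤ C(x)`, `e9c` gives `W ≤ C(O)`; so `W ≤ Zo S ⊓ C(y) = 1`.
Hence `|S ⊓ C(y)| = 2`, and `S ⊓ C(y) = Q ⊓ C(y)` by `yf`, against `c2`. -/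
theorem a5k (h : Om8 G) (b : Bs M Q S) (a : TA M Q S y t) (bad : Bad M S O) (e : Nat.card (Zo S) ≤ 4) : False := by
  have s := bad.s3
  have p3 : IsPGroup 3 (zpowers y) := .of_card (n := 1) (by rw [Nat.card_zpowers, a.y3, pow_one])
  have md : ∀ {T : Subgroup G}, zpowers y ≤ 𝐍(T) → Nat.card T ≡ Nat.card ↥(T ⊓ 𝐂[y]) [MOD 3] := fun n =>
    cent_zpowers y ▸ card_modEq_card_inf_centralizer p3 n
  have yZ : zpowers y ≤ 𝐍(Zo S) := (zpowers_le.2 a.yS).trans (normalizer_le_normalizer_oz S)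
  have yC := zpowers_le.1 (norm_cent yZ)
  have yO : y ∈ 𝐍(O) := norm_of_conj_eq (eq_of_le_of_card_le (s.mx _ ((pgroup_conj y).2 s.pg)
    (by simpa only [conj_eq_of_norm yC] using s.nml.conj y)) (card_conj y O).ge)
  have y1 : y ∉ 𝐂(Zo S) := fun H => s.nmem3 a.y3 (bad.cm ⟨H, a.yM⟩)
  have z0 : Zo S ⊓ 𝐂[y] = ⊥ := by
    have h1 := md yZ
    have h3 : Nat.card ↥(Zo S ⊓ 𝐂[y]) < Nat.card (Zo S) := not_le.1 fun H =>
      y1 (le_cent1_iff.1 ((eq_of_le_of_card_le inf_le_left H).ge.trans inf_le_right))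
    have h4 : 0 < Nat.card ↥(Zo S ⊓ 𝐂[y]) := Nat.card_pos
    rw [← card_eq_one]
    unfold Nat.ModEq at h1
    omega
  obtain ⟨x, hx⟩ := exists_prime_orderOf_dvd_card' (G := ↥(𝐂(Zo S) ⊓ 𝐂[y])) 3
    (((md (norm_cent yZ)).dvd_iff dvd_rfl).1 (s.i3 ▸ BG.relIndex_dvd_card S _))
  rw [← orderOf_coe] at hx
  obtain ⟨x, xC, xy⟩ := x
  have xO := s.nml.norm xC
  have two : ∀ {g k}, g ∈ S → k ∈ S → (g * k ∈ O ↔ (g ∈ O ↔ k ∈ O)) := fun hg hk =>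
    mul_mem_iff_of_index_two s.i2 (a := ⟨_, hg⟩) (b := ⟨_, hk⟩)
  obtain ⟨u, uS, uO⟩ := SetLike.not_le_iff_exists.1 fun H => by simpa [s.i2] using relIndex_eq_one.2 (H : S ≤ O)
  obtain ⟨o, ho, h1, h2⟩ := f1b h s.pg a.y3 yO (s.nml.norm (s.syl.le uS)) (L72.t2_of b.twoS uS) (by
    rw [show u * y * u⁻¹ * y⁻¹ = u * (y * u⁻¹ * y⁻¹) by group, two uS (conj_mem_of_norm a.yS (inv_mem uS)),
      ← mem_normalizer_iff.1 yO, inv_mem_iff])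
  have vS := mul_mem (s.OS ho) uS
  have vO : o * u ∉ O := fun H => uO ((O.mul_mem_cancel_left ho).1 H)
  generalize o * u = v at h1 h2 vS vO
  have w1 := refl3 h s.pg a.y3 hx (mem_cent1.1 xy).symm yO xO (s.nml.norm (s.syl.le vS)) (L72.t2_of b.twoS vS)
    (by rw [mem_cent1.1 h1]; simp) (s.inv hx xC vS vO)
  have w2 := e9c h s.pg ⟨a.y3, hx, (mem_cent1.1 xy).symm, fun H => y1 (zpowers_le.2 xC H)⟩ yO xO
  have w3 : ∀ g ∈ O, g ∈ 𝐂[y] → g = 1 := fun g hg hy => z0.le ⟨mem_zo.2 ⟨s.OS hg, by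
    rw [← s.sup_eq (zpowers_le.2 vS) (mt zpowers_le.1 vO), cent_sup, cent_zpowers]
    exact ⟨w2 ⟨⟨hg, hy⟩, w1 ⟨hg, hy⟩⟩, mem_cent1.2 (mem_cent.1 h2 g ⟨hg, hy⟩)⟩,
    sq g ▸ PGroup.elemAb_two_iff.1 (h.elem_cent s.pg a.y3) g ⟨hg, hy⟩⟩, hy⟩
  have q : ∀ g ∈ S, g ∈ 𝐂[y] → g ∈ Q := fun g hg hy => a.yf g hg (by rw [mem_cent1.1 hy]; simp)
  refine a.c2 ((Nat.card_eq_two_iff' 1).2 ⟨⟨v, q v vS h1, h1⟩, fun H => vO ?_, fun g hg => Subtype.ext ?_⟩)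
  · rw [show v = 1 from congrArg Subtype.val H]
    exact one_mem O
  · have gS := b.QS g.2.1
    exact (inv_mul_eq_one.1 (w3 _ ((two (inv_mem vS) gS).2 (iff_of_false (mt inv_mem_iff.1 vO) fun H =>
      hg (Subtype.ext (w3 _ H g.2.2)))) (mul_mem (inv_mem h1) g.2.2))).symm

end Cfsg.Lib.O8E
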