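import Cfsg.Agent.Lib.O8E.Def

/-!
# Maximal nonsolvable `2`-locals: basic facts
-/

set_option autoImplicit false

namespace Cfsg.Lib.O8E

open Subgroup Cfsg.Lib Cfsg.Lib.BG Cfsg.Lib.Transfer Cfsg.Lib.PLocal Cfsg.Lib.Loc
open scoped commutatorElement

universe u v

variable {G : Type u} [Group G] [Finite G] {D E M Q S T Y : Subgroup G} {d f : G}

/-- (`card_modEq_card_inf_centralizer`, `h.fpf`; pattern `Spec2.Om6.exists_lc`.) -/
theorem Om8.cmod (h : Om8 G) {r : ℕ} (hr : r = 5 ∨ r = 7) (hf : orderOf f = r) (hY : IsPGroup 2 Y) (n : f ∈ 𝐍(Y)) :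
    Nat.card Y % r = 1 := by
  have : Fact r.Prime := ⟨by rcases hr with rfl | rfl <;> norm_num⟩
  have := card_modEq_card_inf_centralizer (q := r) (A := zpowers f)
    (.of_card (n := 1) (by rw [Nat.card_zpowers, hf, pow_one])) (zpowers_le.2 n)
  rw [cent_zpowers, h.fpf hY (hf ▸ hr), card_bot] at this
  rw [this]
  rcases hr with rfl | rfl <;> rfl

/-- Proof: with `c, n` the two orders, `c² ≤ n` and `c ≤ n` give `c³ ≤ n²`. -/
theorem Bd.mono (b : Bd M Q S 1) : Bd M Q S 2 := by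
  intro a ha a1 a2 Y hY n
  have := b a ha a1 a2 Y hY n
  rw [pow_one] at this
  rw [pow_succ, pow_two (Nat.card Y)]
  exact Nat.mul_le_mul this (card_le_of_le inf_le_left)

namespace Bs

variable (b : Bs M Q S)
include b

theorem twoS : IsPGroup 2 S := b.syl.pgroup

theorem two : IsPGroup 2 Q := pgroup_of_le b.syl.pgroup b.QS

omit [Finite G] in
theorem SM : S ≤ M := b.syl.le

theorem eN : 𝐍(Q) = M := le_antisymm (b.mx Q b.two b.ne b.nQ.norm) b.nQ.norm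

omit [Finite G] in
theorem nV : M ≤ 𝐍(Zo Q) := b.nQ.norm.trans (normalizer_le_normalizer_oz Q)

theorem V1 : Zo Q ≠ ⊥ := oz_ne_bot b.two b.ne

theorem Z1 : Zo S ≠ ⊥ := oz_ne_bot b.twoS (ne_bot_mono b.ne b.QS)

theorem NV : 𝐍(Zo Q) ≤ M := b.mx _ (PGroup.elemAb_isPGroup (oz_elemAb Q)) b.V1 b.nV

/-- (`mem_zo`, `cQ`.) -/
theorem Zeq (hT : Q ≤ T) : Zo T = Zo Q ⊓ 𝐂(T) := by
  ext x
  rw [mem_inf, mem_zo, mem_zo]
  exact ⟨fun k => ⟨⟨b.cQ (cent_anti hT k.2.1), cent_anti hT k.2.1, k.2.2⟩, k.2.1⟩, fun k => ⟨hT k.1.1, k.2, k.1.2.2⟩⟩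

/-- Take `a ∈ E ∖ Q` and the last power `a ^ 2 ^ k ∉ Q`. -/
theorem exinv (hE : E ≤ S) (e : ¬ E ≤ Q) : ∃ a ∈ E, a ∉ Q ∧ a * a ∈ Q := by
  obtain ⟨a, ha, a1⟩ := SetLike.not_le_iff_exists.1 e
  obtain ⟨k, hk⟩ := L72.t2_of b.twoS (hE ha)
  induction k generalizing a with
  | zero => exact (a1 (by rw [pow_zero, pow_one] at hk; exact hk ▸ one_mem _)).elim
  | succ k ih =>
    by_cases a2 : a * a ∈ Q
    · exact ⟨a, ha, a1, a2⟩
    · exact ih _ (mul_mem ha ha) a2 (by rw [← pow_two, ← pow_mul, ← pow_succ', hk])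

/-- Proof: `S` is Sylow in `N(S)` (`Syl.of_le`), then `S` is Sylow in `G` (normalisers grow in `2`-groups). -/
theorem sylTop (e : 𝐍(S) ≤ M) : Syl 2 S ⊤ := by
  exact b.syl.of_norm_le le_top (inf_le_right.trans e)

/-- A `2`-subgroup over `S` meets `M` in `S`. -/
theorem inf_le (hT : IsPGroup 2 T) (e : S ≤ T) : T ⊓ M ≤ S := by
  exact (b.syl.eq_of_le_pgroup (le_inf e b.SM) inf_le_right (pgroup_of_le hT inf_le_left)).ge

variable (h : Om8 G)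
include h

/-- Proof: `M ⊓ C(Y) ⊴ M` is not contained in `Q`; `clo` and `h.fpf`. -/
theorem cen0 (hY : IsPGroup 2 Y) (n : M ≤ 𝐍(Y)) (hd : d ∈ M) (d1 : d ∉ Q) (e : d ∈ 𝐂(Y)) : Y = ⊥ := by
  obtain ⟨f, hf, o⟩ := b.clo (M ⊓ 𝐂(Y)) ⟨inf_le_left, norm_inf (le_norm M) (norm_cent n)⟩ fun k => d1 (k ⟨hd, e⟩)
  rw [← h.fpf hY o, inf_eq_left.2 (le_cent1_iff.2 hf.2)]

theorem cV : 𝐂(Zo Q) ≤ Q := by
  exact fun d hd => by_contra fun d1 => b.V1 (b.cen0 h (PGroup.elemAb_isPGroup (oz_elemAb Q)) b.nV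
    (b.NV (cent_le_norm _ hd)) d1 hd)

/-- Proof: `{m ∈ M | ∀ q ∈ Q, [m,q] ∈ V}` is normal in `M`, so contains `f` of order `5` or `7` (`clo`); every `q ∈ Q` is
`x⁻¹ ⬝ f x f⁻¹`-shaped with `x ∈ Q` (`Frobenius.exists_conj_eq_mul`, or `L72.fixc` with `N := V`). -/
theorem cen (hd : d ∈ M) (d1 : d ∉ Q) (e : ∀ q ∈ Q, d * q * d⁻¹ * q⁻¹ ∈ Zo Q) : Q ≤ Zo Q := by
  have c := fun g (hg : g ∈ M) v (hv : v ∈ Zo Q) => conj_mem_of_norm (b.nV hg) hv
  let D : Subgroup G :=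
    { carrier := {m | m ∈ M ∧ ∀ q ∈ Q, m * q * m⁻¹ * q⁻¹ ∈ Zo Q}
      one_mem' := ⟨one_mem _, fun q _ => by simp [one_mem]⟩
      mul_mem' := fun {m n} hm hn => ⟨mul_mem hm.1 hn.1, fun q hq => by
        convert mul_mem (c m hm.1 _ (hn.2 q hq)) (hm.2 q hq) using 1; group⟩
      inv_mem' := fun {m} hm => ⟨inv_mem hm.1, fun q hq => by
        convert c _ (inv_mem hm.1) _ (inv_mem (hm.2 q hq)) using 1; group⟩ }
  obtain ⟨f, hf, o⟩ := b.clo D ⟨fun _ k => k.1, le_norm_iff.2 fun g hg m hm => ⟨conj_mem_of_norm (le_norm M hg) hm.1, fun q hq => by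
    convert c g hg _ (hm.2 _ (conj_mem_of_norm' (b.nQ.norm hg) hq)) using 1; group⟩⟩ fun k => d1 (k ⟨hd, e⟩)
  intro q hq
  obtain ⟨n, hn, k⟩ := L72.fixc (PGroup.elemAb_isPGroup (oz_elemAb Q)) (by rcases o with o | o <;> rw [o] <;> decide)
    (b.nV hf.1) (hf.2 q hq)
  have : n * q = 1 := (h.fpf b.two o).le ⟨mul_mem (oz_le Q hn) hq, mem_cent1.2 k⟩
  exact eq_inv_of_mul_eq_one_right this ▸ inv_mem hn

/-- (`clo` for `D = M`, `cmod`, `|V|` is a power of `2`, `≠ 1`.) -/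
theorem eight : 8 ≤ Nat.card (Zo Q) := by
  obtain ⟨f, hf, o⟩ := b.clo M ⟨le_rfl, le_norm M⟩ fun k => b.out (b.SM.trans k)
  have p := PGroup.elemAb_isPGroup (oz_elemAb (p := 2) Q)
  have c := h.cmod o rfl p (b.nV hf)
  have c1 := card_ne_one b.V1
  obtain ⟨k, e⟩ := IsPGroup.iff_card.1 p
  rw [e] at c c1 ⊢
  by_contra n
  have : k < 3 := (Nat.pow_lt_pow_iff_right (by norm_num : 1 < 2)).1 (by omega)
  rcases o with o | o <;> rw [o] at c <;> interval_cases k <;> omega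

theorem card16 (five : ∃ f ∈ M, orderOf f = 5) (e : Nat.card (Zo Q) ≤ 64) : Nat.card (Zo Q) = 16 := by
  obtain ⟨f, hf, o⟩ := five
  have p := PGroup.elemAb_isPGroup (oz_elemAb (p := 2) Q)
  have c := h.cmod (.inl rfl) o p (b.nV hf)
  have c1 := card_ne_one b.V1
  obtain ⟨k, e'⟩ := IsPGroup.iff_card.1 p
  rw [e'] at c c1 e ⊢
  have : k ≤ 6 := (Nat.pow_le_pow_iff_right (by norm_num : 1 < 2)).1 e
  interval_cases k <;> omega

theorem card7 (seven : ∃ f ∈ M, orderOf f = 7) (e : Nat.card (Zo Q) ≤ 64) :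
    Nat.card (Zo Q) = 8 ∨ Nat.card (Zo Q) = 64 := by
  obtain ⟨f, hf, o⟩ := seven
  have p := PGroup.elemAb_isPGroup (oz_elemAb (p := 2) Q)
  have c := h.cmod (.inr rfl) o p (b.nV hf)
  have c1 := card_ne_one b.V1
  obtain ⟨k, e'⟩ := IsPGroup.iff_card.1 p
  rw [e'] at c c1 e ⊢
  have : k ≤ 6 := (Nat.pow_le_pow_iff_right (by norm_num : 1 < 2)).1 e
  interval_cases k <;> omega

/-- Normal `2`-subgroups lie in `Q` (`clo`). -/
theorem le_Q (hD : IsPGroup 2 D) (n : Nml D M) : D ≤ Q := by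
  by_contra k
  obtain ⟨f, hf, o⟩ := b.clo D n k
  have := (h.fpf hD o).le ⟨hf, self_mem_cent1 f⟩
  rw [mem_bot.1 this, orderOf_one] at o
  omega

theorem chp : IsChP 2 M := by
  have e : pCoreOf 2 M = Q := le_antisymm (b.le_Q h (core_eq_pcore (p := 2) M ▸ pcore_pgroup 2 _) (core_nml 2 _))
    (core_eq_pcore (p := 2) M ▸ pcore_max_p b.two b.nQ)
  unfold IsChP
  rw [e]
  exact inf_le_right.trans b.cQ

end Bs

end Cfsg.Lib.O8E
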