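import Cfsg.Agent.Lib.O8E.FFa
import Cfsg.Agent.Lib.O8E.S3
import Cfsg.Agent.Lib.L72.SC

/-!
# Failure of factorisation in solvable locals
-/

set_option autoImplicit false

namespace Cfsg.Lib.O8E

open Subgroup Cfsg.Lib Cfsg.Lib.BG Cfsg.Lib.Transfer Cfsg.Lib.PLocal Cfsg.Lib.Loc
open scoped commutatorElement

universe u v

variable {G : Type u} [Group G] [Finite G] {H O T : Subgroup G} {a : G}

theorem ffs_num {U W : Subgroup G} (hW : IsPGroup 2 W) (l : U ≤ W) {r : ℕ} (hr : r.Prime) (h2 : r ≠ 2)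
    (e : Nat.card W ≡ Nat.card U [MOD r]) : r ∣ U.relIndex W - 1 := by
  obtain ⟨k, hk⟩ := IsPGroup.iff_card.1 (hW.to_le l)
  have c : (Nat.card U).Coprime r := hk ▸ ((Nat.coprime_primes Nat.prime_two hr).2 h2.symm).pow_left k
  rw [← BG.card_mul_relIndex l] at e
  exact (Nat.modEq_iff_dvd' (Nat.pos_of_ne_zero (index_ne_zero_of_finite (H := U.subgroupOf W)))).1
    (Nat.ModEq.cancel_left_of_coprime c.symm (e.trans (by rw [Nat.succ_eq_add_one, zero_add, mul_one]))).symm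

theorem ffs_mod {W : Subgroup G} {x : G} {r : ℕ} (hr : r.Prime) (hx : orderOf x = r) (xW : x ∈ 𝐍(W)) :
    Nat.card W ≡ Nat.card ↥(W ⊓ 𝐂[x]) [MOD r] := by
  have := Fact.mk hr
  rw [← cent_zpowers]
  exact card_modEq_card_inf_centralizer (.of_card (n := 1) (by rw [Nat.card_zpowers, hx, pow_one])) (zpowers_le.2 xW)

theorem ffs_zero (l : Lo H O) (hc : H ⊓ 𝐂(Zo O) ≤ O) (aH : a ∈ H)
    (e : Nat.card (Zo O) ≤ 2 * Nat.card ↥(Zo O ⊓ 𝐂[a])) {x : G} {r : ℕ} (hr : r.Prime) (h2 : r ≠ 2) (xH : x ∈ H)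
    (hx : orderOf x = r) (i : a * x * a⁻¹ * x ∈ O) : r = 3 ∧ Nat.card (Zo O) = 4 * Nat.card ↥(Zo O ⊓ 𝐂[x]) := by
  have OW : O ≤ 𝐂(Zo O) := le_centralizer_oz O
  have HW : H ≤ 𝐍(Zo O) := l.nml.norm.trans (normalizer_le_normalizer_oz O)
  have pW : IsPGroup 2 (Zo O) := l.pg.to_le (oz_le O)
  have ab : Zo O ≤ 𝐂(Zo O) := (oz_le O).trans OW
  obtain ⟨k, hk⟩ := hr.odd_of_ne_two h2
  have h1 : (Zo O ⊓ 𝐂[a]) ⊓ (Zo O ⊓ 𝐂[x * a * x⁻¹]) ≤ Zo O ⊓ 𝐂[x] := fun w ⟨⟨w1, w2⟩, _, w3⟩ => ⟨w1, by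
    have := mul_mem (mul_mem (inv_mem (cent_le_cent1 w1 (OW i))) (mem_cent1_symm w2)) (inv_mem (mem_cent1_symm w3))
    rw [show (a * x * a⁻¹ * x)⁻¹ * a * (x * a * x⁻¹)⁻¹ = (x ^ 2)⁻¹ by group, inv_mem_iff] at this
    have := pow_mem this (k + 1)
    rw [← pow_mul, show 2 * (k + 1) = orderOf x + 1 by omega, pow_succ, pow_orderOf_eq_one, one_mul] at this
    exact mem_cent1_symm this⟩
  have h3 := PGroup.card_sup_mul_card_inf (H := Zo O ⊓ 𝐂[a]) (K := Zo O ⊓ 𝐂[x * a * x⁻¹])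
    (norm_of_cent (cent_mono ab inf_le_left inf_le_left))
  rw [L72.card_cj (HW xH)] at h3
  have h4 := Nat.mul_le_mul (card_le_of_le (sup_le inf_le_left inf_le_left :
    (Zo O ⊓ 𝐂[a]) ⊔ (Zo O ⊓ 𝐂[x * a * x⁻¹]) ≤ Zo O)) (card_le_of_le h1)
  have h5 := BG.card_mul_relIndex (inf_le_left : Zo O ⊓ 𝐂[x] ≤ Zo O)
  have h6 := ffs_num pW inf_le_left hr h2 (ffs_mod hr hx (HW xH))
  have h7 : (Zo O ⊓ 𝐂[x]).relIndex (Zo O) ≠ 1 := fun e => by
    have := L72.T2.one (L72.t2_of l.pg (hc ⟨xH, le_cent1_iff.1 ((relIndex_eq_one.1 e).trans inf_le_right)⟩))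
      (hr.odd_of_ne_two h2) (hx ▸ pow_orderOf_eq_one x)
    rw [this, orderOf_one] at hx
    exact hr.ne_one hx.symm
  have p : 0 < Nat.card (Zo O) := Nat.card_pos
  have p' : 0 < Nat.card ↥(Zo O ⊓ 𝐂[x]) := Nat.card_pos
  generalize (Zo O ⊓ 𝐂[x]).relIndex (Zo O) = d at h5 h6 h7
  have h8 : Nat.card (Zo O) ≤ 4 * Nat.card ↥(Zo O ⊓ 𝐂[x]) :=
    Nat.le_of_mul_le_mul_left (by nlinarith [Nat.mul_le_mul e e]) p
  have h9 : d ≤ 4 := Nat.le_of_mul_le_mul_left (by omega) p'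
  have := hr.two_le
  interval_cases d
  · omega
  · omega
  · have := Nat.le_of_dvd (by norm_num) h6; omega
  · have := Nat.le_of_dvd (by norm_num) h6; omega
  · exact ⟨(Nat.prime_dvd_prime_iff_eq hr Nat.prime_three).1 h6, by omega⟩

/-- Proof: `W = Zo O`, `X` as in `l.quot`, `ā` an involution.  (0) If `x ∈ H` has order `r ∈ {3, 5, 7}` and `a x a⁻¹ x ∈ O` then
`W ⊓ C(a) ⊓ C(x a x⁻¹) ≤ C(a x a⁻¹ x⁻¹) = C(o x⁻²)`, so `|W : W ⊓ C(x)| ≤ 4`; it is `≠ 1` (`hc`) and `≡ 1 mod r`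
(`card_modEq_card_inf_centralizer`), so `r = 3` and the index is `4`.  (1) `ā` has no fixed point on `O₅(X), O₇(X)`, so inverts
them (`inverts_of_cent1_eq_bot`); by (0) (`Ov.lift_odd`) they are trivial and `C(R) ≤ R = O₃(X)` (`XQ.fit3`).
(2) `R ⊓ C(ā) = 1`: else lift to `x` of order `3`, `f1b` gives `o a ∈ C(x)` centralising `W ⊓ C(x)`; `W₁ = W ⊓ C(a) = W ⊓ C(o a)`
is `x`-invariant of index `≤ 2`, so `x w x⁻¹ w⁻¹ ∈ W₁`, `L72.fixc` gives `W = W₁ (W ⊓ C(x)) ≤ C(a)`, against `hc`.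
(3) So `ā` inverts `R`.  If `9 ∣ |R|` lift an `E9 x y`; by (0) the four fixed point groups have index `4` in `W`, and
`L72.E9.cnt` reads `n + 3 k = 4 (n - 2)`, impossible mod `3`.  So `|R| ∣ 3`, `|X| ∣ 6`, and `s3'` (`T ≠ O`). -/
theorem s3_of_transv (h : Om8 G) (l : Lo H O) (hT : Syl 2 T H) (hc : H ⊓ 𝐂(Zo O) ≤ O) (aT : a ∈ T) (a1 : a ∉ O)
    (a2 : a * a ∈ O) (e : Nat.card (Zo O) ≤ 2 * Nat.card ↥(Zo O ⊓ 𝐂[a])) : S3o H O T := by
  have OW : O ≤ 𝐂(Zo O) := le_centralizer_oz O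
  have HW : H ≤ 𝐍(Zo O) := l.nml.norm.trans (normalizer_le_normalizer_oz O)
  have pW : IsPGroup 2 (Zo O) := l.pg.to_le (oz_le O)
  have aH := hT.le aT
  obtain ⟨X, _, _, π, o, q⟩ := l.quot h
  have b1 : π ⟨a, aH⟩ ≠ 1 := fun e => a1 ((o.ker _).1 e)
  have b2 : π ⟨a, aH⟩ * π ⟨a, aH⟩ = 1 := by rw [← map_mul]; exact (o.ker _).2 a2
  have nm : ∀ r, π ⟨a, aH⟩ ∈ 𝐍(𝐎({r}, (⊤ : Subgroup X))) := fun r => (pcore_nml _ _).norm (mem_top _)
  have od : ∀ {r : ℕ}, r.Prime → r ≠ 2 → ∀ y ∈ 𝐎({r}, (⊤ : Subgroup X)), y ≠ 1 → orderOf y = r := fun hr h2 y hy y1 =>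
    have := Fact.mk hr
    orderOf_eq_prime (q.om.pow_odd hr h2 (pcore_pgroup _ _) hy) y1
  have iv : ∀ {r : ℕ}, 𝐎({r}, (⊤ : Subgroup X)) ⊓ 𝐂[π ⟨a, aH⟩] = ⊥ → ∀ g : H, π g ∈ 𝐎({r}, (⊤ : Subgroup X)) →
      a * g * a⁻¹ * g ∈ O := fun c g hg => (o.ker (⟨a, aH⟩ * g * ⟨a, aH⟩⁻¹ * g)).1 (by
    rw [map_mul, map_mul, map_mul, map_inv, inverts_of_cent1_eq_bot b2 (nm _) c hg, inv_mul_cancel])
  have big : ∀ r, r = 5 ∨ r = 7 → 𝐎({r}, (⊤ : Subgroup X)) = ⊥ := fun r hr => by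
    have p : r.Prime := by rcases hr with rfl | rfl <;> norm_num
    have h2 : r ≠ 2 := by omega
    refine eq_bot_iff.2 fun y hy => by_contra fun y1 => ?_
    obtain ⟨g, rfl, hg⟩ := o.lift_odd l.pg p h2 (od p h2 y hy y1)
    have := (ffs_zero l hc aH e p h2 g.2 hg (iv (eq_bot_iff.2 fun z hz => by_contra fun z1 => b1 (q.om.big hr
      (od p h2 z hz.1 z1) (fun d => ?_) (mem_cent1.1 hz.2).symm)) g hy)).1
    · omega
    · have := Nat.le_of_dvd two_pos (d.trans (orderOf_dvd_of_pow_eq_one ((pow_two _).trans b2)))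
      omega
  have c3 : 𝐎({3}, (⊤ : Subgroup X)) ⊓ 𝐂[π ⟨a, aH⟩] = ⊥ := eq_bot_iff.2 fun y hy => by_contra fun y1 => by
    obtain ⟨x, rfl, hx⟩ := o.lift_odd l.pg Nat.prime_three (by norm_num) (od Nat.prime_three (by norm_num) y hy.1 y1)
    obtain ⟨n, nO, n1, n2⟩ := f1b h l.pg hx (l.nml.norm x.2) (l.nml.norm aH) (L72.t2_of hT.pgroup aT)
      ((o.ker (⟨a, aH⟩ * x * ⟨a, aH⟩⁻¹ * x⁻¹)).1 (by
        rw [map_mul, map_mul, map_mul, map_inv, map_inv, ← mem_cent1.1 hy.2]; group))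
    have e1 := ffa_cent (e := a) (OW nO)
    have m1 := ffs_mod Nat.prime_three hx (HW x.2)
    have m2 := ffs_mod Nat.prime_three hx (W := Zo O ⊓ 𝐂[n * a])
      (zpowers_le.1 (norm_inf (zpowers_le.2 (HW x.2)) (norm_cent1 (zpowers_le.2 (mem_cent1_symm n1)))))
    rw [inf_right_comm, inf_eq_left.2 ((inf_le_inf_right _ (oz_le O)).trans (le_cent1_iff.2 n2)), e1] at m2
    have h6 := ffs_num pW inf_le_left Nat.prime_three (by norm_num) (m1.trans m2.symm)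
    have h5 := BG.card_mul_relIndex (inf_le_left : Zo O ⊓ 𝐂[a] ≤ Zo O)
    have h7 : (Zo O ⊓ 𝐂[a]).relIndex (Zo O) ≠ 1 := fun e =>
      a1 (hc ⟨aH, le_cent1_iff.1 ((relIndex_eq_one.1 e).trans inf_le_right)⟩)
    have p : 0 < Nat.card (Zo O) := Nat.card_pos
    have p' : 0 < Nat.card ↥(Zo O ⊓ 𝐂[a]) := Nat.card_pos
    generalize (Zo O ⊓ 𝐂[a]).relIndex (Zo O) = d at h5 h6 h7
    have h9 : d ≤ 2 := Nat.le_of_mul_le_mul_left (by omega) p'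
    interval_cases d <;> omega
  have n9 : ¬ 9 ∣ Nat.card 𝐎({3}, (⊤ : Subgroup X)) := fun d => by
    obtain ⟨y, hy, z, hz, e8⟩ := exists_e9 q.om d
    obtain ⟨x, x', rfl, rfl, e9⟩ := o.lift_e9 l.pg e8
    have key : ∀ g : H, orderOf (g : G) = 3 → π g ∈ 𝐎({3}, (⊤ : Subgroup X)) →
        (Nat.card (Zo O)).factorization 2 = 2 + (Nat.card ↥(Zo O ⊓ 𝐂[(g : G)])).factorization 2 := fun g g3 hg => by
      rw [(ffs_zero l hc aH e Nat.prime_three (by norm_num) g.2 g3 (iv c3 g hg)).2,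
        Nat.factorization_mul (by norm_num) Nat.card_pos.ne', Finsupp.add_apply,
        show 4 = 2 ^ 2 from rfl, Nat.prime_two.factorization_pow, Finsupp.single_eq_same]
    have m1 : (x : G) ∈ zpowers (x : G) ⊔ zpowers (x' : G) := mem_sup_left (mem_zpowers _)
    have m2 : (x' : G) ∈ zpowers (x : G) ⊔ zpowers (x' : G) := mem_sup_right (mem_zpowers _)
    have k1 := key x e9.ox hy
    have k2 := key x' e9.oy hz
    have k3 := key (x * x') (orderOf_eq_prime (e9.cube (mul_mem m1 m2)) fun e => e9.n (by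
      rw [eq_inv_of_mul_eq_one_left e]; exact inv_mem (mem_zpowers _))) (by rw [map_mul]; exact mul_mem hy hz)
    have k4 := key (x * x'⁻¹) (orderOf_eq_prime (e9.cube (mul_mem m1 (inv_mem m2))) fun e => e9.n (by
      rw [mul_inv_eq_one.1 e]; exact mem_zpowers _)) (by rw [map_mul, map_inv]; exact mul_mem hy (inv_mem hz))
    have := e9.cnt pW (HW x.2) (HW x'.2)
    simp only [coe_mul, coe_inv] at k3 k4
    omega
  have fit := q.fit3 (big 5 (.inl rfl)) (big 7 (.inr rfl))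
  have nR := (pcore_nml {3} (⊤ : Subgroup X)).norm
  obtain ⟨j, hj⟩ := IsPGroup.iff_card.1 (pcore_pgroup 3 (⊤ : Subgroup X))
  generalize 𝐎({3}, (⊤ : Subgroup X)) = R at fit nR hj n9
  have j1 : j ≤ 1 := by_contra fun hj' => n9 (hj ▸ pow_dvd_pow 3 (by omega : 2 ≤ j))
  have d3 : Nat.card R ∣ 3 := hj ▸ pow_dvd_pow 3 j1
  have cyc : IsCyclic R := isCyclic_of_card_dvd_prime d3
  have i2 : 𝐂(R).index ∣ 2 := by
    have := card_subgroup_dvd_card R.normalizerMonoidHom.range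
    rw [← index_ker, normalizerMonoidHom_ker, cyc.card_mulAut, ← relIndex, top_le_iff.1 nR, relIndex_top_right, hj] at this
    refine this.trans ?_
    interval_cases j <;> decide
  refine (s3' l hT ?_).resolve_left fun e => a1 (e ▸ aT)
  rw [← pre_top (ρ := π), o.relIndex_Q, card_top, ← 𝐂(R).card_mul_index]
  exact mul_dvd_mul ((card_dvd fit).trans d3) i2

theorem ffs (h : Om8 G) (l : Lo H O) (hT : Syl 2 T H) (hc : H ⊓ 𝐂(Zo O) ≤ O) (hJ : ¬ Jt T ≤ O) : S3o H O T :=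
  let ⟨_, a, b, c, d⟩ := transv h l hT hc hJ
  s3_of_transv h l hT hc a b c d

end Cfsg.Lib.O8E
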