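import Cfsg.Agent.Lib.O8E.TDa
import Cfsg.Agent.Lib.O8E.FFs

/-!
# The centraliser of `Ω₁Z(S)` when it contains a parabolic
-/

set_option autoImplicit false

namespace Cfsg.Lib.O8E

open Subgroup Cfsg.Lib Cfsg.Lib.BG Cfsg.Lib.Transfer Cfsg.Lib.PLocal Cfsg.Lib.Loc
open scoped commutatorElement

universe u v

variable {G : Type u} [Group G] [Finite G] {M Q S O₁ O₂ P₁ P₂ : Subgroup G} {y₁ y₂ : G}

/-- Proof: `C = C(Zo S)`, `O = O₂(C)` (`h.lo_cent`).  If `9 ∤ |C|`: `|C : O| ∣ 6` (`s3`), `O ⊓ P₁ ≤ O₁` (`t.s3o.mx`), `|P₁ : O₁| = 6`, so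
`O ⊓ P₁ = O₁` and `P₁ O = C`.  Let `9 ∣ |C|`, `S ≤ T ∈ Syl₂(C)`; `Zo T ≤ Zo S` (`zo_le_zo`, `b.cQ`), so `O` is elementary (`e9el`).
`[V, y₁] ≤ O` (`a4`), `Zo S ≤ O`, and `L72.fixc` (`N := V ⊓ O`) with `cy` give `V ≤ O`, so `O ≤ C(V) ≤ Q`.  If `Jt T ≤ O`, a member of
`maxIn 2 T` lies in `O ≤ Q ≤ S`, so `Jt S ≤ Jt T ≤ Q` (`thompsonSubgroupOf_mono_of_exists`); else `ffs` contradicts `S3o.not9`. -/
theorem czd (h : Om8 G) (lc : IsOfLocalCharacteristic 2 G) (b : Bs M Q S) (t : TD M Q S O₁ O₂ P₁ P₂ y₁ y₂)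
    (z1 : P₁ ≤ 𝐂(Zo S)) (cy : Zo Q ⊓ 𝐂[y₁] ≤ Zo S) (hJ : ¬ Jt S ≤ Q) :
    ∃ O, Lo 𝐂(Zo S) O ∧ O ⊓ P₁ = O₁ ∧ P₁ ⊔ O = 𝐂(Zo S) := by
  have pZ : IsPGroup 2 (Zo S) := PGroup.elemAb_isPGroup (oz_elemAb S)
  have l := h.lo_cent lc pZ b.Z1
  generalize pCoreOf 2 𝐂(Zo S) = O at l
  have s := t.s3o b
  have SC : S ≤ 𝐂(Zo S) := t.p₁.SP.trans z1
  refine ⟨O, l, ?_⟩
  by_cases h9 : 9 ∣ Nat.card 𝐂(Zo S)
  · exfalso
    obtain ⟨T, hT, ST⟩ := Syl.exists_ge b.twoS SC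
    have zz : Zo T ≤ Zo S := zo_le_zo ST (inf_le_right.trans ((cent_anti b.QS).trans (b.cQ.trans b.QS)))
    obtain ⟨x, hx, y, hy, e⟩ := exists_e9 h h9
    have el := e9el h hT.pgroup ⟨l.le_syl hT, hT.le.trans l.nml.norm⟩ e (l.nml.norm hx) (l.nml.norm hy)
      (zz.trans (le_cent1_iff.2 hx)) (zz.trans (le_cent1_iff.2 hy))
    have yC := z1 t.p₁.yP
    have yV := b.nV (t.PM t.p₁.yP)
    have ZO : Zo S ≤ O := (le_inf ((oz_le S).trans SC) (cent_symm l.nml.le)).trans l.sc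
    have VO : Zo Q ≤ O := fun v hv => by
      have k := a4 h l (oz_elemAb Q) ((oz_le Q).trans (b.QS.trans SC)) t.p₁.y3 yC yV hv
      obtain ⟨n, hn, c⟩ := L72.fixc (N := Zo Q ⊓ O) (pgroup_of_le l.pg inf_le_right) (L72.odd3 t.p₁.y3)
        (k0_inf yV (l.nml.norm yC)) (g := v)
        (mem_inf.2 ⟨mul_mem (conj_mem_of_norm yV hv) (inv_mem hv), by convert inv_mem k using 1; group⟩)
      exact (mul_mem_cancel_left (mem_inf.1 hn).2).1 (ZO (cy ⟨mul_mem hn.1 hv, mem_cent1.2 c⟩))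
    have cO := PGroup.elemAb_le_centralizer el
    have OQ : O ≤ Q := (cO.trans (cent_anti VO)).trans (b.cV h)
    by_cases hJ' : Jt T ≤ O
    · obtain ⟨A, hA⟩ := exists_mem_maxIn 2 T
      exact hJ ((thompsonSubgroupOf_mono_of_exists hA ((le_thompsonSubgroupOf hA).trans (hJ'.trans (OQ.trans b.QS)))
        ST).trans (hJ'.trans OQ))
    · exact (ffs h l hT ((inf_le_inf_left _ (cent_anti (le_oz el le_rfl cO))).trans l.sc) hJ').not9 h9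
  obtain ⟨z, hz, z0⟩ := exists_ne_one b.Z1
  have d6 := s3 h l (fun p => h.two_three (mem_zo.1 hz).2.2 z0 (cent_le_cent1 hz)) h9
  have nO : P₁ ≤ 𝐍(O) := z1.trans l.nml.norm
  have le : O ⊓ P₁ ≤ O₁ := s.mx _ (pgroup_of_le l.pg inf_le_left) ⟨inf_le_right, norm_inf nO (le_norm _)⟩
  have e1 := relIndex_mul_relIndex _ _ _ le s.nml.le
  rw [s.i6, inf_relIndex_right] at e1
  have e2 := (Core.relIndex_sup_of_le_normalizer nO).symm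
  have e3 := relIndex_mul_relIndex O (P₁ ⊔ O) 𝐂(Zo S) le_sup_right (sup_le z1 l.nml.le)
  rw [← e2, ← e1] at e3
  rw [← e3, mul_right_comm] at d6
  have k : (O ⊓ P₁).relIndex O₁ * (P₁ ⊔ O).relIndex 𝐂(Zo S) = 1 :=
    Nat.dvd_one.1 (Nat.dvd_of_mul_dvd_mul_right (by norm_num : 0 < 6) (by rwa [one_mul]))
  exact ⟨le_antisymm le (relIndex_eq_one.1 (Nat.eq_one_of_mul_eq_one_right k)),
    le_antisymm (sup_le z1 l.nml.le) (relIndex_eq_one.1 (Nat.eq_one_of_mul_eq_one_left k))⟩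

end Cfsg.Lib.O8E
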