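import Cfsg.Agent.Lib.O8E.FFs

/-!
# The centraliser of `Ω₁Z(S)`
-/

set_option autoImplicit false

namespace Cfsg.Lib.O8E

open Subgroup Cfsg.Lib Cfsg.Lib.BG Cfsg.Lib.Transfer Cfsg.Lib.PLocal Cfsg.Lib.Loc
open scoped commutatorElement

universe u v

variable {G : Type u} [Group G] [Finite G] {H M O P S : Subgroup G}

/-- Proof: `C = C(Zo S)`, `O = O₂(C)` (`h.lo_cent`), `S ∈ Syl₂(C)`.  If `Bm S ≤ O` then `C ≤ N(O) ≤ N(Bm O) = N(Bm S)` (`bm_eq`).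
If `9 ∣ |C|`: `O` is elementary (`exists_e9`, `e9el` with `T := S`), `Zo O = O`; `Jt S ≰ O` gives `ffs`, against `S3o.not9`; if
`Jt S ≤ O` then `O ≤ zj S` (`PU.le_zj`), so `Bm S ≤ C ⊓ C(O) ≤ O`.  If `9 ∤ |C|`: `s3` (`h.two_three`), `s3'`; `S = O` gives
`Bm S ≤ O`; otherwise `S3o.max` for `C ⊓ M`. -/
theorem cz (h : Om8 G) (lc : IsOfLocalCharacteristic 2 G) (hS : Syl 2 S ⊤) (S1 : S ≠ ⊥) (SM : S ≤ M)
    (nB : 𝐍(Bm S) ≤ M) : 𝐂(Zo S) ≤ M ∨ ∃ O, Bad M S O := by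
  have l := h.lo_cent lc (PGroup.elemAb_isPGroup (oz_elemAb S)) (oz_ne_bot hS.pgroup S1)
  generalize pCoreOf 2 𝐂(Zo S) = O at l
  have syl : Syl 2 S 𝐂(Zo S) := hS.of_le (le_centralizer_oz S) le_top
  have OS := l.le_syl syl
  by_cases hB : Bm S ≤ O
  · exact .inl ((l.nml.norm.trans (norm_bm O)).trans (by rw [bm_eq hB OS]; exact nB))
  by_cases h9 : 9 ∣ Nat.card 𝐂(Zo S)
  · obtain ⟨a, ha, b, hb, e⟩ := exists_e9 h h9
    have el := e9el h hS.pgroup ⟨OS, syl.le.trans l.nml.norm⟩ e (l.nml.norm ha) (l.nml.norm hb)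
      (le_cent1_iff.2 ha) (le_cent1_iff.2 hb)
    have ec := PGroup.elemAb_le_centralizer el
    by_cases hJ : Jt S ≤ O
    · exact (hB ((le_inf ((bm_le S).trans syl.le) (inf_le_right.trans (cent_anti
        (PU.le_zj el OS (cent_symm (hJ.trans ec)))))).trans l.sc)).elim
    · exact ((ffs h l syl ((inf_le_inf_left _ (cent_anti (le_oz el le_rfl ec))).trans l.sc) hJ).not9 h9).elim
  obtain ⟨z, hz, z1⟩ := exists_ne_one (oz_ne_bot hS.pgroup S1)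
  rcases s3' l syl (s3 h l (fun p => h.two_three (mem_zo.1 hz).2.2 z1 (cent_le_cent1 hz)) h9) with e | s
  · exact (hB ((bm_le S).trans e.le)).elim
  rcases s.max (le_inf syl.le SM) inf_le_left with e | e
  exacts [.inr ⟨O, s, hB, e.le⟩, .inl (e.ge.trans inf_le_right)]

/-- Proof: `S ≤ N(Bm S) ≤ H` is Sylow in `H`; `H ⊓ C(Zo O) ≤ O` by `l.mx`.  If `Jt S ≤ O` then `Zo O ≤ zj S` (`PU.le_zj`), so
`Bm S ≤ H ⊓ C(Zo O) ≤ O` and `H ≤ N(Bm O) = N(Bm S)`.  Otherwise `ffs` and `S3o.max`. -/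
theorem gen (h : Om8 G) (hS : Syl 2 S ⊤) (l : Lo H O) (nB : 𝐍(Bm S) ≤ H) (SP : S ≤ P) (PH : P ≤ H) (e : ¬ P ≤ S)
    (hK : IsPGroup 2 ↥(H ⊓ 𝐂(Zo O))) : H ≤ 𝐍(Bm S) ∨ H = P := by
  have syl : Syl 2 S H := hS.of_le (SP.trans PH) le_top
  have OS := l.le_syl syl
  have hc : H ⊓ 𝐂(Zo O) ≤ O := l.mx _ hK ⟨inf_le_left, norm_inf (le_norm H)
    (norm_cent (l.nml.norm.trans (normalizer_le_normalizer_oz O)))⟩
  by_cases hJ : Jt S ≤ O
  · have hB : Bm S ≤ O := (le_inf ((bm_le S).trans syl.le) (inf_le_right.trans (cent_anti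
      (PU.le_zj (oz_elemAb O) ((oz_le O).trans OS) ((oz_le_centralizer O).trans (cent_anti hJ)))))).trans hc
    exact .inl (bm_eq hB OS ▸ l.nml.norm.trans (norm_bm O))
  · exact .inr (((ffs h l syl hc hJ).max SP PH).resolve_left fun H => e H.le).symm

end Cfsg.Lib.O8E
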