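import Cfsg.Agent.Lib.Spec2.O6C
import Cfsg.Agent.Lib.L72.Tools
import Cfsg.Agent.Lib.Loc.ParChar
import Cfsg.Agent.Lib.Loc.PReduced
import Cfsg.Agent.Lib.PU.Baumann
import Cfsg.Prelude.Def_BaumannBlocks

/-!
# Groups whose elements have order at most eight: definitions and elementary facts

Overview of the proof of S3432.  `Om8 G`: all element orders are `≤ 8`.  By induction every non-abelian simple `Om8`
group is `Ty8` (`A₅, L₃(2), A₆, A₇, L₃(4)`).  A nonsolvable `Om8` group with a nontrivial normal `p`-subgroup has `p = 2`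
and is `Ex8` (`H/O₂(H) ≅ A₅, S₅, A₆, L₃(2)`).  For a maximal nonsolvable `2`-local `M` (`Bs M Q S`, `Q = O₂(M)`,
`S ∈ Syl₂(M)`, `V = Ω₁Z(Q) = Zo Q`, `Z = Zo S`) of a simple group of sectional `2`-rank `> 4` we show `C*(G,S) ≤ M`.
-/

set_option autoImplicit false

namespace Cfsg.Lib.O8E

open Subgroup Cfsg.Lib Cfsg.Lib.BG Cfsg.Lib.Transfer Cfsg.Lib.PLocal Cfsg.Lib.Loc
open scoped commutatorElement

universe u

variable {G L X Γ : Type*} [Group G] [Group L] [Group X] [Group Γ]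

/-- `Ω₁(Z(T))`. -/
abbrev Zo (T : Subgroup G) : Subgroup G := omegaOneCenter 2 T
/-- `J(T)`. -/
abbrev Jt (T : Subgroup G) : Subgroup G := thompsonSubgroupOf 2 T
/-- `B(T) = C_T(Ω₁Z(J(T)))`. -/
abbrev Bm (T : Subgroup G) : Subgroup G := baumannSubgroupOf 2 T
abbrev A5 : Type := alternatingGroup (Fin 5)
abbrev A6 : Type := alternatingGroup (Fin 6)
abbrev A7 : Type := alternatingGroup (Fin 7)
abbrev S5 : Type := Equiv.Perm (Fin 5)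
abbrev S6 : Type := Equiv.Perm (Fin 6)
abbrev L32 : Type := Matrix.SpecialLinearGroup (Fin 3) (ZMod 2)

/-- All element orders are at most eight. -/
def Om8 (G : Type*) [Group G] : Prop := ∀ g : G, orderOf g ≤ 8

/-- `X ≅ L₃(4)`. -/
def IsL34 (X : Type*) [Group X] : Prop := ∃ (F : Type) (_ : Field F) (_ : Fintype F), Fintype.card F = 4 ∧
  Nonempty (X ≃* Matrix.ProjectiveSpecialLinearGroup (Fin 3) F)

/-- The non-abelian simple groups whose elements have order at most eight. -/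
def Ty8 (X : Type*) [Group X] : Prop :=
  Nonempty (X ≃* A5) ∨ Nonempty (X ≃* L32) ∨ Nonempty (X ≃* A6) ∨ Nonempty (X ≃* A7) ∨ IsL34 X

/-- The induction hypothesis. -/
def IH (n : ℕ) : Prop := ∀ (X : Type u) [Group X] [Finite X] [IsSimpleGroup X],
  Nat.card X < n → Om8 X → ¬ IsMulCommutative X → Ty8 X

/-- `H` is an extension of a `2`-group by `X`. -/
def Onto (H X : Type*) [Group H] [Group X] : Prop :=
  ∃ ρ : H →* X, Function.Surjective ρ ∧ IsPGroup 2 ρ.ker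

/-- The nonsolvable `Om8` groups with `O₂ ≠ 1`. -/
def Ex8 (H : Type*) [Group H] : Prop := Onto H A5 ∨ Onto H S5 ∨ Onto H A6 ∨ Onto H L32

/-- `ρ` identifies `M/Q` with `X`. -/
structure Ov (M Q : Subgroup G) (ρ : M →* X) : Prop where
  le : Q ≤ M
  surj : Function.Surjective ρ
  ker : ∀ x : M, ρ x = 1 ↔ (x : G) ∈ Q

/-- The preimage in `G` of a subgroup of `X`. -/
def pre {M : Subgroup G} (ρ : M →* X) (K : Subgroup X) : Subgroup G := (K.comap ρ).map M.subtype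

/-- `H` is solvable of characteristic two and `O = O₂(H)` (fields `pg nml sc mx` of `L72.OQ`, `sol`). -/
structure Lo (H O : Subgroup G) : Prop extends L72.OQ H O where
  sol : Group.IsSolvable H

/-- `H/O ≅ S₃` and `S ∈ Syl₂(H)`. -/
structure S3o (H O S : Subgroup G) : Prop extends Lo H O where
  syl : Syl 2 S H
  i2 : O.relIndex S = 2
  i3 : S.relIndex H = 3

/-- The elementary abelian `2`-group `W` is a module for `X` as in an `Om8` extension. -/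
structure Md (W : Subgroup Γ) (j : X →* Γ) : Prop where
  el : IsElementaryAbelian 2 W
  inj : Function.Injective j
  nm : ∀ x, j x ∈ 𝐍(W)
  fpf : ∀ x, orderOf x = 5 ∨ orderOf x = 7 → W ⊓ 𝐂[j x] = ⊥
  f1 : ∀ y c, orderOf y = 3 → c * c = 1 → c * y = y * c → W ⊓ 𝐂[j y] ≤ 𝐂[j c]
  n8 : ∀ x, x ^ 8 = 1 → ∀ w ∈ W, (w * j x) ^ 8 = 1

/-- The `3`-cycle `(0 1 2)` of `A₆`. -/
def c6a : A6 := ⟨Equiv.swap 0 1 * Equiv.swap 1 2, Equiv.Perm.mem_alternatingGroup.2 (by decide)⟩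
/-- The `3`-cycle `(3 4 5)` of `A₆`. -/
def c6b : A6 := ⟨Equiv.swap 3 4 * Equiv.swap 4 5, Equiv.Perm.mem_alternatingGroup.2 (by decide)⟩

/-- `M` is a maximal `2`-local subgroup, `Q ≤ S ∈ Syl₂(M)` is normal in `M`. -/
structure Pre (M Q S : Subgroup G) : Prop where
  QS : Q ≤ S
  syl : Syl 2 S M
  nQ : Nml Q M
  ne : Q ≠ ⊥
  mx : ∀ U : Subgroup G, IsPGroup 2 U → U ≠ ⊥ → M ≤ 𝐍(U) → 𝐍(U) ≤ M

/-- The facts common to the four types of maximal nonsolvable `2`-locals `M`, `Q = O₂(M)`. -/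
structure Bs (M Q S : Subgroup G) : Prop extends Pre M Q S where
  cQ : 𝐂(Q) ≤ Q
  clo : ∀ D, Nml D M → ¬ D ≤ Q → ∃ f ∈ D, orderOf f = 5 ∨ orderOf f = 7
  el4 : ∀ E ≤ S, IsElementaryAbelian 2 E → Nat.card E ≤ 4 * Nat.card ↥(E ⊓ Q)
  out : ¬ S ≤ Q

/-- The facts on `X = M/Q` giving `Bs`. -/
structure Xb (X : Type*) [Group X] : Prop where
  clo : ∀ D : Subgroup X, D.Normal → D ≠ ⊥ → ∃ f ∈ D, orderOf f = 5 ∨ orderOf f = 7
  el4 : ∀ E : Subgroup X, IsElementaryAbelian 2 E → Nat.card E ≤ 4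
  ev : 2 ∣ Nat.card X

/-- `j + 1` conjugates of an involution of `M/Q` have no common fixed point. -/
def Bd (M Q S : Subgroup G) (j : ℕ) : Prop := ∀ a ∈ S, a ∉ Q → a * a ∈ Q → ∀ Y ≤ Q, M ≤ 𝐍(Y) →
  Nat.card ↥(Y ⊓ 𝐂[a]) ^ (j + 1) ≤ Nat.card Y ^ j

/-- `L/Q ≅ A₅`, `T ∈ Syl₂(L)`: a pushing-up configuration. -/
structure PA (L Q T : Subgroup G) : Prop where
  ov : ∃ ρ : L →* A5, Ov L Q ρ
  two : IsPGroup 2 Q
  QT : Q ≤ T
  TL : T ≤ L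
  i4 : Q.relIndex T = 4
  cQ : L ⊓ 𝐂(Q) ≤ Q

/-- The subgroup data of `M/Q ≅ A₅`: `S/Q` is a four-group, `y = (123)`, `t = (12)(45)`. -/
structure TA0 (M Q S : Subgroup G) (y t : G) : Prop where
  idx4 : Q.relIndex S = 4
  y3 : orderOf y = 3
  yM : y ∈ M
  yS : y ∈ 𝐍(S)
  yf : ∀ a ∈ S, a * y * a⁻¹ * y⁻¹ ∈ Q → a ∈ Q
  ovr : ∀ K, S ≤ K → K ≤ M → K ≤ S ∨ y ∈ K
  tM : t ∈ M
  ty : t * y * t⁻¹ * y ∈ Q
  gen : S ⊔ t ⋆ S = M

/-- Type `A₅`. -/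
structure TA (M Q S : Subgroup G) (y t : G) : Prop extends TA0 M Q S y t where
  ov : ∃ ρ : M →* A5, Ov M Q ρ
  bd1 : Bd M Q S 1
  five : ∃ f ∈ M, orderOf f = 5
  c2 : Nat.card ↥(Q ⊓ 𝐂[y]) ≠ 2

/-- Type `S₅`. -/
structure TS (M Q S : Subgroup G) : Prop where
  el : IsElementaryAbelian 2 Q
  idx8 : Q.relIndex S = 8
  nab : ¬ ⁅S, S⁆ ≤ Q
  bd1 : Bd M Q S 1
  five : ∃ f ∈ M, orderOf f = 5

/-- A parabolic `P` with `P/Q ≅ S₄`, `O/Q` its normal four-group. -/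
structure Pb (Q S O P : Subgroup G) (y : G) : Prop where
  QO : Q ≤ O
  OS : O ≤ S
  SP : S ≤ P
  nO : Nml O P
  i4 : Q.relIndex O = 4
  sq : ∀ a ∈ O, a * a ∈ Q
  i3 : S.relIndex P = 3
  y3 : orderOf y = 3
  yP : y ∈ P
  yf : ∀ a ∈ O, a * y * a⁻¹ * y⁻¹ ∈ Q → a ∈ Q

/-- The subgroup data of `M/Q ≅ A₆, L₃(2)`: `S/Q ≅ D₈` and two parabolics. -/
structure TD (M Q S O₁ O₂ P₁ P₂ : Subgroup G) (y₁ y₂ : G) : Prop where
  p₁ : Pb Q S O₁ P₁ y₁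
  p₂ : Pb Q S O₂ P₂ y₂
  idx8 : Q.relIndex S = 8
  sup : O₁ ⊔ O₂ = S
  inv : ∀ a ∈ S, a * a ∈ Q → a ∈ O₁ ∨ a ∈ O₂
  nab : ¬ ⁅S, S⁆ ≤ Q
  gen : P₁ ⊔ P₂ = M
  mx₁ : ∀ K, P₁ ≤ K → K ≤ M → K = P₁ ∨ K = M
  mx₂ : ∀ K, P₂ ≤ K → K ≤ M → K = P₂ ∨ K = M
  nS : M ⊓ 𝐍(S) ≤ S

/-- Type `A₆`. -/
structure T6 (M Q S O₁ O₂ P₁ P₂ : Subgroup G) (y₁ y₂ : G) : Prop extends TD M Q S O₁ O₂ P₁ P₂ y₁ y₂ where
  bd1 : Bd M Q S 1
  five : ∃ f ∈ M, orderOf f = 5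
  pu₁ : ∃ L, PA L Q O₁ ∧ L ⊔ S = M
  pu₂ : ∃ L, PA L Q O₂ ∧ L ⊔ S = M

/-- Type `L₃(2)`. -/
structure T7 (M Q S O₁ O₂ P₁ P₂ : Subgroup G) (y₁ y₂ : G) : Prop extends TD M Q S O₁ O₂ P₁ P₂ y₁ y₂ where
  bd2 : Bd M Q S 2
  seven : ∃ f ∈ M, orderOf f = 7
  yb₁ : ∀ Y ≤ Q, M ≤ 𝐍(Y) → Nat.card ↥(Y ⊓ 𝐂[y₁]) ^ 2 ≤ Nat.card Y
  yb₂ : ∀ Y ≤ Q, M ≤ 𝐍(Y) → Nat.card ↥(Y ⊓ 𝐂[y₂]) ^ 2 ≤ Nat.card Y

/-- One of the four types. -/
def Typ (M Q S : Subgroup G) : Prop := (∃ y t, TA M Q S y t) ∨ TS M Q S ∨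
  (∃ O₁ O₂ P₁ P₂ y₁ y₂, T6 M Q S O₁ O₂ P₁ P₂ y₁ y₂) ∨ ∃ O₁ O₂ P₁ P₂ y₁ y₂, T7 M Q S O₁ O₂ P₁ P₂ y₁ y₂

/-- The situation in which `C(Ω₁Z(S)) ≰ M`. -/
structure Bad (M S O : Subgroup G) : Prop where
  s3 : S3o 𝐂(Zo S) O S
  nb : ¬ Bm S ≤ O
  cm : 𝐂(Zo S) ⊓ M ≤ S

/-- Failure of factorisation with offenders of order four. -/
structure FF (Q S : Subgroup G) : Prop where
  m : ∃ A ∈ maxIn 2 S, A ≤ Q
  nj : ¬ Jt S ≤ Q
  off : ∀ A ∈ maxIn 2 S, ¬ A ≤ Q → Q.relIndex A = 4 ∧ Nat.card (Zo Q) = 4 * Nat.card ↥(Zo Q ⊓ A) ∧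
    ∀ a ∈ A, a ∉ Q → Zo Q ⊓ 𝐂[a] ≤ A
  zj : PU.zj 2 S = Zo Q ⊓ 𝐂(Jt S)

/-- Failure of factorisation for the types `A₆` and `L₃(2)`: all offenders cover `O₂/Q`. -/
structure GD (Q S O₂ P₁ : Subgroup G) : Prop where
  bm : Bm S = O₂
  alt : ∀ A ∈ maxIn 2 S, A ≤ Q ∨ A ⊔ Q = O₂
  m : ∃ A ∈ maxIn 2 S, A ≤ Q
  nj : ¬ Jt S ≤ Q
  c4 : Nat.card (Zo Q) = 4 * Nat.card (Zo O₂)
  z1 : P₁ ≤ 𝐂(Zo S)

/-- `M` contains `C(Ω₁Z(S))` and the solvable `2`-locals over `N(B(S))`. -/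
structure Gd (M S : Subgroup G) : Prop where
  syl : Syl 2 S ⊤
  cz : 𝐂(Zo S) ≤ M
  sol : ∀ H O, Lo H O → 𝐍(Bm S) ≤ H → H ≤ M

/-- The outcome for type `A₅` with failure of factorisation. -/
structure KA (M S : Subgroup G) : Prop extends Gd M S where
  cs : 𝐂(Zo S) ≤ S
  pa : ∃ Q, PA M Q S
  nab : ¬ ⁅S, S⁆ ≤ Zo S

/-- The outcome for the types `A₆`, `L₃(2)` with failure of factorisation. -/
structure KD (M S : Subgroup G) : Prop extends Gd M S where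
  cs : ¬ 𝐂(Zo S) ≤ S
  par : ∃ P₁ O₁ P₂ O₂, Lo P₁ O₁ ∧ Lo P₂ O₂ ∧ S ≤ P₁ ∧ S ≤ P₂ ∧ P₁ ⊔ P₂ = M
  alt : (𝐍(Bm S) ≤ M ∧ M ≤ 𝐂(Zo S) ⊔ 𝐍(Bm S)) ∨ ∀ H O, Lo H O → S ≤ H → H ≤ M

section Swap

variable {M Q S O₁ O₂ P₁ P₂ : Subgroup G} {y₁ y₂ : G}

theorem TD.swap (t : TD M Q S O₁ O₂ P₁ P₂ y₁ y₂) : TD M Q S O₂ O₁ P₂ P₁ y₂ y₁ :=
  ⟨t.p₂, t.p₁, t.idx8, (sup_comm _ _).trans t.sup, fun a b c => (t.inv a b c).symm, t.nab,
    (sup_comm _ _).trans t.gen, t.mx₂, t.mx₁, t.nS⟩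

theorem T6.swap (t : T6 M Q S O₁ O₂ P₁ P₂ y₁ y₂) : T6 M Q S O₂ O₁ P₂ P₁ y₂ y₁ :=
  ⟨t.toTD.swap, t.bd1, t.five, t.pu₂, t.pu₁⟩

theorem T7.swap (t : T7 M Q S O₁ O₂ P₁ P₂ y₁ y₂) : T7 M Q S O₂ O₁ P₂ P₁ y₂ y₁ :=
  ⟨t.toTD.swap, t.bd2, t.seven, t.yb₂, t.yb₁⟩

end Swap

theorem IH.mono {m n : ℕ} (h : IH.{u} n) (e : m ≤ n) : IH.{u} m := fun X _ _ _ a => h X (a.trans_le e)

theorem Md.comp {W : Subgroup Γ} {j : X →* Γ} (h : Md W j) {i : L →* X} (hi : Function.Injective i) :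
    Md W (j.comp i) :=
  ⟨h.el, h.inj.comp hi, fun _ => h.nm _, fun x e => h.fpf _ (by rwa [orderOf_injective i hi]),
    fun y c a b e => h.f1 _ _ (by rwa [orderOf_injective i hi]) (by rw [← map_mul, b, map_one])
      (by rw [← map_mul, e, map_mul]), fun x e => h.n8 _ (by rw [← map_pow, e, map_one])⟩

theorem Ty8.of_equiv (e : L ≃* X) (h : Ty8 X) : Ty8 L := by
  rcases h with ⟨⟨f⟩⟩ | ⟨⟨f⟩⟩ | ⟨⟨f⟩⟩ | ⟨⟨f⟩⟩ | ⟨F, _, _, a, ⟨f⟩⟩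
  exacts [.inl ⟨e.trans f⟩, .inr (.inl ⟨e.trans f⟩), .inr (.inr (.inl ⟨e.trans f⟩)),
    .inr (.inr (.inr (.inl ⟨e.trans f⟩))), .inr (.inr (.inr (.inr ⟨F, _, _, a, ⟨e.trans f⟩⟩)))]

theorem mem_zo {T : Subgroup G} {x : G} : x ∈ Zo T ↔ x ∈ T ∧ x ∈ 𝐂(T) ∧ x * x = 1 := by
  rw [mem_oz, pow_two, and_assoc]

theorem mem_pre {M : Subgroup G} {ρ : M →* X} {K : Subgroup X} {x : M} : (x : G) ∈ pre ρ K ↔ ρ x ∈ K :=
  mem_map_iff_mem M.subtype_injective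

theorem pre_le {M : Subgroup G} (ρ : M →* X) (K : Subgroup X) : pre ρ K ≤ M := map_subtype_le _

namespace Om8

variable (h : Om8 G)
include h

theorem inj {f : L →* G} (hf : Function.Injective f) : Om8 L := fun g => orderOf_injective f hf g ▸ h _

theorem sub (H : Subgroup G) : Om8 H := h.inj H.subtype_injective

variable [Finite G] {x y : G}

theorem surj {f : G →* L} (hf : Function.Surjective f) : Om8 L := fun g => by
  obtain ⟨g, rfl⟩ := hf g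
  exact (Nat.le_of_dvd (orderOf_pos g) (orderOf_map_dvd f g)).trans (h g)

theorem not_dvd {n : ℕ} (hn : 8 < n) : ¬ n ∣ orderOf x := fun e =>
  (hn.trans_le (Nat.le_of_dvd (orderOf_pos x) e)).not_ge (h x)

theorem mul_le (e : x * y = y * x) (hc : (orderOf x).Coprime (orderOf y)) :
    orderOf x * orderOf y ≤ 8 := Commute.orderOf_mul_eq_mul_orderOf_of_coprime e hc ▸ h _

theorem prime_le {p : ℕ} (hp : p.Prime) (hd : p ∣ Nat.card G) : p = 2 ∨ p = 3 ∨ p = 5 ∨ p = 7 := by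
  have := Fact.mk hp
  obtain ⟨g, hg⟩ := exists_prime_orderOf_dvd_card' p hd
  have := hg ▸ h g
  interval_cases p <;> simp_all (config := {decide := true})

theorem pow_eight {k : ℕ} (e : x ^ 2 ^ k = 1) : x ^ 8 = 1 := by
  obtain ⟨j, -, e'⟩ := (Nat.dvd_prime_pow Nat.prime_two).1 (orderOf_dvd_of_pow_eq_one e)
  rw [← orderOf_dvd_iff_pow_eq_one, e']
  exact pow_dvd_pow 2 (show j ≤ 3 from by_contra fun hj =>
    h.not_dvd (x := x) (by norm_num : 8 < 2 ^ 4) (e' ▸ pow_dvd_pow 2 (by omega : 4 ≤ j)))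

theorem pow_odd {p : ℕ} (hp : p.Prime) (h2 : p ≠ 2) {Q : Subgroup G} (hQ : IsPGroup p Q) (hx : x ∈ Q) :
    x ^ p = 1 := by
  have := Fact.mk hp
  obtain ⟨j, e'⟩ := IsPGroup.iff_orderOf.1 hQ ⟨x, hx⟩
  rw [orderOf_mk] at e'
  have := hp.two_le
  rw [← orderOf_dvd_iff_pow_eq_one, e']
  exact (pow_dvd_pow p (show j ≤ 1 from by_contra fun hj => h.not_dvd (x := x)
    (by nlinarith [show 3 ≤ p by omega] : 8 < p ^ 2) (e' ▸ pow_dvd_pow p (by omega : 2 ≤ j)))).trans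
    (by simp)

/-- Nothing of order prime to `r = 5, 7` commutes with an element of order `r`. -/
theorem big {r : ℕ} (hr : r = 5 ∨ r = 7) (hx : orderOf x = r) (hy : ¬ r ∣ orderOf y) (e : y * x = x * y) :
    y = 1 := by
  have p : r.Prime := by rcases hr with rfl | rfl <;> norm_num
  have := h.mul_le e (by rw [hx]; exact (p.coprime_iff_not_dvd.2 hy).symm)
  have := orderOf_pos y
  rw [hx] at *
  refine orderOf_eq_one_iff.1 (by_contra fun e => ?_)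
  have : 2 * r ≤ orderOf y * r := Nat.mul_le_mul_right _ (by omega)
  omega

theorem big' {p r : ℕ} [Fact p.Prime] (hr : r = 5 ∨ r = 7) (h5 : p ≠ r) {Q : Subgroup G} (hQ : IsPGroup p Q)
    (hx : orderOf x = r) : Q ⊓ 𝐂[x] = ⊥ := eq_bot_iff.2 fun y hy => h.big hr hx (fun e => h5
  (pgroup_eq_of_dvd hQ (by rcases hr with rfl | rfl <;> norm_num) (e.trans (Q.orderOf_dvd_natCard hy.1))).symm)
    (mem_cent1.1 hy.2)

/-- Elements of order five or seven act fixed-point-freely on the `2`-subgroups they normalise. -/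
theorem fpf {Q : Subgroup G} (hQ : IsPGroup 2 Q) (hx : orderOf x = 5 ∨ orderOf x = 7) : Q ⊓ 𝐂[x] = ⊥ :=
  h.big' hx (by omega) hQ rfl

theorem order_big {r : ℕ} (hr : r = 5 ∨ r = 7) (e : r ∣ orderOf x) : orderOf x = r := by
  have := h x
  have := orderOf_pos x
  rcases hr with rfl | rfl <;> omega

theorem order_three (e : 3 ∣ orderOf x) : orderOf x = 3 ∨ orderOf x = 6 := by
  have := h x
  have := orderOf_pos x
  omega

theorem not_big {r : ℕ} (hr : r = 5 ∨ r = 7) {H : Subgroup G} (hy : ¬ r ∣ orderOf y) (y1 : y ≠ 1)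
    (hH : H ≤ 𝐂[y]) : ¬ r ∣ Nat.card H := fun e => by
  have : Fact r.Prime := ⟨by rcases hr with rfl | rfl <;> norm_num⟩
  obtain ⟨x, hx⟩ := exists_prime_orderOf_dvd_card' r e
  exact y1 (h.big hr ((orderOf_coe x).trans hx) hy (mem_cent1.1 (hH x.2)).symm)

/-- Subgroups centralising an involution are `{2,3}`-groups. -/
theorem two_three {H : Subgroup G} (hy : y * y = 1) (y1 : y ≠ 1) (hH : H ≤ 𝐂[y]) {p : ℕ} (hp : p.Prime)
    (hd : p ∣ Nat.card H) : p = 2 ∨ p = 3 := by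
  have o : orderOf y = 2 := orderOf_eq_prime (by rw [sq, hy]) y1
  rcases (h.sub H).prime_le hp hd with e | e | rfl | rfl
  exacts [.inl e, .inr e, (h.not_big (.inl rfl) (by rw [o]; norm_num) y1 hH hd).elim,
    (h.not_big (.inr rfl) (by rw [o]; norm_num) y1 hH hd).elim]

omit h in
theorem sol23 {H : Subgroup G} (e : ∀ p, p.Prime → p ∣ Nat.card H → p = 2 ∨ p = 3) : Group.IsSolvable H :=
  Char.isSolvable_of_card_primeFactors_le_two _ ((Finset.card_le_card (t := ({2, 3} : Finset ℕ)) fun p hp => by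
    simpa using e p (Nat.mem_primeFactors.1 hp).1 (Nat.mem_primeFactors.1 hp).2.1).trans (by decide))

theorem sol_cent {H : Subgroup G} (hy : y * y = 1) (y1 : y ≠ 1) (hH : H ≤ 𝐂[y]) : Group.IsSolvable H :=
  sol23 fun _ => h.two_three hy y1 hH

/-- The centraliser of an element of order three has elementary abelian Sylow `2`-subgroups. -/
theorem elem_cent {Q : Subgroup G} (hQ : IsPGroup 2 Q) (hx : orderOf x = 3) :
    IsElementaryAbelian 2 (Q ⊓ 𝐂[x]) := PGroup.elemAb_two_iff.2 fun y hy => by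
  obtain ⟨j, e⟩ := IsPGroup.iff_orderOf.1 hQ ⟨y, hy.1⟩
  rw [orderOf_mk] at e
  have := h.mul_le (mem_cent1.1 hy.2) (by rw [e, hx]; exact Nat.Coprime.pow_left _ (by norm_num))
  rw [← orderOf_dvd_iff_pow_eq_one, e]
  rw [e, hx] at this
  exact (pow_dvd_pow 2 (show j ≤ 1 from by_contra fun hj => by
    have := Nat.pow_le_pow_right two_pos (show 2 ≤ j by omega); omega)).trans (by simp)

theorem cent_bot {r : ℕ} (hr : r = 5 ∨ r = 7) {N : Subgroup G} (h2 : 2 ∣ Nat.card N) (h5 : r ∣ Nat.card N) :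
    𝐂(N) = ⊥ := eq_bot_iff.2 fun y hy => by_contra fun y1 => by
  have : Fact r.Prime := ⟨by rcases hr with rfl | rfl <;> norm_num⟩
  obtain ⟨f, hf⟩ := exists_prime_orderOf_dvd_card' r h5
  obtain ⟨t, ht⟩ := exists_prime_orderOf_dvd_card' 2 h2
  rw [← orderOf_coe] at hf ht
  have h1 := h.order_big hr (by_contra fun e => y1 (h.big hr hf e (mem_cent.1 hy _ f.2).symm))
  rw [h.big hr h1 (by rw [ht]; rcases hr with rfl | rfl <;> norm_num) (mem_cent.1 hy _ t.2), orderOf_one] at ht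
  omega

theorem lo_cent (lc : IsOfLocalCharacteristic 2 G) {U : Subgroup G} (hU : IsPGroup 2 U) (h1 : U ≠ ⊥) :
    Lo 𝐂(U) (pCoreOf 2 𝐂(U)) := by
  obtain ⟨z, hz⟩ := exists_prime_orderOf_dvd_card' 2 (pgroup_dvd_card hU h1)
  rw [← orderOf_coe] at hz
  exact ⟨⟨core_eq_pcore (p := 2) 𝐂(U) ▸ pcore_pgroup 2 _, core_nml 2 _, localChar_cent lc hU h1, fun S a b =>
    core_eq_pcore (p := 2) 𝐂(U) ▸ pcore_max_p a b⟩, h.sol_cent (y := z) (by rw [← sq, ← hz, pow_orderOf_eq_one])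
      (by rintro e; simp [e] at hz) (cent_le_cent1 z.2)⟩

end Om8

variable [Finite G] {H O S T U : Subgroup G}

theorem lo_of (hc : IsChP 2 H) (hs : Group.IsSolvable H) : Lo H (pCoreOf 2 H) :=
  ⟨⟨core_eq_pcore (p := 2) H ▸ pcore_pgroup 2 _, core_nml 2 _, hc, fun _ a b =>
    core_eq_pcore (p := 2) H ▸ pcore_max_p a b⟩, hs⟩

theorem Lo.le_syl (l : Lo H O) (hT : Syl 2 T H) : O ≤ T := hT.ge_of_nml l.nml (PiGrp.p_iff.2 l.pg)

/-- If `C(Q) ≤ Q ≤ T` then `Ω₁Z(T) ≤ Ω₁Z(Q)`. -/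
theorem zo_le_zo {Q : Subgroup G} (h1 : Q ≤ T) (h2 : T ⊓ 𝐂(Q) ≤ Q) : Zo T ≤ Zo Q :=
  le_oz (oz_elemAb T) ((le_inf (oz_le T) ((oz_le_centralizer T).trans (cent_anti h1))).trans h2)
    ((oz_le_centralizer T).trans (cent_anti h1))

theorem zj_eq (h1 : Jt S ≤ U) (h2 : U ≤ S) : PU.zj 2 U = PU.zj 2 S :=
  congrArg (omegaOne 2) (centerThompsonOf_eq_of_le h1 h2)

theorem jt_le_bm (S : Subgroup G) : Jt S ≤ Bm S := PU.thompson_le_baum S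

omit [Finite G] in
theorem bm_le (S : Subgroup G) : Bm S ≤ S := inf_le_left

omit [Finite G] in
theorem norm_bm (S : Subgroup G) : 𝐍(S) ≤ 𝐍(Bm S) := PU.normalizer_le_baum S

theorem bm_eq (h1 : Bm S ≤ U) (h2 : U ≤ S) : Bm U = Bm S := by
  have e := zj_eq ((jt_le_bm S).trans h1) h2
  change U ⊓ 𝐂(PU.zj 2 U) = S ⊓ 𝐂(PU.zj 2 S)
  rw [e]
  exact le_antisymm (inf_le_inf_right _ h2) (le_inf h1 inf_le_right)

theorem bm_ne (hS : IsPGroup 2 S) (h1 : S ≠ ⊥) : Bm S ≠ ⊥ :=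
  ne_bot_mono (thompsonSubgroupOf_ne_bot (.inr rfl) hS h1) (jt_le_bm S)

end Cfsg.Lib.O8E
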