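import Cfsg.Agent.Lib.O8E.Def
import Cfsg.Agent.Lib.Small.SylNum

/-!
# The index of the socle
-/

set_option autoImplicit false

namespace Cfsg.Lib.O8E

open Subgroup Cfsg.Lib Cfsg.Lib.BG Cfsg.Lib.Transfer Cfsg.Lib.PLocal Cfsg.Lib.Loc
open scoped commutatorElement

universe u v

variable {Y : Type u} [Group Y] [Finite Y] {X : Subgroup Y} [X.Normal]

/-! Let `p = 7` if `|X| = 168` and `p = 5` otherwise, `P ∈ Syl_p(X)`, `|P| = p`.  (1) `p ∤ |Y : X|`: Frattini for `T ∈ Syl_r(X)`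
(`r = 2`, `|T| = 4, 8, 8, 64`; `r = 3`, `|T| = 3` for `168`): `|Y : X|` divides `|N(T)|`, and an element of order `p` of `N(T)` would
give `|T| ≡ 1 mod p` (`h.big'`, `card_modEq_card_inf_centralizer`).  (2) So `P ∈ Syl_p(Y)`, `C_Y(P) = P` (`h.big`), `|N_Y(P) : P|`
divides `p - 1`.  (3) `e = |N_X(P) : P|` divides `p - 1` and `|X| / (p e) ≡ 1 mod p` (Sylow), which forces `e = 2, 3, 2, 4, 2` for
`|X| = 60, 168, 360, 2520, 20160`.  (4) Frattini `Y = X N_Y(P)`: `|N_Y(P) : P| = e |Y : X|`.  (Compare `K3.Lc.aut`, `K3.tab_aux`.) -/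

theorem idx_syl {r k m : ℕ} [hr : Fact r.Prime] {S : Subgroup Y} (h : Syl r S X) (c : Nat.card X = r ^ k * m)
    (hm : ¬ r ∣ m) : Nat.card S = r ^ k := by
  obtain ⟨j, hj⟩ := IsPGroup.iff_card.1 h.pgroup
  have e := BG.card_mul_relIndex h.le
  rw [c, hj] at e
  exact hj.trans (Nat.dvd_antisymm (((hr.out.coprime_iff_not_dvd.2 hm).pow_left j).dvd_of_dvd_mul_right ⟨_, e.symm⟩)
    (((hr.out.coprime_iff_not_dvd.2 h.not_dvd').pow_left k).dvd_of_dvd_mul_right ⟨_, e⟩))

theorem idx_aux (h : Om8 Y) {p r k n m : ℕ} (hp : p = 5 ∨ p = 7) (hr : r.Prime) (rp : r ≠ p)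
    (c : Nat.card X = r ^ k * n) (hn : ¬ r ∣ n) (m1 : r ^ k % p ≠ 1) (c' : Nat.card X = p * m) (hm : ¬ p ∣ m) :
    ∃ x : Y, orderOf x = p ∧ 𝐂(zpowers x).relIndex 𝐍(zpowers x) = m % p * X.index ∧ m % p * X.index ∣ p - 1 := by
  have pp : Fact p.Prime := ⟨by rcases hp with rfl | rfl <;> norm_num⟩
  have := Fact.mk hr
  have n0 : Nml X ⊤ := ⟨le_top, le_normalizer_of_normal⟩
  have nd : ¬ p ∣ X.index := fun d => by
    obtain ⟨T, hT⟩ := Syl.exists r X
    rw [← relIndex_top_right, ← hT.frattini n0, relIndex_sup_left, top_inf_eq] at d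
    obtain ⟨x, hx⟩ := exists_prime_orderOf_dvd_card' p (d.trans (BG.relIndex_dvd_card _ _))
    rw [← orderOf_coe] at hx
    have e : _ % p = _ % p := card_modEq_card_inf_centralizer
      (IsPGroup.of_card (n := 1) (by rw [Nat.card_zpowers, hx, pow_one])) (zpowers_le.2 x.2)
    rw [cent_zpowers, h.big' hp rp hT.pgroup hx, card_bot, idx_syl hT c hn, Nat.mod_eq_of_lt pp.out.one_lt] at e
    exact m1 e
  obtain ⟨⟨x, xX⟩, hx⟩ := exists_prime_orderOf_dvd_card' (G := X) p ⟨_, c'⟩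
  rw [orderOf_mk] at hx
  have cp := (Nat.card_zpowers x).trans hx
  have e0 := BG.card_mul_relIndex (zpowers_le.2 xX)
  rw [cp, c', Nat.mul_right_inj pp.out.ne_zero] at e0
  have P : Syl p (zpowers x) X := .mk' (zpowers_le.2 xX) (.of_card (n := 1) (by rw [cp, pow_one])) (e0 ▸ hm)
  have C : 𝐂(zpowers x) = zpowers x := by
    have a : zpowers x ≤ 𝐂(zpowers x) := by rw [cent_zpowers]; exact zpowers_le.2 (mem_cent1.2 rfl)
    refine le_antisymm (relIndex_eq_one.1 (Nat.eq_one_iff_not_exists_prime_dvd.2 fun q hq d => ?_)) a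
    have := Fact.mk hq
    have qp : q ≠ p := by
      rintro rfl
      have := d.trans (relIndex_dvd_index_of_le a)
      rw [← relIndex_mul_index P.le, e0] at this
      exact (pp.out.dvd_mul.1 this).elim hm nd
    obtain ⟨y, hy⟩ := exists_prime_orderOf_dvd_card' q (d.trans (BG.relIndex_dvd_card _ _))
    rw [← orderOf_coe] at hy
    exact hq.one_lt.ne (hy.symm.trans (orderOf_eq_one_iff.2 (h.big hp hx
      (by rw [hy, Nat.prime_dvd_prime_iff_eq pp.out hq]; exact qp.symm) (mem_cent1.1 ((cent_zpowers x).le y.2))))).symm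
  have e1 := BG.card_mul_relIndex (le_inf P.le (le_norm _))
  have e2 := BG.card_mul_relIndex (le_norm (zpowers x))
  have e3 := index_cent_prime_dvd cp le_rfl
  have e4 := Core.card_sup_mul_card_inf (H := 𝐍(zpowers x)) (N := X) le_normalizer_of_normal
  have fr := P.frattini n0
  rw [top_inf_eq] at fr
  rw [sup_comm, fr, inf_comm, card_top, ← X.card_mul_index, ← e1, ← e2, cp] at e4
  rw [C] at e3
  rw [cp] at e1
  have e6 : (zpowers x).relIndex 𝐍(zpowers x) = (zpowers x).relIndex (X ⊓ 𝐍(zpowers x)) * X.index :=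
    Nat.eq_of_mul_eq_mul_left (Nat.mul_pos pp.out.pos (Nat.card_pos (α := X))) (by linarith)
  have e7 : _ % p = 1 % p := Small.card_sylowIn P.le P.pgroup P.not_dvd' ▸ card_sylow_modEq_one p X
  have e8 := BG.card_mul_relIndex (inf_le_left : X ⊓ 𝐍(zpowers x) ≤ X)
  rw [inf_relIndex_left, c', ← e1, mul_assoc, Nat.mul_right_inj pp.out.ne_zero] at e8
  have e10 := congrArg (· % p) e8
  have := Nat.le_of_dvd (by omega) ((Dvd.intro _ e6.symm).trans e3)
  simp only [Nat.mul_mod _ _ p, e7, Nat.mod_eq_of_lt pp.out.one_lt, mul_one, Nat.mod_mod] at e10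
  rw [Nat.mod_eq_of_lt (by omega)] at e10
  exact ⟨x, hx, by rw [C, e6, e10], e10 ▸ e6 ▸ e3⟩

theorem idx7 (h : Om8 Y) (c : Nat.card X = 2520) : X = ⊤ := by
  obtain ⟨-, -, -, e⟩ := idx_aux (p := 5) (k := 3) (n := 315) (m := 504) h (.inl rfl) Nat.prime_two (by decide) c
    (by decide) (by decide) c (by decide)
  exact index_eq_one.1 (Nat.dvd_one.1 (Nat.dvd_of_mul_dvd_mul_left (by decide : 0 < 4) e))

theorem idx (h : Om8 Y) (c : Nat.card X = 60 ∨ Nat.card X = 168 ∨ Nat.card X = 360 ∨ Nat.card X = 2520 ∨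
    Nat.card X = 20160) : X.index ∣ 2 := by
  rcases c with c | c | c | c | c
  · obtain ⟨-, -, -, e⟩ := idx_aux (p := 5) (k := 2) (n := 15) (m := 12) h (.inl rfl) Nat.prime_two (by decide) c
      (by decide) (by decide) c (by decide)
    exact Nat.dvd_of_mul_dvd_mul_left two_pos e
  · obtain ⟨-, -, -, e⟩ := idx_aux (p := 7) (k := 1) (n := 56) (m := 24) h (.inr rfl) Nat.prime_three (by decide) c
      (by decide) (by decide) c (by decide)
    exact Nat.dvd_of_mul_dvd_mul_left three_pos e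
  · obtain ⟨-, -, -, e⟩ := idx_aux (p := 5) (k := 3) (n := 45) (m := 72) h (.inl rfl) Nat.prime_two (by decide) c
      (by decide) (by decide) c (by decide)
    exact Nat.dvd_of_mul_dvd_mul_left two_pos e
  · rw [idx7 h c, index_top]; decide
  · obtain ⟨-, -, -, e⟩ := idx_aux (p := 5) (k := 6) (n := 315) (m := 4032) h (.inl rfl) Nat.prime_two (by decide) c
      (by decide) (by decide) c (by decide)
    exact Nat.dvd_of_mul_dvd_mul_left two_pos e

/-- Proof: `|N_Y(P) : P| = 6 = |Aut P|`, so some `b ∈ N_Y(P)` induces a generator of the cyclic group `Aut P`; its order is a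
multiple of `6`, so `6`; `b ^ i` (`0 < i < 6`) does not centralise `P`, which has prime order. -/
theorem idx168 (h : Om8 Y) (c : Nat.card X = 168) (e : X ≠ ⊤) : ∃ f b : Y, orderOf f = 7 ∧ orderOf b = 6 ∧
    b ∈ 𝐍(zpowers f) ∧ ∀ i, 0 < i → i < 6 → zpowers f ⊓ 𝐂[b ^ i] = ⊥ := by
  obtain ⟨f, hf, a, -⟩ := idx_aux (p := 7) (k := 1) (n := 56) (m := 24) h (.inr rfl) Nat.prime_three (by decide) c
    (by decide) (by decide) c (by decide)
  rw [((Nat.dvd_prime Nat.prime_two).1 (idx h (.inr (.inl c)))).resolve_left (mt index_eq_one.1 e), relIndex,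
    ← normalizerMonoidHom_ker, index_ker] at a
  have g := IsCyclic.mulAutMulEquiv (zpowers f)
  rw [Nat.card_zpowers, hf] at g
  have : Fact (Nat.Prime 7) := ⟨by norm_num⟩
  have := isCyclic_of_injective g.toMonoidHom g.injective
  obtain ⟨u, hb⟩ := IsCyclic.exists_ofOrder_eq_natCard (α := (zpowers f).normalizerMonoidHom.range)
  obtain ⟨b, hu⟩ := u.2
  rw [← orderOf_coe, ← hu, a] at hb
  have o : orderOf (b : Y) = 6 := by
    have d : 6 ∣ orderOf (b : Y) := orderOf_coe b ▸ (Dvd.intro 1 hb.symm).trans (orderOf_map_dvd _ b)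
    have := h b
    have := orderOf_pos (b : Y)
    omega
  refine ⟨f, b, hf, o, b.2, fun i i0 i6 => eq_bot_iff.2 fun w hw => by_contra fun w1 => ?_⟩
  have := orderOf_dvd_of_pow_eq_one (h.big (.inr rfl)
    (orderOf_eq_prime (by rw [← orderOf_dvd_iff_pow_eq_one, ← hf]; exact orderOf_dvd_of_mem_zpowers hw.1) w1)
    (fun d => absurd (o ▸ d.trans (orderOf_pow_dvd i)) (by decide)) (mem_cent1.1 hw.2).symm)
  rw [o] at this
  omega

end Cfsg.Lib.O8E
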