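import Cfsg.Agent.Lib.O8E.Def

/-!
# Modules arising from `Om8` extensions
-/

set_option autoImplicit false

namespace Cfsg.Lib.O8E

open Subgroup Cfsg.Lib Cfsg.Lib.BG Cfsg.Lib.Transfer Cfsg.Lib.PLocal Cfsg.Lib.Loc
open scoped commutatorElement

universe u v

variable {H : Type u} [Group H] [Finite H] {X : Type v} [Group X] {W : Subgroup H} {π : H →* X}

/-- Proof: conjugation `H →* MulAut W` (`MulAut.conjNormal`) kills `ker π`, so factors as `φ ∘ π`
(`MonoidHom.liftOfSurjective`/`QuotientGroup.lift`).  `Γ = W ⋊[φ] X`, `W' = inl.range`, `j = inr`; `inl w ∈ C(j (π g)) ↔ w ∈ C(g)`.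
`fpf`: a lift has the same order (`h.order_big`), `h.fpf`.  `f1`: lift `y` to `ŷ` of order `3` and `c` to a `2`-element `u`;
`L72.fixc` with `N := ker π` gives a lift `ĉ = n u ∈ C(ŷ)`; `(ker π ⊔ ⟨u⟩) ⊓ C(ŷ)` is abelian (`h.elem_cent`; `W ≤ O₂`: use the
`2`-group `W ⊔ ker π ⊔ ⟨u⟩`).  `n8`: lift `x` to `g`; `g` and `w g` are `2`-elements, so `g ^ 8 = (w g) ^ 8 = 1` (`h.pow_eight`), and
`(w g) ^ n = (∏_{i<n} g^i w g^{-i}) g ^ n` in both groups. -/
theorem md_of (h : Om8 H) (hπ : Function.Surjective π) (hN : IsPGroup 2 π.ker) [W.Normal]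
    (el : IsElementaryAbelian 2 W) (hc : W ≤ 𝐂(π.ker)) :
    ∃ (Γ : Type (max u v)) (_ : Group Γ) (_ : Finite Γ) (W' : Subgroup Γ) (j : X →* Γ), Md W' j ∧
      Nat.card W' = Nat.card W ∧ ∀ g : H, Nat.card ↥(W' ⊓ 𝐂[j (π g)]) = Nat.card ↥(W ⊓ 𝐂[g]) := by
  obtain ⟨φ, hφ⟩ : ∃ φ : X →* MulAut W, ∀ (g : H) (w : W), ((φ (π g) w : W) : H) = g * w * g⁻¹ := by
    have k : π.ker ≤ (MulAut.conjNormal (H := W)).ker := fun g hg => by
      ext w
      simp only [MulAut.conjNormal_apply, MulAut.one_apply]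
      rw [mul_inv_eq_iff_eq_mul]
      exact mem_cent.1 (hc w.2) g hg
    exact ⟨π.liftOfSurjective hπ ⟨_, k⟩, fun g w => by rw [MonoidHom.liftOfRightInverse_comp_apply]; rfl⟩
  have : Finite X := .of_surjective π hπ
  have : Finite (W ⋊[φ] X) := .of_equiv _ SemidirectProduct.equivProd.symm
  have aut : ∀ (x : X) (w : W), (SemidirectProduct.inr x : W ⋊[φ] X) * .inl w = .inl (φ x w) * .inr x := fun x w => by
    rw [SemidirectProduct.inl_aut, map_inv, inv_mul_cancel_right]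
  have key : ∀ (g : H) (w : W), (SemidirectProduct.inl w : W ⋊[φ] X) ∈ 𝐂[SemidirectProduct.inr (π g)] ↔ (w : H) ∈ 𝐂[g] :=
    fun g w => by
      rw [mem_cent1, mem_cent1, aut, mul_left_inj, SemidirectProduct.inl_injective.eq_iff, Subtype.ext_iff, hφ,
        eq_mul_inv_iff_mul_eq]
  have pW := PGroup.elemAb_isPGroup el
  have two : ∀ {g : H} {k : ℕ}, π g ^ 2 ^ k = 1 → L72.T2 g := fun {g k} e => by
    obtain ⟨l, e'⟩ := L72.t2_of hN (show g ^ 2 ^ k ∈ π.ker by rw [MonoidHom.mem_ker, map_pow, e])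
    exact ⟨k + l, by rw [pow_add, pow_mul, e']⟩
  refine ⟨W ⋊[φ] X, inferInstance, inferInstance, SemidirectProduct.inl.range, SemidirectProduct.inr, ⟨?_,
    SemidirectProduct.inr_injective, fun x => ?_, fun x hx => ?_, fun y c hy c2 e => ?_, fun x hx => ?_⟩, ?_, fun g => ?_⟩
  · rw [MonoidHom.range_eq_map]
    exact PGroup.elemAb_map _ (subgroupOf_self W ▸ PGroup.elemAb_subgroupOf el W)
  · refine mem_normalizer_of_conj_le ?_
    rintro _ ⟨_, ⟨w, rfl⟩, rfl⟩
    exact ⟨φ x w, by rw [SemidirectProduct.inl_aut, map_inv]; rfl⟩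
  · obtain ⟨g, rfl⟩ := hπ x
    have o : orderOf g = 5 ∨ orderOf g = 7 := by
      have := orderOf_map_dvd π g
      rcases hx with e | e <;> rw [e] at this
      exacts [.inl (h.order_big (.inl rfl) this), .inr (h.order_big (.inr rfl) this)]
    refine eq_bot_iff.2 ?_
    rintro _ ⟨⟨w, rfl⟩, hw⟩
    have : w = 1 := Subtype.ext ((h.fpf pW o).le ⟨w.2, (key g w).1 hw⟩)
    rw [this, map_one]
    exact one_mem _
  · obtain ⟨g, rfl⟩ := hπ y
    obtain ⟨u, rfl⟩ := hπ c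
    have e4 : π (g ^ 4) = π g := by rw [map_pow, pow_succ, L72.o3_pow hy, one_mul]
    have o : orderOf (g ^ 4) = 3 := orderOf_eq_prime (by
      rw [← pow_mul, ← orderOf_dvd_iff_pow_eq_one]
      rcases h.order_three (hy ▸ orderOf_map_dvd π g) with k | k <;> rw [k] <;> norm_num)
      fun k => L72.o3_ne hy (by rw [← e4, k, map_one])
    obtain ⟨n, hn, k⟩ := L72.fixc hN (L72.odd3 o) (g := u) (by rw [normalizer_eq_top]; trivial) (by
      rw [MonoidHom.mem_ker, map_mul, map_mul, map_mul, map_inv, map_inv, e4, ← e]; group)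
    have e5 : π (n * u) = π u := by rw [map_mul, hn, one_mul]
    have q : IsPGroup 2 ↥(W ⊔ zpowers (n * u)) :=
      pW.to_sup_of_normal_left (two (k := 1) (by rw [e5, pow_one, pow_two, c2])).pg
    rintro _ ⟨⟨w, rfl⟩, hw⟩
    rw [← e4] at hw
    rw [← e5]
    exact (key _ w).2 (mem_cent1.2 (PGroup.elemAb_comm (h.elem_cent q o) ⟨mem_sup_left w.2, (key _ w).1 hw⟩
      ⟨mem_sup_right (mem_zpowers _), mem_cent1.2 k⟩))
  · obtain ⟨g, rfl⟩ := hπ x
    rintro _ ⟨w, rfl⟩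
    have ind : ∀ n : ℕ, ∃ u : W, (SemidirectProduct.inl w * SemidirectProduct.inr (π g) : W ⋊[φ] X) ^ n =
        .inl u * .inr (π g) ^ n ∧ (w * g) ^ n = u * g ^ n := fun n => by
      induction n with
      | zero => exact ⟨1, by simp⟩
      | succ n ih =>
        obtain ⟨u, a, b⟩ := ih
        refine ⟨w * φ (π g) u, ?_, ?_⟩
        · rw [pow_succ', a, pow_succ', map_mul, mul_assoc, ← mul_assoc (SemidirectProduct.inr _), aut]
          simp only [mul_assoc]
        · rw [pow_succ', b, pow_succ', coe_mul, hφ]; group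
    obtain ⟨u, a, b⟩ := ind 8
    obtain ⟨k, g8⟩ := two (k := 3) hx
    rw [h.pow_eight g8, mul_one] at b
    have := h.pow_eight (x := w * g) (k := 4) (by
      rw [show 2 ^ 4 = 8 * 2 by norm_num, pow_mul, b]; exact el.2 _ u.2)
    have u1 : u = 1 := Subtype.ext (b ▸ this)
    rw [a, u1, ← map_pow, hx, map_one, map_one, one_mul]
  · exact (Nat.card_congr (MonoidHom.ofInjective SemidirectProduct.inl_injective).toEquiv).symm
  · have : SemidirectProduct.inl.range ⊓ 𝐂[(SemidirectProduct.inr (π g) : W ⋊[φ] X)] =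
        ((W ⊓ 𝐂[g]).subgroupOf W).map SemidirectProduct.inl := by
      ext z
      constructor
      · rintro ⟨⟨w, rfl⟩, hw⟩
        exact ⟨w, ⟨w.2, (key g w).1 hw⟩, rfl⟩
      · rintro ⟨w, hw, rfl⟩
        exact ⟨⟨w, rfl⟩, (key g w).2 hw.2⟩
    rw [this, card_map_of_injective SemidirectProduct.inl_injective]
    exact Nat.card_congr (subgroupOfEquivOfLe inf_le_left).toEquiv

end Cfsg.Lib.O8E
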