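import Cfsg.Agent.Lib.O8E.T5
import Cfsg.Agent.Lib.L72.SC

/-!
# Modules for `A₇`
-/

set_option autoImplicit false

namespace Cfsg.Lib.O8E

open Subgroup Cfsg.Lib Cfsg.Lib.BG Cfsg.Lib.Transfer Cfsg.Lib.PLocal Cfsg.Lib.Loc
open scoped commutatorElement

universe u v

variable {Γ : Type u} [Group Γ] [Finite Γ] {W : Subgroup Γ} {X : Type v} [Group X]

/-- Proof: `L72.F21.wiel` for `(j y, j f)` and `fpf`. -/
theorem cube {j : X →* Γ} (m : Md W j) {y f : X} (e : L72.F21 y f) : Nat.card ↥(W ⊓ 𝐂[j y]) ^ 3 = Nat.card W := by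
  have := (e.map m.inj).wiel (PGroup.elemAb_isPGroup m.el) (m.nm y) (m.nm f)
  rw [m.fpf f (.inr e.o7), bot_inf_eq, card_bot, one_pow, one_mul, mul_one] at this
  exact this.symm

theorem e9_map {Y : Type*} [Group Y] {j : X →* Y} (hj : Function.Injective j) {a b : X} (e : L72.E9 a b) :
    L72.E9 (j a) (j b) :=
  ⟨(orderOf_injective j hj a).trans e.ox, (orderOf_injective j hj b).trans e.oy, e.cm.map j, fun h =>
    e.n ((mem_map_iff_mem hj).1 (MonoidHom.map_zpowers j b ▸ h))⟩

theorem t7_bot (pW : IsPGroup 2 W) (h : (Nat.card W).factorization 2 = 0) : W = ⊥ := by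
  obtain ⟨k, e⟩ := pW.exists_card_eq
  rw [e, Nat.prime_two.factorization_pow, Finsupp.single_eq_same] at h
  exact card_eq_one.1 (by rw [e, h, pow_zero])

/-- `S₅ ≤ A₇`. -/
theorem t7_emb : ∃ i : S5 →* A7, Function.Injective i ∧
    (i (List.formPerm [0, 1, 2])).1 = List.formPerm [0, 1, 2] := by
  let s : ℤˣ →* Equiv.Perm (Fin 2) := MonoidHom.mk' (fun u => if u = 1 then 1 else Equiv.swap 0 1) (by decide)
  have hs : ∀ u, Equiv.Perm.sign (s u) = u := by decide
  let i : S5 →* Equiv.Perm (Fin 7) := (finSumFinEquiv (m := 5) (n := 2)).permCongrHom.toMonoidHom.comp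
    ((Equiv.Perm.sumCongrHom _ _).comp ((MonoidHom.id _).prod (s.comp Equiv.Perm.sign)))
  have hi : ∀ σ, i σ = finSumFinEquiv.permCongr (Equiv.Perm.sumCongr σ (s (Equiv.Perm.sign σ))) := fun _ => rfl
  refine ⟨i.codRestrict _ fun σ => Equiv.Perm.mem_alternatingGroup.2 ?_, fun σ τ e => ?_, ?_⟩
  · rw [hi, Equiv.Perm.sign_permCongr, Equiv.Perm.sign_sumCongr, hs, Int.units_mul_self]
  · exact congrArg Prod.fst (Equiv.Perm.sumCongrHom_injective
      ((finSumFinEquiv (m := 5) (n := 2)).permCongrHom.injective (congrArg Subtype.val e)))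
  · change i _ = _
    rw [hi]
    decide +kernel

/-- Proof: embed `S₅ → A₇`, `σ ↦ σ ⬝ (5 6)^{sign σ}` (or: a hom from the Coxeter/Carmichael presentation); `ts5` gives
`W ⊓ C(a) = 1` for `a = (0 1 2)`, by conjugation also for `b = (3 4 5)`.  `a b` and `a b⁻¹` are conjugate in `A₇` to `y` of an `F21`
(`f = (0 1 2 3 4 5 6)`, `y : i ↦ 2 i`), let `c = |W ⊓ C(y)|`.  `L72.E9.cnt`: `|W| = c²`; `cube`: `|W| = c³`.  So `|W| = 1`. -/
theorem t7 {j : A7 →* Γ} (m : Md W j) : W = ⊥ := by
  have : Fact (Nat.Prime 7) := ⟨by norm_num⟩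
  have pW := PGroup.elemAb_isPGroup m.el
  obtain ⟨i, hi, e⟩ := t7_emb
  let a : A7 := ⟨List.formPerm [0, 1, 2], Equiv.Perm.mem_alternatingGroup.2 (by decide)⟩
  let b : A7 := ⟨List.formPerm [3, 4, 5], Equiv.Perm.mem_alternatingGroup.2 (by decide)⟩
  let g : A7 := ⟨Equiv.swap 0 3 * List.formPerm [1, 4, 2, 5], Equiv.Perm.mem_alternatingGroup.2 (by decide +kernel)⟩
  let f : A7 := ⟨List.formPerm [6, 0, 1, 3, 2, 5, 4], Equiv.Perm.mem_alternatingGroup.2 (by decide +kernel)⟩
  let f' : A7 := ⟨List.formPerm [6, 0, 1, 3, 2, 4, 5], Equiv.Perm.mem_alternatingGroup.2 (by decide +kernel)⟩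
  have o : orderOf (List.formPerm [0, 1, 2] : S5) = 3 := orderOf_eq_prime (by decide) (by decide)
  have ea : i (List.formPerm [0, 1, 2]) = a := Subtype.ext e
  have ha : W ⊓ 𝐂[j a] = ⊥ := ea ▸ ts5 (m.comp hi) o
  have hb : W ⊓ 𝐂[j b] = ⊥ := by
    have := ts5 (m.comp (i := (MulAut.conj g).toMonoidHom.comp i) ((MulAut.conj g).injective.comp hi)) o
    rwa [MonoidHom.comp_apply, MonoidHom.comp_apply, ea,
      show (MulAut.conj g).toMonoidHom a = b from (by decide +kernel : g * a * g⁻¹ = b)] at this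
  have ob : orderOf b = 3 := orderOf_eq_prime (by decide +kernel) (by decide +kernel)
  have e9 : L72.E9 (j a) (j b) := e9_map m.inj ⟨orderOf_eq_prime (by decide +kernel) (by decide +kernel), ob,
    (by decide +kernel : a * b = b * a), fun h => by
      rcases L72.mem3 ob h with e | e | e <;> revert e <;> decide +kernel⟩
  have c1 := cube m (y := a * b) (f := f) ⟨orderOf_eq_prime (by decide +kernel) (by decide +kernel),
    orderOf_eq_prime (by decide +kernel) (by decide +kernel), by decide +kernel⟩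
  have c2 := cube m (y := a * b⁻¹) (f := f') ⟨orderOf_eq_prime (by decide +kernel) (by decide +kernel),
    orderOf_eq_prime (by decide +kernel) (by decide +kernel), by decide +kernel⟩
  have c := e9.cnt pW (m.nm a) (m.nm b)
  replace c1 := congrArg (Nat.factorization · 2) c1
  replace c2 := congrArg (Nat.factorization · 2) c2
  rw [hb, ha, ← map_inv, ← map_mul, ← map_mul] at c
  simp only [Nat.factorization_pow, Finsupp.smul_apply, smul_eq_mul, bot_inf_eq, card_bot, Nat.factorization_one,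
    Finsupp.zero_apply] at c c1 c2
  exact t7_bot pW (by omega)

end Cfsg.Lib.O8E
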