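import Cfsg.Agent.Lib.O8E.Def

/-!
# The five simple groups
-/

set_option autoImplicit false

namespace Cfsg.Lib.O8E

open Subgroup Cfsg.Lib Cfsg.Lib.BG Cfsg.Lib.Transfer Cfsg.Lib.PLocal Cfsg.Lib.Loc
open scoped commutatorElement

universe u v

variable {X : Type u} [Group X]

/-- (`H4.simple_s32` pattern: `Linear.isSimpleGroup_PSL`, trivial centre; avoid the heavy import `H4.A3` if easy.) -/
theorem simple_l32 : IsSimpleGroup L32 :=
  have := Linear.isSimpleGroup_PSL (ι := Fin 3) (F := ZMod 2) (.inl le_rfl)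
  ((QuotientGroup.quotientMulEquivOfEq (card_eq_one.1 (by rw [Linear.card_center_SL]; rfl))).trans
    QuotientGroup.quotientBot : Matrix.ProjectiveSpecialLinearGroup (Fin 3) (ZMod 2) ≃* L32).symm.isSimpleGroup

theorem card_l32 : Nat.card L32 = 168 := by
  have := Linear.card_SL_mul (ι := Fin 3) (F := ZMod 2)
  rw [Matrix.card_GL_field, ZMod.card] at this
  simpa [Fin.prod_univ_three] using this

theorem card_a7 : Nat.card A7 = 2520 := by
  have := PSL2.card_alternating_fin 7 (by norm_num); simp only [Nat.factorial] at this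
  change Nat.card (alternatingGroup (Fin 7)) = 2520
  omega

/-- (`Agent.S0243.result`.) -/
theorem IsL34.card (e : IsL34 X) : Nat.card X = 20160 := by
  obtain ⟨F, _, _, c, ⟨e⟩⟩ := e
  have h1 := Linear.card_SL_mul (ι := Fin 3) (F := F)
  have h2 := Linear.card_PSL_mul (ι := Fin 3) (F := F)
  rw [Matrix.card_GL_field, ← h2, c] at h1
  rw [Nat.card_congr e.toEquiv]
  norm_num [Fin.prod_univ_three] at h1
  omega

theorem Ty8.simple (t : Ty8 X) : IsSimpleGroup X := by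
  rcases t with ⟨⟨e⟩⟩ | ⟨⟨e⟩⟩ | ⟨⟨e⟩⟩ | ⟨⟨e⟩⟩ | ⟨F, _, _, -, ⟨e⟩⟩
  · exact e.isSimpleGroup
  · have := simple_l32; exact e.isSimpleGroup
  · have := alternatingGroup.isSimpleGroup (α := Fin 6) (by simp); exact e.isSimpleGroup
  · have := alternatingGroup.isSimpleGroup (α := Fin 7) (by simp); exact e.isSimpleGroup
  · have := Linear.isSimpleGroup_PSL (ι := Fin 3) (F := F) (.inl le_rfl); exact e.isSimpleGroup

theorem Ty8.card (t : Ty8 X) : Nat.card X = 60 ∨ Nat.card X = 168 ∨ Nat.card X = 360 ∨ Nat.card X = 2520 ∨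
    Nat.card X = 20160 := by
  rcases t with ⟨⟨e⟩⟩ | ⟨⟨e⟩⟩ | ⟨⟨e⟩⟩ | ⟨⟨e⟩⟩ | e
  exacts [.inl ((Nat.card_congr e.toEquiv).trans Spec2.card_a5), .inr (.inl ((Nat.card_congr e.toEquiv).trans card_l32)),
    .inr (.inr (.inl ((Nat.card_congr e.toEquiv).trans Spec2.card_a6))),
    .inr (.inr (.inr (.inl ((Nat.card_congr e.toEquiv).trans card_a7)))), .inr (.inr (.inr (.inr e.card)))]

theorem cf_map {L : Type*} [Group L] {f : L →* X} (hf : Function.Injective f) {r m : ℕ} {a a' b : L}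
    (c : Spec2.Cf r m a a' b) : Spec2.Cf r m (f a) (f a') (f b) := by
  simpa only [Spec2.Cf, ← map_pow, ← map_inv, ← map_mul, hf.eq_iff, map_eq_one_iff f hf, ne_eq] using c

theorem cf_l32 : ∃ a a' b : L32, Spec2.Cf 2 3 a a' b := by
  refine ⟨⟨!![1, 0, 1; 0, 1, 0; 0, 0, 1], by decide +kernel⟩, ⟨!![1, 0, 0; 0, 1, 1; 0, 0, 1], by decide +kernel⟩,
    ⟨!![0, 1, 0; 1, 1, 0; 0, 0, 1], by decide +kernel⟩, @of_decide_eq_true _ (Spec2.decCf (L := L32) _ _ _ _ _) ?_⟩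
  decide +kernel

theorem cf_a7 : Spec2.Cf 2 3 (⟨Equiv.swap 0 1 * Equiv.swap 2 3, Equiv.Perm.mem_alternatingGroup.2 (by decide)⟩ : A7)
    ⟨Equiv.swap 0 2 * Equiv.swap 1 3, Equiv.Perm.mem_alternatingGroup.2 (by decide)⟩
    ⟨Equiv.swap 0 1 * Equiv.swap 1 2, Equiv.Perm.mem_alternatingGroup.2 (by decide)⟩ := by decide +kernel

/-- `L₃(2) ≤ L₃(4)`. -/
theorem IsL34.l32 (e : IsL34 X) : ∃ i : L32 →* X, Function.Injective i := by
  obtain ⟨F, _, _, c, ⟨e⟩⟩ := e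
  have : CharP F 2 := charP_of_card_eq_prime_pow (p := 2) (f := 2) c
  have := simple_l32
  let f : L32 →* Matrix.ProjectiveSpecialLinearGroup (Fin 3) F :=
    (QuotientGroup.mk' _).comp (Matrix.SpecialLinearGroup.map (ZMod.castHom dvd_rfl F))
  refine ⟨e.symm.toMonoidHom.comp f, e.symm.injective.comp ((MonoidHom.ker_eq_bot_iff f).1
    (f.normal_ker.eq_bot_or_eq_top.resolve_right fun h => ?_))⟩
  obtain ⟨r, -, hr⟩ := Matrix.SpecialLinearGroup.mem_center_iff.1 ((QuotientGroup.eq_one_iff _).1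
    (h.ge (mem_top ⟨!![1, 0, 1; 0, 1, 0; 0, 0, 1], by decide +kernel⟩)))
  exact zero_ne_one ((congrFun (congrFun hr 0) 2).trans (map_one (ZMod.castHom dvd_rfl F)) : (0 : F) = 1)

/-- `A₄ ≤ X` (transport `Cf` along injective homomorphisms; for `L32` explicit matrices and `decide`; for `L₃(4)` the same
matrices through `SL(3, ZMod 2) → SL(3, F) → PSL(3, F)`, injective as `L32` is simple). -/
theorem Ty8.cf (t : Ty8 X) : ∃ a a' b : X, Spec2.Cf 2 3 a a' b := by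
  obtain ⟨a, a', b, c⟩ := cf_l32
  rcases t with ⟨⟨e⟩⟩ | ⟨⟨e⟩⟩ | ⟨⟨e⟩⟩ | ⟨⟨e⟩⟩ | e
  · exact ⟨_, _, _, cf_map (f := e.symm.toMonoidHom) e.symm.injective Spec2.cf5.1⟩
  · exact ⟨_, _, _, cf_map (f := e.symm.toMonoidHom) e.symm.injective c⟩
  · exact ⟨_, _, _, cf_map (f := e.symm.toMonoidHom) e.symm.injective Spec2.cf6.1⟩
  · exact ⟨_, _, _, cf_map (f := e.symm.toMonoidHom) e.symm.injective cf_a7⟩
  · obtain ⟨i, hi⟩ := e.l32
    exact ⟨_, _, _, cf_map hi c⟩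

theorem a7_no8 (x : A7) : orderOf x ≠ 8 := fun e => by
  have : orderOf x.1 ∣ 420 := by
    rw [← Equiv.Perm.lcm_cycleType, Multiset.lcm_dvd]
    intro n hn
    have h1 := Equiv.Perm.two_le_of_mem_cycleType hn
    have h2 : n ≤ 7 := (Equiv.Perm.le_card_support_of_mem_cycleType hn).trans (by simpa using x.1.support.card_le_univ)
    interval_cases n <;> norm_num
  rw [orderOf_coe, e] at this
  omega

/-- Proof: lift `x` to `g ∈ SL₃(F)`; `g ^ 8` is a scalar `ω`, `ω ^ 3 = 1`; `g' = g ^ 9` is a lift with `g' ^ 8 = 1`, so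
`(g' - 1) ^ 8 = 0` in characteristic `2`, a nilpotent `3 × 3` matrix has cube `0`, so `g' ^ 4 - 1 = (g' - 1) ^ 4 = 0`. -/
theorem IsL34.no8 (e : IsL34 X) (x : X) : orderOf x ≠ 8 := fun o => by
  obtain ⟨F, _, _, c, ⟨e⟩⟩ := e
  have : CharP F 2 := charP_of_card_eq_prime_pow (p := 2) (f := 2) c
  obtain ⟨g, hg⟩ := QuotientGroup.mk'_surjective _ (e x)
  have x8 : x ^ 8 = 1 := o ▸ pow_orderOf_eq_one x
  obtain ⟨r, r3, hr⟩ := Matrix.SpecialLinearGroup.mem_center_iff.1 ((QuotientGroup.eq_one_iff (g ^ 8)).1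
    ((map_pow (QuotientGroup.mk' _) g 8).trans (by rw [hg, ← map_pow, x8, map_one])))
  have h1 : (g ^ 9).1 ^ 2 ^ 3 = 1 := by
    rw [← Matrix.SpecialLinearGroup.coe_pow, ← pow_mul, show 9 * 2 ^ 3 = 8 * (3 * 3) from rfl, pow_mul,
      Matrix.SpecialLinearGroup.coe_pow, ← hr, ← map_pow, pow_mul, show r ^ 3 = 1 from r3, one_pow, map_one]
  have h2 : IsNilpotent ((g ^ 9).1 - 1) :=
    ⟨2 ^ 3, by rw [sub_pow_char_pow_of_commute _ _ (Commute.one_right _), h1, one_pow, sub_self]⟩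
  have h3 : ((g ^ 9).1 - 1) ^ 3 = 0 := by
    have := Matrix.aeval_self_charpoly ((g ^ 9).1 - 1)
    rwa [sub_eq_zero.1 (Matrix.isNilpotent_charpoly_sub_pow_of_isNilpotent h2).eq_zero, map_pow, Polynomial.aeval_X] at this
  have h4 : (g ^ 9) ^ 4 = 1 := Subtype.ext (sub_eq_zero.1 (by
    have := sub_pow_char_pow_of_commute 2 2 (Commute.one_right (g ^ 9).1)
    rw [one_pow, show 2 ^ 2 = 3 + 1 from rfl, pow_succ, h3, zero_mul] at this
    exact this.symm))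
  have h5 : x ^ (9 * 4) = 1 := e.injective (by rw [map_pow, ← hg, ← map_pow, pow_mul, h4, map_one, map_one])
  exact absurd (o ▸ orderOf_dvd_of_pow_eq_one h5) (by norm_num)

end Cfsg.Lib.O8E
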