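import Cfsg.Agent.Lib.O8E.T6
import Cfsg.Agent.Lib.O8E.T7
import Cfsg.Agent.Lib.O8E.Ty
import Cfsg.Agent.Lib.Pres.Carm
import Cfsg.Agent.S2739

/-!
# Modules for `L₃(4)`
-/

set_option autoImplicit false

namespace Cfsg.Lib.O8E

open Subgroup Cfsg.Lib Cfsg.Lib.BG Cfsg.Lib.Transfer Cfsg.Lib.PLocal Cfsg.Lib.Loc
open scoped commutatorElement

universe u v

variable {Γ : Type u} [Group Γ] [Finite Γ] {W : Subgroup Γ} {X : Type v} [Group X]

/-- The field with four elements. -/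
abbrev tlK : Type := QuadraticAlgebra (ZMod 2) 1 1

/-- `A` is a scalar matrix. -/
def tlS (A : Matrix.SpecialLinearGroup (Fin 3) tlK) : Prop :=
  A.1 0 0 ^ 3 = 1 ∧ ∀ i j, A.1 i j = if i = j then A.1 0 0 else 0

instance tlD (A : Matrix.SpecialLinearGroup (Fin 3) tlK) : Decidable (tlS A) :=
  @instDecidableAnd _ _ _ (@Nat.decidableForallFin _ _ fun _ => inferInstance)

/-- Carmichael generators of `3.A₆ ≤ SL₃(4)`. -/
def tlX : Fin 6 → Matrix.SpecialLinearGroup (Fin 3) tlK :=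
  ![1, 1, ⟨!![0, 0, 1; 1, 0, 0; 0, 1, 0], by decide +kernel⟩, ⟨!![0, 0, 1; 0, 1, 0; 1, 1, 1], by decide +kernel⟩,
    ⟨!![0, 0, 1; 0, ⟨0, 1⟩, 0; ⟨1, 1⟩, 1, ⟨0, 1⟩], by decide +kernel⟩,
    ⟨!![0, 0, 1; 0, ⟨1, 1⟩, 0; ⟨0, 1⟩, 1, ⟨1, 1⟩], by decide +kernel⟩]

theorem tl_rel : (∀ i, tlS (tlX i ^ 3)) ∧
    ∀ i ≠ 0, i ≠ 1 → ∀ j ≠ 0, j ≠ 1 → i ≠ j → tlS ((tlX i * tlX j) ^ 2) := by
  decide +kernel

/-- `A₆ ≤ L₃(4)` (hyperoval stabiliser).  Proof: `Pres.carmichael_univ` (four elements `x₁, …, x₄` of order `3` of `PSL(3, F)` with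
`(xᵢ xⱼ)² = 1`; find matrices over `F₄ = {0, 1, ω, ω²}` by computer; the relations may hold up to scalars), nontrivial hom from a
simple group.  Or any existing embedding in the library (`cf find` hexacode / `3.A6` / `A6 PSL 3`). -/
theorem a6_l34 (e : IsL34 X) : ∃ i : A6 →* X, Function.Injective i := by
  obtain ⟨F, _, _, c, ⟨e⟩⟩ := e
  classical
  have : CharP F 2 := charP_of_card_eq_prime_pow (p := 2) (f := 2) c
  let _ := ZMod.algebra F 2
  obtain ⟨u, u0⟩ : ∃ u : F, u ∉ ({0, 1} : Finset F) := by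
    by_contra! h
    have := (Finset.card_le_card fun x (_ : x ∈ Finset.univ) => h x).trans Finset.card_le_two
    rw [Finset.card_univ, c] at this
    omega
  simp only [Finset.mem_insert, Finset.mem_singleton, not_or] at u0
  have u4 : u * (u - 1) * (u * u + u + 1) = 0 := by
    have := FiniteField.pow_card u
    rw [c] at this
    linear_combination this
  replace u4 := (mul_eq_zero.1 u4).resolve_left (mul_ne_zero u0.1 (sub_ne_zero.2 u0.2))
  let φ := (QuadraticAlgebra.lift (R := ZMod 2) (a := 1) (b := 1) ⟨u, by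
    rw [one_smul, one_smul]
    linear_combination u4 - (1 + u) * CharTwo.two_eq_zero (R := F)⟩).toRingHom
  let f : Matrix.SpecialLinearGroup (Fin 3) tlK →* Matrix.ProjectiveSpecialLinearGroup (Fin 3) F :=
    (QuotientGroup.mk' _).comp (Matrix.SpecialLinearGroup.map φ)
  have hf : ∀ A, tlS A → f A = 1 := fun A h => (QuotientGroup.eq_one_iff _).2
    (Matrix.SpecialLinearGroup.mem_center_iff.2 ⟨φ (A.1 0 0), by
      rw [← map_pow, Fintype.card_fin, h.1, map_one], by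
      ext i j
      change _ = φ (A.1 i j)
      rw [h.2 i j, Matrix.scalar_apply, Matrix.diagonal_apply, apply_ite φ, map_zero]⟩)
  obtain ⟨ψ, h1, h2⟩ := Pres.carmichael_univ (α := (0 : Fin 6)) (β := 1) (by decide) (fun i => f (tlX i))
    (fun i _ _ => by rw [← map_pow]; exact hf _ (tl_rel.1 i))
    fun i a b j c d e => by rw [← map_mul, ← map_pow]; exact hf _ (tl_rel.2 i a b j c d e)
  have := alternatingGroup.isSimpleGroup (α := Fin 6) (by simp)
  refine ⟨e.symm.toMonoidHom.comp h1.toHom, e.symm.injective.comp ((MonoidHom.ker_eq_bot_iff _).1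
    (h1.toHom.normal_ker.eq_bot_or_eq_top.resolve_right fun h => ?_))⟩
  have k : ψ (Pres.c3 0 1 2) = 1 := h.ge (mem_top ⟨Pres.c3 0 1 2, by simp [Pres.c3]⟩)
  rw [h2 2 (by decide) (by decide)] at k
  obtain ⟨r, -, hr⟩ := Matrix.SpecialLinearGroup.mem_center_iff.1 ((QuotientGroup.eq_one_iff _).1 k)
  exact zero_ne_one ((congrFun (congrFun hr 0) 2).trans (map_one φ) : (0 : F) = 1)

/-- An `F21` in `L₃(4)`, e.g. in `SL₃(2)`: companion matrix of `t³ + t + 1` and the Frobenius matrix. -/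
theorem f21_l34 (e : IsL34 X) : ∃ y f : X, L72.F21 y f := by
  obtain ⟨i, hi⟩ := e.l32
  have : Fact (Nat.Prime 7) := ⟨by norm_num⟩
  refine ⟨_, _, L72.F21.map hi (x := ⟨!![1, 0, 0; 0, 0, 1; 0, 1, 1], by decide +kernel⟩)
    (y := ⟨!![0, 0, 1; 1, 0, 1; 0, 1, 0], by decide +kernel⟩) ⟨orderOf_eq_prime ?_ (mt (congrArg Subtype.val) ?_),
      orderOf_eq_prime ?_ (mt (congrArg Subtype.val) ?_), ?_⟩⟩
  all_goals decide +kernel

/-- Proof: all subgroups of order `3` are conjugate (`Agent.S2739.result`), so `|W ⊓ C(j x)| = c` for all `x` of order `3`.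
`t6` and `L72.E9.cnt` for `i c6a, i c6b` give `|W| = c⁴`, `cube` gives `|W| = c³`. -/
theorem tl {j : X →* Γ} (e : IsL34 X) (m : Md W j) : W = ⊥ := by
  have pW := PGroup.elemAb_isPGroup m.el
  have cj : ∀ x y : X, orderOf x = 3 → orderOf y = 3 → Nat.card ↥(W ⊓ 𝐂[j x]) = Nat.card ↥(W ⊓ 𝐂[j y]) := by
    obtain ⟨F, _, _, c, ⟨e⟩⟩ := e
    intro x y hx hy
    have o : ∀ z : X, orderOf z = 3 → Nat.card (zpowers (e z)) = 3 := fun z hz => by
      rw [Nat.card_zpowers, e.orderOf_eq, hz]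
    obtain ⟨g, hg⟩ := Cfsg.Agent.S2739.result F c _ _ (o x hx) (o y hy)
    obtain ⟨g, rfl⟩ := e.surjective g
    have k : e.toMonoidHom (g * x * g⁻¹) ∈ (zpowers y).map e.toMonoidHom := by
      rw [MonoidHom.map_zpowers, map_mul, map_mul, map_inv]
      exact hg.le ⟨_, mem_zpowers _, rfl⟩
    rw [← Transfer.card_conj (j g), Transfer.conj_inf, conj_eq_of_norm (m.nm g), conj_cent1, ← map_inv, ← map_mul,
      ← map_mul]
    rcases L72.mem3 hy ((mem_map_iff_mem e.injective).1 k) with k | k | k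
    · exact (L72.o3_ne hx (by simpa using k)).elim
    · rw [k]
    · rw [k, map_inv, cent1_inv]
  obtain ⟨i, hi⟩ := a6_l34 e
  obtain ⟨y, f, h⟩ := f21_l34 e
  have c := (e9_map (m.comp hi).inj e9_six).cnt pW (m.nm _) (m.nm _)
  have o : ∀ s : A6, s ^ 3 = 1 → s ≠ 1 → Nat.card ↥(W ⊓ 𝐂[j.comp i s]) = Nat.card ↥(W ⊓ 𝐂[j y]) := fun s a b =>
    cj _ _ ((orderOf_injective i hi s).trans (orderOf_eq_prime a b)) h.o3
  have c1 := congrArg (Nat.factorization · 2) (cube m h)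
  rw [t6 (m.comp hi), ← map_inv, ← map_mul, ← map_mul, o _ (by decide +kernel) (by decide +kernel),
    o _ (by decide +kernel) (by decide +kernel), o _ (by decide +kernel) (by decide +kernel),
    o _ (by decide +kernel) (by decide +kernel)] at c
  simp only [Nat.factorization_pow, Finsupp.smul_apply, smul_eq_mul, card_bot, Nat.factorization_one,
    Finsupp.zero_apply] at c c1
  exact t7_bot pW (by omega)

end Cfsg.Lib.O8E
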