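import Cfsg.Agent.Lib.O8E.T6

/-!
# Modules for `M₁₀`
-/

set_option autoImplicit false

namespace Cfsg.Lib.O8E

open Subgroup Cfsg.Lib Cfsg.Lib.BG Cfsg.Lib.Transfer Cfsg.Lib.PLocal Cfsg.Lib.Loc
open scoped commutatorElement

universe u v

variable {Γ : Type u} [Group Γ] [Finite Γ] {W : Subgroup Γ} {Y : Type v} [Group Y]

/-- The element `(0 3)(1 4 2 5)`. -/
def tmg : A6 := ⟨Equiv.swap 0 3 * List.formPerm [1, 4, 2, 5], Equiv.Perm.mem_alternatingGroup.2 (by decide +kernel)⟩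

theorem tm_ord : orderOf tmg = 4 :=
  orderOf_eq_prime_pow (p := 2) (n := 1) (by decide +kernel) (by decide +kernel)

theorem tm_type (g : A6) (h : orderOf g = 4) : g.1.cycleType = {4, 2} := by
  rw [← orderOf_coe, ← Equiv.Perm.lcm_cycleType] at h
  have s := (Equiv.Perm.sum_cycleType g.1).trans_le (Finset.card_le_univ _)
  have sg := (Equiv.Perm.sign_of_cycleType g.1).symm.trans (Equiv.Perm.mem_alternatingGroup.1 g.2)
  have t : ∀ n ∈ g.1.cycleType, 2 ≤ n ∧ n ∣ 4 := fun n hn =>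
    ⟨Equiv.Perm.two_le_of_mem_cycleType hn, h ▸ Multiset.dvd_lcm hn⟩
  generalize g.1.cycleType = c at *
  obtain ⟨d, rfl⟩ : ∃ d, c = 4 ::ₘ d := Multiset.exists_cons_of_mem (by_contra fun n => by
    have : c.lcm ∣ 2 := Multiset.lcm_dvd.2 fun a ha => by
      obtain ⟨h1, h2⟩ := t a ha
      have := Nat.le_of_dvd (by norm_num) h2
      interval_cases a
      exacts [dvd_rfl, absurd h2 (by norm_num), absurd ha n]
    rw [h] at this
    omega)
  rcases d.empty_or_exists_mem with rfl | ⟨a, ha⟩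
  · exact absurd sg (by decide)
  obtain ⟨d, rfl⟩ := Multiset.exists_cons_of_mem ha
  have h1 := (t a (by simp)).1
  simp only [Multiset.sum_cons, Fintype.card_fin] at s
  rcases d.empty_or_exists_mem with rfl | ⟨b, hb⟩
  · obtain rfl : a = 2 := by omega
    rfl
  have h2 := (t b (by simp [hb])).1
  have := Multiset.le_sum_of_mem hb
  omega

theorem tm_core {V : Type*} [CommGroup V] (sq : ∀ v : V, v * v = 1) {A B G X : MulAut V}
    (ba : ∀ v, B (A v) = A (B v)) (a3 : ∀ v, A (A (A v)) = v) (b3 : ∀ v, B (B (B v)) = v)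
    (ga : ∀ v, G (A v) = B (G v)) (gb : ∀ v, G (B v) = A (A (G v))) (xx : ∀ v, X (X v) = G v)
    (g4 : ∀ v, G (G (G (G v))) = v) (fp : ∀ v, A v = v → B v = v → v = 1)
    (n8 : ∀ u, u * X u * G (u * X u) * G (G (u * X u * G (u * X u))) = 1) (v : V) : G v = v := by
  have sq' : ∀ a b : V, a * (a * b) = b := fun a b => by rw [← mul_assoc, sq, one_mul]
  have eq : ∀ a b : V, a * b = 1 → a = b := fun a b h => by rw [← sq' b a, mul_comm b a, h, mul_one]
  have gx : ∀ v, G (X v) = X (G v) := fun v => by rw [← xx, xx v]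
  have key : ∀ w, G w = w → X w = w := fun w hw => by
    have n := fp ((w * B w * B (B w)) * A (w * B w * B (B w)) * A (A (w * B w * B (B w))))
      (by simp only [map_mul, a3]; ac_rfl) (by simp only [map_mul, ba, b3]; ac_rfl)
    have p : A w * A (B w) * G (A w * A (B w)) * G (G (A w * A (B w) * G (A w * A (B w)))) = w :=
      eq _ _ (by rw [← n]; simp only [map_mul, ga, gb, hw, ba, a3]; ac_rfl)
    refine eq _ _ ((?_ : _ = _).trans (n8 (A w * A (B w))))
    conv_lhs => rw [← p]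
    generalize A w * A (B w) = u
    simp only [map_mul, gx]
    ac_rfl
  obtain ⟨D, hD⟩ : ∃ D : V → V, ∀ v, D v = X v * v := ⟨_, fun _ => rfl⟩
  have d2 : ∀ v, D (D v) = G v * v := fun v => by rw [hD, hD, map_mul, xx, mul_assoc, sq']
  have k : ∀ v, D (D v) = 1 → D v = 1 := fun v h => by rw [hD, key v (eq _ _ (d2 v ▸ h)), sq]
  refine eq _ _ (d2 v ▸ k _ (k _ (k _ (k _ (k _ (k _ ?_))))))
  have e : ∀ v, G (G v * v) * (G v * v) = G (G v) * v := fun v => by rw [map_mul, mul_assoc, sq']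
  rw [d2, d2, e, d2, d2, e]
  simp only [map_mul, mul_assoc, sq', g4, sq]

/-- Proof: `g` is conjugate in `A₆` to `g₀ = (0 3)(1 4 2 5)` (`decide`, or cycle types; conjugate `x` by `i k`), so let `g = g₀`.
It normalises `E = ⟨a, b⟩` (`a = c6a`, `b = c6b`) with orbits `{a, b, a⁻¹, b⁻¹}^`, `{ab, ab⁻¹, …}` on `E ∖ 1`.  For `w ∈ W ⊓ C(g)` put
`u = w^a w^{ab}` (`w^e = e w e⁻¹`); `∏_{k<4} g^k u g^{-k} = ∏_{1 ≠ e ∈ E} w^e = w ⬝ ∏_{e ∈ E} w^e = w` as the last product lies in
`W ⊓ C(E) = 1` (`t6` for `m.comp hi`).  `n8` for `u`: `1 = ∏_{k<8} x^k u x^{-k} = w ⬝ x w x⁻¹` (even and odd `k`).  So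
`W ⊓ C(x²) ≤ C(x)`.  If `x ∉ C(W)`, `step`-like: take `w ∈ W ∖ C(x)` with `[w,x] ∈ W ⊓ C(x)` (the `2`-group `W⟨x⟩` is nilpotent);
then `x² w x⁻² = w [x,w]² = w`, so `w ∈ C(x)`, absurd.  Hence `i g ∈ C(W)`; `{s ∈ A₆ | j (i s) ∈ C(W)}` is normal and nontrivial,
so contains a `5`-cycle, and `fpf` gives `W = 1`. -/
theorem tm {j : Y →* Γ} (m : Md W j) {i : A6 →* Y} (hi : Function.Injective i) {x : Y} (x8 : x ^ 8 = 1) {g : A6}
    (g4 : orderOf g = 4) (e : x * x = i g) : W = ⊥ := by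
  obtain ⟨k, hk⟩ := isConj_iff.1 (Equiv.Perm.isConj_of_cycleType_eq ((tm_type tmg tm_ord).trans (tm_type g g4).symm))
  have e' : x * x = i.comp (MulAut.conjNormal k : MulAut A6).toMonoidHom tmg :=
    e.trans (congrArg i (Subtype.ext hk.symm))
  replace hi : Function.Injective (i.comp (MulAut.conjNormal k : MulAut A6).toMonoidHom) :=
    hi.comp (MulAut.conjNormal k : MulAut A6).injective
  generalize i.comp (MulAut.conjNormal k : MulAut A6).toMonoidHom = i at e' hi
  let _ : CommGroup W := { (inferInstance : Group W) with mul_comm := m.el.1.is_comm.comm }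
  have sq : ∀ v : W, v * v = 1 := fun v => Subtype.ext ((pow_two _).symm.trans (m.el.2 _ v.2))
  let ρ : Y →* MulAut W := W.normalizerMonoidHom.comp (j.codRestrict _ m.nm)
  have hρ : ∀ y (v : W), (ρ y v : Γ) = j y * v * (j y)⁻¹ := fun _ _ => rfl
  have fx : ∀ y (v : W), ρ y v = v ↔ (v : Γ) ∈ 𝐂[j y] := fun y v => by
    rw [Subtype.ext_iff, hρ, mem_cent1, mul_inv_eq_iff_eq_mul, eq_comm]
  have r : ∀ y z v, ρ y (ρ z v) = ρ (y * z) v := fun y z v => by rw [map_mul]; rfl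
  have p2 : ∀ y (u : W), ((u : Γ) * j y) ^ 2 = (u * ρ y u : W) * j (y * y) := fun y u => by
    rw [coe_mul, hρ, map_mul, pow_two]; group
  have x4 : x * x * (x * x) * (x * x * (x * x)) = 1 := by rw [← x8]; simp only [pow_succ, pow_zero, one_mul, mul_assoc]
  have ker : ρ (i tmg) = 1 := MulEquiv.ext (tm_core sq (A := ρ (i c6a)) (B := ρ (i c6b)) (X := ρ x)
    (fun v => by rw [r, r, ← map_mul, ← map_mul, show c6b * c6a = c6a * c6b by decide +kernel])
    (fun v => by rw [r, r, ← map_mul, ← map_mul, show c6a * c6a * c6a = 1 by decide +kernel, map_one, map_one]; rfl)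
    (fun v => by rw [r, r, ← map_mul, ← map_mul, show c6b * c6b * c6b = 1 by decide +kernel, map_one, map_one]; rfl)
    (fun v => by rw [r, r, ← map_mul, ← map_mul, show tmg * c6a = c6b * tmg by decide +kernel])
    (fun v => by rw [r, r, r, ← map_mul, ← map_mul, ← map_mul, show tmg * c6b = c6a * c6a * tmg by decide +kernel])
    (fun v => by rw [r, e'])
    (fun v => by rw [r, r, r, ← e', mul_assoc (x * x * (x * x)), x4, map_one]; rfl)
    (fun v a b => Subtype.ext ((t6 (m.comp hi)).le ⟨⟨v.2, (fx _ v).1 a⟩, (fx _ v).1 b⟩)) fun u => by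
      have := m.n8 x x8 u u.2
      rw [show 8 = 2 * 2 * 2 from rfl, pow_mul, pow_mul, p2, p2, p2, x4, map_one, mul_one, e', ← r] at this
      exact Subtype.ext this)
  have := alternatingGroup.isSimpleGroup (α := Fin 6) (by simp)
  have : Fact (Nat.Prime 5) := ⟨by norm_num⟩
  let f : A6 := ⟨List.formPerm [0, 1, 2, 3, 4], Equiv.Perm.mem_alternatingGroup.2 (by decide +kernel)⟩
  have hf : ρ (i f) = 1 := ((ρ.comp i).normal_ker.eq_bot_or_eq_top.resolve_left fun h =>
    (by decide +kernel : tmg ≠ 1) (h.le ker)).ge (mem_top f)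
  refine eq_bot_iff.2 fun v hv => (m.fpf (i f) (.inl ((orderOf_injective i hi f).trans
    (orderOf_eq_prime (by decide +kernel) (by decide +kernel))))).le ⟨hv, (fx _ ⟨v, hv⟩).1 (by rw [hf]; rfl)⟩

end Cfsg.Lib.O8E
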