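import Cfsg.Agent.Lib.O8E.St
import Cfsg.Agent.Lib.O8E.Idx
import Cfsg.Agent.Lib.O8E.Md
import Cfsg.Agent.Lib.O8E.TM
import Cfsg.Agent.Lib.O8E.TL

/-!
# Nonsolvable `Om8` groups with a normal `p`-subgroup
-/

set_option autoImplicit false

namespace Cfsg.Lib.O8E

open Subgroup Cfsg.Lib Cfsg.Lib.BG Cfsg.Lib.Transfer Cfsg.Lib.PLocal Cfsg.Lib.Loc
open scoped commutatorElement

universe u v

variable {H Y : Type u} [Group H] [Finite H] [Group Y] [Finite Y] {X : Subgroup Y}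

omit [Finite Y] in
theorem alt_over {n : ℕ} [X.Normal] (e : X ≃* alternatingGroup (Fin n)) (hC : 𝐂(X) = ⊥)
    (hn : n = 5 ∨ n = 6 ∧ ∀ g : Y, g ^ 8 = 1 → g ^ 4 = 1) : X = ⊤ ∨ Nonempty (Y ≃* Equiv.Perm (Fin n)) := by
  have h4 : 4 ≤ Nat.card (Fin n) := by simp; omega
  let ψ : Y →* MulAut (alternatingGroup (Fin n)) := (MulAut.congr e).toMonoidHom.comp MulAut.conjNormal
  have c := Alt.conjNormal_injective h4
  have hψ : Function.Injective ψ := (injective_iff_map_eq_one ψ).2 fun g a => by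
    have b := (map_eq_one_iff _ (MulAut.congr e).injective).1 a
    exact mem_bot.1 (hC.le fun x m => (mul_inv_eq_iff_eq_mul.1 ((MulAut.conjNormal_apply g ⟨x, m⟩).symm.trans
      (congrArg Subtype.val (DFunLike.congr_fun b ⟨x, m⟩)))).symm)
  have k : ∀ a, ψ (e.symm a) = MulAut.conj a := fun a => MulEquiv.ext fun x => by
    simp [ψ, show MulAut.conjNormal (e.symm a : Y) (e.symm x) = e.symm a * e.symm x * (e.symm a)⁻¹ from rfl]
  have r : ∀ g, ψ g ∈ (MulAut.conjNormal : Equiv.Perm (Fin n) →* MulAut (alternatingGroup (Fin n))).range := by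
    rcases hn with rfl | ⟨rfl, h8⟩
    · exact fun g => (Alt.conjNormal_bijective h4 (by simp)).2 _
    · refine fun g => Spec2.six_aut (H := ψ.range) (fun a => ⟨_, k a⟩) ?_ ⟨g, rfl⟩
      rintro _ ⟨g, rfl⟩ e
      rw [← map_pow, h8 g (hψ (by rw [map_pow, map_one]; exact e)), map_one]
  let f : Y →* Equiv.Perm (Fin n) := (MonoidHom.ofInjective c).symm.toMonoidHom.comp (ψ.codRestrict _ r)
  have hf : ∀ g, MulAut.conjNormal (f g) = ψ g := fun g =>
    congrArg Subtype.val ((MonoidHom.ofInjective c).apply_symm_apply (ψ.codRestrict _ r g))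
  have hi : Function.Injective f := fun a b e => hψ (by rw [← hf, ← hf, e])
  have k' : ∀ a, f (e.symm a) = a := fun a => c ((hf _).trans (k a))
  have : Nontrivial (Fin n) := Finite.one_lt_card_iff_nontrivial.1 (by omega)
  by_cases hM : ∀ g, f g ∈ alternatingGroup (Fin n)
  · exact .inl (eq_top_iff.2 fun g _ => hi (k' ⟨_, hM g⟩) ▸ (e.symm _).2)
  obtain ⟨g, hg⟩ := not_forall.1 hM
  refine .inr ⟨.ofBijective f ⟨hi, fun s => ?_⟩⟩
  by_cases hs : s ∈ alternatingGroup (Fin n)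
  · exact ⟨_, k' ⟨s, hs⟩⟩
  · exact ⟨g⁻¹ * e.symm ⟨_, Perm.mul_mem_alt hg hs⟩, by simp [k']⟩

omit [Finite H] [Finite Y] in
theorem onto_of {π : H →* Y} (hπ : Function.Surjective π) (hN : IsPGroup 2 π.ker) {Z : Type*} [Group Z] (e : Y ≃* Z) :
    Onto H Z := ⟨e.toMonoidHom.comp π, e.surjective.comp hπ, by
  rwa [← MonoidHom.comap_ker, (MonoidHom.ker_eq_bot_iff _).2 e.injective, MonoidHom.comap_bot]⟩

/-- Port of the case `n = 5` of `Spec2.Om6.alt_over` (which does not use `Om6`). -/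
theorem alt5_over [X.Normal] (e : X ≃* A5) (c : 𝐂(X) = ⊥) : X = ⊤ ∨ Nonempty (Y ≃* S5) :=
  alt_over e c (.inl rfl)

/-- Port of the case `n = 6` of `Spec2.Om6.alt_over` (`Spec2.six_aut`). -/
theorem alt6_over [X.Normal] (e : X ≃* A6) (c : 𝐂(X) = ⊥) (h4 : ∀ g : Y, g ^ 8 = 1 → g ^ 4 = 1) :
    X = ⊤ ∨ Nonempty (Y ≃* S6) :=
  alt_over e c (.inr ⟨rfl, h4⟩)

/-- Proof: `H` is not simple.  Take `π, Y, X` from `st`; `T ≤ ker π` (`le_ker`), so `p = 2`, and `W = Zo (ker π) ≠ 1` gives a module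
`Md W' j` for `Y` with `W' ≠ 1` (`md_of`).  `X ≅ A₇, L₃(4)`: `t7`, `tl` for `m.comp`.  `X ≅ A₅`: `alt5_over`.  `X ≅ A₆`: if some
`g ∈ Y` has `g ^ 8 = 1 ≠ g ^ 4` then `g² ∈ X` (`idx`) has order `4` and `tm` applies; else `alt6_over`, `ts6`.  `X ≅ L₃(2)`: if
`X ≠ ⊤`, `idx168` and `Spec2.exists_big` (`K := ⟨f⟩`; a lift of `f` has order `7` and cannot centralise `ker π ≠ 1`) give an
element of order divisible by `12`. -/
theorem ex (h : Om8 H) (hs : ¬ Group.IsSolvable H) (ih : IH.{u} (Nat.card H)) {p : ℕ} [Fact p.Prime] {T : Subgroup H}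
    (n : T.Normal) (hT : IsPGroup p T) (T1 : T ≠ ⊥) : p = 2 ∧ Ex8 H := by
  obtain ⟨Y, _, _, π, X, hπ, hN, nX, t, c⟩ := st h hs ih fun _ =>
    have : Group.IsSolvable (⊤ : Subgroup H) := n.eq_bot_or_eq_top.resolve_left T1 ▸ pgroup_sol hT
    (hs (Group.isSolvable_of_isSolvable_injective (f := (topEquiv (G := H)).symm.toMonoidHom) topEquiv.symm.injective)).elim
  have l := le_ker hπ t c n hT
  have N1 := ne_bot_mono T1 l
  refine ⟨pgroup_eq_of_dvd hN Fact.out ((pgroup_dvd_card hT T1).trans (card_dvd l)), ?_⟩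
  have : (Zo π.ker).Normal := normalizer_eq_top_iff.1 (top_le_iff.1
    (le_normalizer_of_normal.trans (normalizer_le_normalizer_oz π.ker)))
  obtain ⟨Γ, _, _, W, j, m, cW, -⟩ := md_of h hπ hN (oz_elemAb π.ker) (oz_le_centralizer π.ker)
  have W1 : W ≠ ⊥ := fun e => oz_ne_bot hN N1 (card_eq_one.1 (by rw [← cW, e, card_bot]))
  have tp : ∀ {Z : Type} [Group Z], (X ≃* Z) → X = ⊤ → Onto H Z := fun e e' =>
    onto_of hπ hN ((topEquiv.symm.trans (MulEquiv.subgroupCongr e'.symm)).trans e)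
  have hY := h.surj hπ
  have inj : ∀ {Z : Type} [Group Z] (e : X ≃* Z), Function.Injective (X.subtype.comp e.symm.toMonoidHom) :=
    fun e => X.subtype_injective.comp e.symm.injective
  rcases id t with ⟨⟨e⟩⟩ | ⟨⟨e⟩⟩ | ⟨⟨e⟩⟩ | ⟨⟨e⟩⟩ | e
  · exact (alt5_over e c).elim (fun a => .inl (tp e a)) fun ⟨f⟩ => .inr (.inl (onto_of hπ hN f))
  · refine .inr (.inr (.inr (tp e (by_contra fun e' => ?_))))
    obtain ⟨f, b, of, ob, nb, hb⟩ := idx168 hY ((Nat.card_congr e.toEquiv).trans card_l32) e'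
    obtain ⟨g, hg⟩ := Spec2.exists_big hπ hN nb (ob ▸ hb) (by rw [Nat.card_zpowers, of]; norm_num)
      (abelian_sol inferInstance) fun a => by
        obtain ⟨g, cg, rfl⟩ := a (mem_zpowers f)
        have := h.fpf hN (.inr (h.order_big (.inr rfl) (of ▸ orderOf_map_dvd π g)))
        exact N1 (inf_eq_left.2 (le_cent1_iff.2 cg) ▸ this)
    exact h.not_dvd (by norm_num) (ob ▸ hg)
  · by_cases h4 : ∀ g : Y, g ^ 8 = 1 → g ^ 4 = 1
    · exact (alt6_over e c h4).elim (fun a => .inr (.inr (.inl (tp e a)))) fun ⟨f⟩ =>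
        (W1 (ts6 (m.comp (i := f.symm.toMonoidHom) f.symm.injective))).elim
    push Not at h4
    obtain ⟨g, g8, g4⟩ := h4
    have g2 : g * g ∈ X := by
      obtain ⟨k, hk⟩ := idx hY t.card
      rw [← pow_two, hk, pow_mul]
      exact pow_mem (X.pow_index_mem g) k
    refine (W1 (tm m (inj e) g8 (g := e ⟨_, g2⟩) ?_ (by simp))).elim
    rw [e.orderOf_eq, ← orderOf_coe]
    change orderOf (g * g) = 4
    exact orderOf_eq_prime_pow (p := 2) (n := 1) (by rwa [← pow_two, ← pow_mul]) (by rwa [← pow_two, ← pow_mul])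
  · exact (W1 (t7 (m.comp (inj e)))).elim
  · exact (W1 (tl e (m.comp X.subtype_injective))).elim

/-- No group of `Ex8` type has order divisible by `35` (`|H| = 2^k ⬝ 60, 120, 360, 168`). -/
theorem Ex8.not35 (e : Ex8 H) : ¬ 35 ∣ Nat.card H := fun d => by
  have k : ∀ {Z : Type} [Group Z], Onto H Z → 35 ∣ Nat.card Z := fun ⟨ρ, a, b⟩ => by
    obtain ⟨k, hk⟩ := b.exists_card_eq
    rw [← ρ.ker.card_mul_index, index_ker, MonoidHom.range_eq_top.2 a, card_top, hk] at d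
    exact (Nat.Coprime.pow_right k (by norm_num)).dvd_of_dvd_mul_left d
  rcases e with e | e | e | e <;> have := k e
  · exact absurd (Spec2.card_a5 ▸ this) (by norm_num)
  · rw [Nat.card_perm, Nat.card_fin] at this
    exact absurd this (by decide)
  · exact absurd (Spec2.card_a6 ▸ this) (by norm_num)
  · exact absurd (card_l32 ▸ this) (by norm_num)

end Cfsg.Lib.O8E
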