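import Cfsg.Agent.Lib.O8E.Def

/-!
# Modules for `A₅` and `S₅`
-/

set_option autoImplicit false

namespace Cfsg.Lib.O8E

open Subgroup Cfsg.Lib Cfsg.Lib.BG Cfsg.Lib.Transfer Cfsg.Lib.PLocal Cfsg.Lib.Loc
open scoped commutatorElement

universe u v

variable {Γ : Type u} [Group Γ] [Finite Γ] {W : Subgroup Γ}

/-! Points `0..4`, `y = (0 1 2)`.  Let `w ∈ W` be fixed by `N_{A₅}(⟨y⟩) = ⟨(0 1 2), (0 1)(3 4)⟩`, the stabiliser of the pair `{3,4}`.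
Then `w_{σ3,σ4} := σ w σ⁻¹` only depends on the pair.  The product of `w_P` over an orbit of a `5`-cycle `f` on pairs (a pentagon)
is fixed by `f`, hence trivial (`fpf`).  Multiplying the pentagons of `(0 1 2 3 4)`, `(2 4 0 1 3)`, `(2 4 0 3 1)` (`W` is elementary
abelian) gives the triangle relation `w₀₃ w₀₄ w₃₄ = 1`; conjugating, every triangle product is trivial. -/

section Act

variable {X : Type v} [Group X] {j : X →* Γ}

/-- The action on `W`. -/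
def Md.act (m : Md W j) : X →* MulAut W := W.normalizerMonoidHom.comp (j.codRestrict _ m.nm)

namespace Md

variable (m : Md W j)

omit [Finite Γ]

theorem act_coe (g : X) (w : W) : (m.act g w : Γ) = j g * w * (j g)⁻¹ := rfl

theorem act_mul (g h : X) (w : W) : m.act (g * h) w = m.act g (m.act h w) := by rw [map_mul]; rfl

theorem act_one (w : W) : m.act 1 w = w := by rw [map_one]; rfl

theorem act_comp {L : Type*} [Group L] {i : L →* X} (hi : Function.Injective i) (g : L) (w : W) :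
    (m.comp hi).act g w = m.act (i g) w := rfl

theorem fix {g : X} {w : W} : m.act g w = w ↔ (w : Γ) ∈ 𝐂[j g] := by
  rw [Subtype.ext_iff, act_coe, mem_cent1, mul_inv_eq_iff_eq_mul, eq_comm]

include m in
theorem sq (w : W) : w * w = 1 := Subtype.ext (by have := m.el.2 w w.2; rwa [pow_two] at this)

theorem fpf' {f : X} (hf : orderOf f = 5 ∨ orderOf f = 7) {w : W} (e : m.act f w = w) : w = 1 :=
  Subtype.ext ((m.fpf f hf).le ⟨w.2, m.fix.1 e⟩)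

theorem f1' {y c : X} (hy : orderOf y = 3) (c2 : c * c = 1) (e : c * y = y * c) {w : W} (k : m.act y w = w) :
    m.act c w = w := m.fix.2 (m.f1 y c hy c2 e ⟨w.2, m.fix.1 k⟩)

/-- The stabiliser of a vector. -/
def stab (w : W) : Subgroup X := (MulAction.stabilizer (MulAut W) w).comap m.act

theorem mem_stab {w : W} {g : X} : g ∈ m.stab w ↔ m.act g w = w := Iff.rfl

theorem same {w : W} {s t : X} (e : t⁻¹ * s ∈ m.stab w) : m.act s w = m.act t w := by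
  rw [← mul_inv_cancel_left t s, m.act_mul, m.mem_stab.1 e]

theorem bot_of {K : Subgroup Γ} (h : ∀ w : W, (w : Γ) ∈ K → w = 1) : W ⊓ K = ⊥ :=
  eq_bot_iff.2 fun w hw => congrArg Subtype.val (h ⟨w, hw.1⟩ hw.2)

end Md

end Act

theorem three5 {y : S5} (hy : orderOf y = 3) : y.IsThreeCycle := by
  have : ∀ y : S5, y * y * y = 1 → y ≠ 1 → y.support.card = 3 := by decide +kernel
  exact card_support_eq_three_iff.1 (this y (by rw [← pow_three', L72.o3_pow hy]) (L72.o3_ne hy))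

/-- An even permutation of five points. -/
abbrev ev5 (s : S5) (h : Equiv.Perm.sign s = 1 := by decide) : A5 := ⟨s, Equiv.Perm.mem_alternatingGroup.2 h⟩

theorem o5 {f : A5} (h : f * f * f * f * f = 1) (h1 : f ≠ 1) : orderOf f = 5 ∨ orderOf f = 7 :=
  have : Fact (Nat.Prime 5) := ⟨by norm_num⟩
  .inl (orderOf_eq_prime (by rw [← h, pow_succ, pow_succ, pow_three']) h1)

theorem tr3 (p q r : Fin 5) (pq : p ≠ q) (pr : p ≠ r) (qr : q ≠ r) : ∃ g : A5, g.1 0 = p ∧ g.1 3 = q ∧ g.1 4 = r := by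
  have : ∀ p q r : Fin 5, p ≠ q → p ≠ r → q ≠ r → ∃ g : S5, (g 0 = p ∧ g 3 = q ∧ g 4 = r) ∧ g * g⁻¹ = 1 := by
    decide +kernel
  obtain ⟨g, ⟨a, b, c⟩, -⟩ := this p q r pq pr qr
  rcases Int.units_eq_one_or (Equiv.Perm.sign g) with e | e
  · exact ⟨ev5 g e, a, b, c⟩
  · exact ⟨ev5 (g * Equiv.swap 1 2) (by rw [map_mul, e]; decide), a, b, c⟩

/-- The vectors `w_{pq}`. -/
theorem om {j : A5 →* Γ} (m : Md W j) {w : W}
    (e : ∀ s : A5, (s.1 3 = 3 ∧ s.1 4 = 4 ∨ s.1 3 = 4 ∧ s.1 4 = 3) → m.act s w = w) :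
    ∃ ω : Fin 5 → Fin 5 → W, (∀ s : A5, m.act s w = ω (s.1 3) (s.1 4)) ∧ (∀ p q, ω p q = ω q p) ∧
      (∀ (g : A5) p q, p ≠ q → m.act g (ω p q) = ω (g.1 p) (g.1 q)) ∧
      ∀ p q r, p ≠ q → p ≠ r → q ≠ r → ω p q * ω p r * ω q r = 1 := by
  have := m.el.1
  have ex : ∀ p q : Fin 5, ∃ s : A5, p ≠ q → s.1 3 = p ∧ s.1 4 = q := fun p q => by
    by_cases h : p = q
    · exact ⟨1, fun k => (k h).elim⟩
    · obtain ⟨r, a, b⟩ := (by decide : ∀ p q : Fin 5, ∃ r, r ≠ p ∧ r ≠ q) p q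
      obtain ⟨g, -, k⟩ := tr3 r p q a b h
      exact ⟨g, fun _ => k⟩
  choose σ hσ using ex
  have sm : ∀ s t : A5, (s.1 3 = t.1 3 ∧ s.1 4 = t.1 4 ∨ s.1 3 = t.1 4 ∧ s.1 4 = t.1 3) → m.act s w = m.act t w :=
    fun s t h => m.same (e _ (by simpa [Equiv.symm_apply_eq] using h))
  have h1 : ∀ s : A5, m.act s w = m.act (σ (s.1 3) (s.1 4)) w := fun s => by
    obtain ⟨a, b⟩ := hσ (s.1 3) (s.1 4) (s.1.injective.ne (by decide))
    exact sm _ _ (.inl ⟨a.symm, b.symm⟩)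
  obtain ⟨ω, hω⟩ : ∃ ω : Fin 5 → Fin 5 → W, ∀ p q, ω p q = m.act (σ p q) w := ⟨_, fun _ _ => rfl⟩
  have h2 : ∀ p q, ω p q = ω q p := fun p q => by
    by_cases h : p = q
    · rw [h]
    · obtain ⟨a, b⟩ := hσ p q h
      obtain ⟨c, d⟩ := hσ q p (Ne.symm h)
      rw [hω, hω]
      exact sm _ _ (.inr ⟨a.trans d.symm, b.trans c.symm⟩)
  have h3 : ∀ (g : A5) p q, p ≠ q → m.act g (ω p q) = ω (g.1 p) (g.1 q) := fun g p q h => by
    obtain ⟨a, b⟩ := hσ p q h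
    rw [hω, hω, ← m.act_mul, h1]
    simp [a, b]
  have pent : ∀ (f : A5) (a b c d e : Fin 5), f * f * f * f * f = 1 → f ≠ 1 → a ≠ b → b ≠ c → c ≠ d → d ≠ e → e ≠ a → f.1 a = b →
      f.1 b = c → f.1 c = d → f.1 d = e → f.1 e = a → ω a b * ω b c * ω c d * ω d e * ω e a = 1 :=
    fun f a b c d e f5 f1 ab bc cd de ea ha hb hc hd he => m.fpf' (o5 f5 f1) (by
      simp only [map_mul, h3 _ _ _ ab, h3 _ _ _ bc, h3 _ _ _ cd, h3 _ _ _ de, h3 _ _ _ ea, ha, hb, hc, hd, he]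
      ac_rfl)
  have p1 := pent (ev5 c[0, 1, 2, 3, 4]) 0 1 2 3 4 (by decide +kernel) (by decide) (by decide) (by decide) (by decide) (by decide)
    (by decide) (by decide) (by decide) (by decide) (by decide) (by decide)
  have p2 := pent (ev5 c[2, 4, 0, 1, 3]) 2 4 0 1 3 (by decide +kernel) (by decide) (by decide) (by decide) (by decide) (by decide)
    (by decide) (by decide) (by decide) (by decide) (by decide) (by decide)
  have p3 := pent (ev5 c[2, 4, 0, 3, 1]) 2 4 0 3 1 (by decide +kernel) (by decide) (by decide) (by decide) (by decide) (by decide)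
    (by decide) (by decide) (by decide) (by decide) (by decide) (by decide)
  rw [h2 4 0] at p1 p2 p3
  rw [h2 3 2] at p2
  rw [h2 3 1] at p3
  have t0 : ω 0 3 * ω 0 4 * ω 3 4 = 1 :=
    calc ω 0 3 * ω 0 4 * ω 3 4 = ω 0 3 * ω 0 4 * ω 3 4 * ((ω 0 1 * ω 0 1) * (ω 1 2 * ω 1 2) * (ω 2 3 * ω 2 3) * (ω 0 4 * ω 0 4) *
          (ω 2 4 * ω 2 4) * (ω 1 3 * ω 1 3)) := by simp only [m.sq, mul_one]
      _ = (ω 0 1 * ω 1 2 * ω 2 3 * ω 3 4 * ω 0 4) * (ω 2 4 * ω 0 4 * ω 0 1 * ω 1 3 * ω 2 3) *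
          (ω 2 4 * ω 0 4 * ω 0 3 * ω 1 3 * ω 1 2) := by ac_rfl
      _ = 1 := by rw [p1, p2, p3, mul_one, mul_one]
  refine ⟨ω, fun s => by rw [hω, h1], h2, h3, fun p q r pq pr qr => ?_⟩
  obtain ⟨g, rfl, rfl, rfl⟩ := tr3 p q r pq pr qr
  rw [← h3 g 0 3 (by decide), ← h3 g 0 4 (by decide), ← h3 g 3 4 (by decide), ← map_mul, ← map_mul, t0, map_one]

/-- `w₀₃ w₁₃ w₂₃ ⬝ w₀₄ w₁₄ w₂₄ = w₃₄`. -/
theorem om_fin {A : Type*} [Group A] [IsMulCommutative A] (sq : ∀ a : A, a * a = 1) {ω : Fin 5 → Fin 5 → A}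
    (t : ∀ p q r, p ≠ q → p ≠ r → q ≠ r → ω p q * ω p r * ω q r = 1) :
    ω 0 3 * ω 1 3 * ω 2 3 * (ω 0 4 * ω 1 4 * ω 2 4) = ω 3 4 :=
  calc ω 0 3 * ω 1 3 * ω 2 3 * (ω 0 4 * ω 1 4 * ω 2 4)
      = ω 0 3 * ω 1 3 * ω 2 3 * (ω 0 4 * ω 1 4 * ω 2 4) * ((ω 3 4 * ω 3 4) * (ω 3 4 * ω 3 4)) := by simp only [sq, mul_one]
    _ = (ω 0 3 * ω 0 4 * ω 3 4) * (ω 1 3 * ω 1 4 * ω 3 4) * (ω 2 3 * ω 2 4 * ω 3 4) * ω 3 4 := by ac_rfl
    _ = ω 3 4 := by
      rw [t 0 3 4 (by decide) (by decide) (by decide), t 1 3 4 (by decide) (by decide) (by decide),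
        t 2 3 4 (by decide) (by decide) (by decide), one_mul, one_mul, one_mul]

/-- The `3`-cycle `(0 1 2)`. -/
abbrev y5 : S5 := Equiv.swap 0 1 * Equiv.swap 1 2

theorem st5 (s : S5) (h : s 3 = 3 ∧ s 4 = 4 ∨ s 3 = 4 ∧ s 4 = 3) : ∃ a ∈ [1, y5, y5⁻¹], ∃ b ∈ [(1 : S5), Equiv.swap 0 1],
    ∃ c ∈ [(1 : S5), Equiv.swap 3 4], s = a * b * c := by
  revert s; decide +kernel

/-- The triangle relation: `s i` is any element mapping `{3,4}` to the three sides of the triangle `{0,3,4}`.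
(Only an auxiliary statement for `t5`, `ts5`, `T6.t6`.) -/
theorem tri {j : A5 →* Γ} (m : Md W j) {w : Γ} (hw : w ∈ W)
    (e : ∀ s : A5, (s.1 3 = 3 ∧ s.1 4 = 4 ∨ s.1 3 = 4 ∧ s.1 4 = 3) → j s * w * (j s)⁻¹ = w) {a b c : A5} {p q r : Fin 5}
    (pq : p ≠ q) (pr : p ≠ r) (qr : q ≠ r) (ha : a.1 3 = p ∧ a.1 4 = q ∨ a.1 3 = q ∧ a.1 4 = p)
    (hb : b.1 3 = p ∧ b.1 4 = r ∨ b.1 3 = r ∧ b.1 4 = p) (hc : c.1 3 = q ∧ c.1 4 = r ∨ c.1 3 = r ∧ c.1 4 = q) :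
    j a * w * (j a)⁻¹ * (j b * w * (j b)⁻¹) * (j c * w * (j c)⁻¹) = 1 := by
  obtain ⟨ω, h1, h2, -, h4⟩ := om m (w := ⟨w, hw⟩) fun s hs => Subtype.ext (e s hs)
  have k : ∀ (a : A5) p q, (a.1 3 = p ∧ a.1 4 = q ∨ a.1 3 = q ∧ a.1 4 = p) → j a * w * (j a)⁻¹ = ω p q := by
    rintro a p q (⟨rfl, rfl⟩ | ⟨rfl, rfl⟩)
    · exact congrArg Subtype.val (h1 a)
    · exact congrArg Subtype.val ((h1 a).trans (h2 _ _))
  rw [k a p q ha, k b p r hb, k c q r hc]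
  exact congrArg Subtype.val (h4 p q r pq pr qr)

/-- Proof: conjugate `y` to `(0 1 2)` (all elements of order `3` of `A₅` are conjugate).  If `W ⊓ C(y) = {1, w}`, `w` is fixed by
`N(⟨y⟩)`.  `w' = w₀₃ w₁₃ w₂₃` is fixed by `y`, so by `t = (0 1)(3 4)`; but `t w' t⁻¹ = w₁₄ w₀₄ w₂₄ = w' w₃₄³ = w' w`. -/
theorem t5 {j : A5 →* Γ} (m : Md W j) {y : A5} (hy : orderOf y = 3) : Nat.card ↥(W ⊓ 𝐂[j y]) ≠ 2 := by
  obtain ⟨g, rfl⟩ := isConj_iff.1 (alternatingGroup.isThreeCycle_isConj (by simp) (σ := ev5 y5) (τ := y)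
    (three5 (orderOf_eq_prime (by decide) (by decide))) (three5 ((orderOf_coe y).trans hy)))
  replace m := m.comp (i := (MulAut.conj g).toMonoidHom) (MulAut.conj g).injective
  change Nat.card ↥(W ⊓ 𝐂[(j.comp (MulAut.conj g).toMonoidHom) (ev5 y5)]) ≠ 2
  generalize j.comp (MulAut.conj g).toMonoidHom = j at m
  intro h
  have := m.el.1
  obtain ⟨⟨w, hw, wy⟩, w1, hu⟩ := (Nat.card_eq_two_iff' (1 : ↥(W ⊓ 𝐂[j (ev5 y5)]))).1 h
  have hD : ∀ v : W, m.act (ev5 y5) v = v → v = 1 ∨ v = ⟨w, hw⟩ := fun v hv => by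
    by_cases k : v = 1
    · exact .inl k
    · have := hu ⟨v, v.2, m.fix.1 hv⟩ fun e => k (Subtype.ext (Subtype.ext_iff.1 e :))
      exact .inr (Subtype.ext (Subtype.ext_iff.1 this :))
  have wy' : m.act (ev5 y5) ⟨w, hw⟩ = ⟨w, hw⟩ := m.fix.2 wy
  have w1' : (⟨w, hw⟩ : W) ≠ 1 := fun e => w1 (Subtype.ext (by simpa using e))
  generalize (⟨w, hw⟩ : W) = w at *
  have e : ∀ s : A5, (s.1 3 = 3 ∧ s.1 4 = 4 ∨ s.1 3 = 4 ∧ s.1 4 = 3) → m.act s w = w := fun s hs => by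
    have k : ∀ s : S5, (s 3 = 3 ∧ s 4 = 4 ∨ s 3 = 4 ∧ s 4 = 3) → s⁻¹ * (y5 * s) = y5 ∨ s⁻¹ * (y5 * s) = y5⁻¹ := by
      decide +kernel
    refine (hD _ ?_).resolve_left fun e => w1' ((m.act s).injective (e.trans (map_one _).symm))
    rw [← m.act_mul]
    refine m.same ?_
    rcases k s.1 hs with k | k
    · rw [(Subtype.ext k : s⁻¹ * (ev5 y5 * s) = ev5 y5)]; exact wy'
    · rw [(Subtype.ext k : s⁻¹ * (ev5 y5 * s) = (ev5 y5)⁻¹)]; exact inv_mem (m.mem_stab.2 wy')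
  obtain ⟨ω, h1, h2, h3, h4⟩ := om m e
  have w34 : w = ω 3 4 := (m.act_one w).symm.trans (h1 1)
  have a : m.act (ev5 y5) (ω 0 3 * ω 1 3 * ω 2 3) = ω 0 3 * ω 1 3 * ω 2 3 := by
    rw [map_mul, map_mul, h3 _ _ _ (by decide), h3 _ _ _ (by decide), h3 _ _ _ (by decide)]
    change ω 1 3 * ω 2 3 * ω 0 3 = _
    ac_rfl
  have b : m.act (ev5 (Equiv.swap 0 1 * Equiv.swap 3 4)) (ω 0 3 * ω 1 3 * ω 2 3) = ω 0 4 * ω 1 4 * ω 2 4 := by
    rw [map_mul, map_mul, h3 _ _ _ (by decide), h3 _ _ _ (by decide), h3 _ _ _ (by decide)]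
    change ω 1 4 * ω 0 4 * ω 2 4 = _
    ac_rfl
  have c : m.act (ev5 (Equiv.swap 0 1 * Equiv.swap 3 4)) (ω 0 3 * ω 1 3 * ω 2 3) = ω 0 3 * ω 1 3 * ω 2 3 := by
    rcases hD _ a with k | k <;> rw [k]
    exacts [map_one _, e _ (by decide)]
  exact w1' (by rw [w34, ← om_fin m.sq h4, ← b, c, m.sq])

/-- Proof: `y = (0 1 2)`.  `D = W ⊓ C(y) ≤ C((3 4))` (`f1`) is normalised by `(0 1)`; if `D ≠ 1` take `1 ≠ w ∈ D` fixed by `(0 1)`.
With `tri` for `m.comp (alternatingGroup _).subtype_injective`: `w' = w₀₃ w₁₃ w₂₃ ∈ D` is fixed by `c = (3 4)`, and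
`c w' c⁻¹ = w₀₄ w₁₄ w₂₄ = w' w` (`c` fixes `w`, so `c w_{i3} c⁻¹ = w_{i4}`: conjugate the representative by `c`). -/
theorem ts5 {j : S5 →* Γ} (m : Md W j) {y : S5} (hy : orderOf y = 3) : W ⊓ 𝐂[j y] = ⊥ := by
  obtain ⟨g, rfl⟩ := isConj_iff.1 (Equiv.Perm.isConj_iff_cycleType_eq.2 ((three5 (y := y5)
    (orderOf_eq_prime (by decide) (by decide))).cycleType.trans (three5 hy).cycleType.symm))
  replace m := m.comp (i := (MulAut.conj g).toMonoidHom) (MulAut.conj g).injective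
  change W ⊓ 𝐂[(j.comp (MulAut.conj g).toMonoidHom) y5] = ⊥
  generalize j.comp (MulAut.conj g).toMonoidHom = j at m
  have := m.el.1
  have o : orderOf y5 = 3 := orderOf_eq_prime (by decide) (by decide)
  have hc : ∀ v : W, m.act y5 v = v → m.act (Equiv.swap 3 4) v = v := fun v => m.f1' o (by decide) (by decide)
  have main : ∀ w : W, m.act y5 w = w → m.act (Equiv.swap 0 1) w = w → w = 1 := fun w wy wt => by
    have e : ∀ s : S5, (s 3 = 3 ∧ s 4 = 4 ∨ s 3 = 4 ∧ s 4 = 3) → s ∈ m.stab w := fun s hs => by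
      obtain ⟨a, ha, b, hb, c, hc', rfl⟩ := st5 s hs
      simp only [List.mem_cons, List.not_mem_nil, or_false] at ha hb hc'
      refine mul_mem (mul_mem ?_ ?_) ?_
      · rcases ha with rfl | rfl | rfl
        exacts [one_mem _, wy, inv_mem (m.mem_stab.2 wy)]
      · rcases hb with rfl | rfl
        exacts [one_mem _, wt]
      · rcases hc' with rfl | rfl
        exacts [one_mem _, hc w wy]
    obtain ⟨ω, h1, h2, h3, h4⟩ := om (m.comp (alternatingGroup (Fin 5)).subtype_injective) (w := w) fun s hs => e s.1 hs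
    replace h1 : ∀ s : A5, m.act s.1 w = ω (s.1 3) (s.1 4) := h1
    replace h3 : ∀ (g : A5) p q, p ≠ q → m.act g.1 (ω p q) = ω (g.1 p) (g.1 q) := h3
    have w34 : w = ω 3 4 := (m.act_one w).symm.trans (h1 1)
    have a : m.act y5 (ω 0 3 * ω 1 3 * ω 2 3) = ω 0 3 * ω 1 3 * ω 2 3 := by
      rw [map_mul, map_mul, h3 (ev5 y5) _ _ (by decide), h3 (ev5 y5) _ _ (by decide), h3 (ev5 y5) _ _ (by decide)]
      change ω 1 3 * ω 2 3 * ω 0 3 = _
      ac_rfl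
    have k : ∀ s t : A5, t.1⁻¹ * (Equiv.swap 3 4 * s.1) ∈ m.stab w →
        m.act (Equiv.swap 3 4) (ω (s.1 3) (s.1 4)) = ω (t.1 3) (t.1 4) := fun s t h => by
      rw [← h1, ← h1, ← m.act_mul, m.same h]
    have k0 : m.act (Equiv.swap 3 4) (ω 0 3) = ω 0 4 := k (ev5 c[3, 0, 4]) (ev5 c[3, 0, 1]) (e _ (by decide))
    have k1 : m.act (Equiv.swap 3 4) (ω 1 3) = ω 1 4 := k (ev5 c[3, 1, 4]) (ev5 c[3, 1, 0]) (e _ (by decide))
    have k2 : m.act (Equiv.swap 3 4) (ω 2 3) = ω 2 4 := k (ev5 c[3, 2, 4]) (ev5 c[3, 2, 1]) (e _ (by decide))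
    have c := hc _ a
    rw [map_mul, map_mul, k0, k1, k2] at c
    rw [w34, ← om_fin m.sq h4, c, m.sq]
  refine Md.bot_of fun d hd => ?_
  have dy := m.fix.2 hd
  have ty : m.act y5 (m.act (Equiv.swap 0 1) d) = m.act (Equiv.swap 0 1) d := by
    rw [← m.act_mul]
    exact m.same ((by decide : (Equiv.swap 0 1)⁻¹ * (y5 * Equiv.swap 0 1) = y5⁻¹) ▸ inv_mem (m.mem_stab.2 dy))
  have := main (d * m.act (Equiv.swap 0 1) d) (by rw [map_mul, dy, ty]) (by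
    rw [map_mul, ← m.act_mul, Equiv.swap_mul_self, m.act_one, mul_comm'])
  exact main d dy (mul_left_cancel (this.trans (m.sq d).symm))

end Cfsg.Lib.O8E
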