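import Cfsg.Agent.Lib.O8E.Md
import Cfsg.Agent.Lib.O8E.T5
import Cfsg.Agent.S3050
import Cfsg.Agent.Lib.PSL2.SmallIso

/-!
# Fixed points of elements of order three on `O₂(H)`, `H/O₂(H) ≅ A₅, S₅`
-/

set_option autoImplicit false

namespace Cfsg.Lib.O8E

open Subgroup Cfsg.Lib Cfsg.Lib.BG Cfsg.Lib.Transfer Cfsg.Lib.PLocal Cfsg.Lib.Loc
open scoped commutatorElement

universe u v

variable {H : Type u} [Group H] [Finite H]

/-- Induction scheme: `|ker ρ ⊓ C(y)|` is a product of numbers `|W' ⊓ C(j (ρ y))|` for modules `Md W' j`.  Proof: induction on `|H|`;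
if `ker ρ ≠ 1` let `W = Zo (ker ρ)`; `ρ` factors through `H ⧸ W`, and `|ker ρ ⊓ C(y)| = |W ⊓ C(y)| ⬝ |ker ρ̄ ⊓ C(ȳ)|` (coprime action,
`L72.fixc`; `BG.Quo` has `quo` versions). -/
theorem cnt_ind {X : Type} [Group X] {y₀ : X} (P : ℕ → Prop) (h1 : P 1) (hm : ∀ a b, P a → P b → P (a * b))
    (hP : ∀ (Γ : Type u) [Group Γ] [Finite Γ] (W : Subgroup Γ) (j : X →* Γ), Md W j → P (Nat.card ↥(W ⊓ 𝐂[j y₀])))
    (h : Om8 H) {ρ : H →* X} (hρ : Function.Surjective ρ) (hQ : IsPGroup 2 ρ.ker) {y : H} (hy : orderOf y = 3)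
    (e : ρ y = y₀) : P (Nat.card ↥(ρ.ker ⊓ 𝐂[y])) := by
  induction hn : Nat.card H using Nat.strong_induction_on generalizing H with | _ n ih => ?_
  by_cases k : ρ.ker = ⊥
  · rw [k, bot_inf_eq, card_bot]; exact h1
  have Wk : Zo ρ.ker ≤ ρ.ker := oz_le _
  have : (Zo ρ.ker).Normal := normalizer_eq_top_iff.1 (top_le_iff.1
    ((normalizer_eq_top_iff.2 inferInstance).ge.trans (normalizer_le_normalizer_oz _)))
  obtain ⟨Γ, _, _, W', j, m, -, c⟩ := md_of (W := Zo ρ.ker) h hρ hQ (oz_elemAb _) (oz_le_centralizer _)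
  generalize hW : Zo ρ.ker = W at *
  have W1 : W ≠ ⊥ := hW ▸ oz_ne_bot hQ k
  have W2 : IsPGroup 2 W := hQ.to_le Wk
  have kk : (QuotientGroup.lift W ρ Wk).ker = ρ.ker.map (QuotientGroup.mk' W) := QuotientGroup.ker_lift _ _ _
  have e1 : (ρ.ker ⊓ 𝐂[y]).map (QuotientGroup.mk' W) =
      (QuotientGroup.lift W ρ Wk).ker ⊓ 𝐂[QuotientGroup.mk' W y] := by
    rw [kk]
    refine le_antisymm (map_le_iff_le_comap.2 fun g hg => ⟨mem_map_of_mem _ hg.1, mem_cent1.2 ?_⟩) ?_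
    · rw [← map_mul, mem_cent1.1 hg.2, map_mul]
    · rintro _ ⟨⟨g, hg, rfl⟩, a⟩
      obtain ⟨w, hw, b⟩ := L72.fixc W2 (hy ▸ by decide) (le_normalizer_of_normal (mem_top y)) (g := g)
        ((QuotientGroup.eq_one_iff _).1 (show QuotientGroup.mk' W _ = 1 by
          rw [map_mul, map_mul, map_mul, ← mem_cent1.1 a, map_inv, map_inv]; group))
      exact ⟨w * g, ⟨mul_mem (Wk hw) hg, mem_cent1.2 b⟩, by
        rw [map_mul, show QuotientGroup.mk' W w = 1 from (QuotientGroup.eq_one_iff _).2 hw, one_mul]⟩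
  rw [← Core.card_map_mk'_mul W (ρ.ker ⊓ 𝐂[y]), e1, inf_right_comm, inf_eq_right.2 Wk, ← c, e]
  refine hm _ _ (ih _ ?_ (h.surj (QuotientGroup.mk'_surjective W)) (QuotientGroup.lift_surjective_of_surjective _ _ hρ _)
    (kk ▸ hQ.map _) ?_ e rfl) (hP _ _ _ m)
  · rw [← hn, card_eq_card_quotient_mul_card_subgroup W]
    exact lt_mul_of_one_lt_right Nat.card_pos ((one_lt_card_iff_ne_bot W).2 W1)
  · refine orderOf_eq_prime (by rw [← map_pow, ← hy, pow_orderOf_eq_one, map_one]) fun a => ?_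
    have := pgroup_eq_of_dvd W2 Nat.prime_three (hy ▸ W.orderOf_dvd_natCard ((QuotientGroup.eq_one_iff _).1 a))
    omega

theorem ord3 {X : Type v} [Group X] {ρ : H →* X} (hQ : IsPGroup 2 ρ.ker) {y : H} (hy : orderOf y = 3) :
    orderOf (ρ y) = 3 := orderOf_eq_prime (by rw [← map_pow, ← hy, pow_orderOf_eq_one, map_one]) fun a => by
  have := pgroup_eq_of_dvd hQ Nat.prime_three (hy ▸ ρ.ker.orderOf_dvd_natCard a)
  omega

/-- `cnt_ind` with `P n := n ≠ 2` (`a * b = 2 → a = 2 ∨ b = 2`) and `t5`. -/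
theorem a5c (h : Om8 H) {ρ : H →* A5} (hρ : Function.Surjective ρ) (hQ : IsPGroup 2 ρ.ker) {y : H}
    (hy : orderOf y = 3) : Nat.card ↥(ρ.ker ⊓ 𝐂[y]) ≠ 2 := by
  exact cnt_ind (· ≠ 2) (by decide) (fun a b x z e => by
    have := Nat.le_of_dvd two_pos ⟨b, e.symm⟩
    interval_cases a <;> omega) (fun _ _ _ _ _ m => t5 m (ord3 hQ hy)) h hρ hQ hy rfl

/-- `cnt_ind` with `P n := n = 1` and `ts5`. -/
theorem s5c (h : Om8 H) {ρ : H →* S5} (hρ : Function.Surjective ρ) (hQ : IsPGroup 2 ρ.ker) {y : H}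
    (hy : orderOf y = 3) : ρ.ker ⊓ 𝐂[y] = ⊥ := by
  exact card_eq_one.1 (cnt_ind (· = 1) rfl (fun a b x z => by rw [x, z])
    (fun _ _ _ _ _ m => card_eq_one.2 (ts5 m (ord3 hQ hy))) h hρ hQ hy rfl)

/-- Proof: `Agent.S3050.result` for the preimage of `A₅ ≅ SL(2, 4)` (`PSL2.equiv_psl_alt_five`, trivial centre in characteristic
`2`; `K = GaloisField 2 2`) and `s5c`. -/
theorem s5el (h : Om8 H) {ρ : H →* S5} (hρ : Function.Surjective ρ) (hQ : IsPGroup 2 ρ.ker) :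
    IsElementaryAbelian 2 ρ.ker := by
  let := Fintype.ofFinite (GaloisField 2 2)
  have h4 : Nat.card (GaloisField 2 2) = 4 := GaloisField.card 2 2 two_ne_zero
  obtain ⟨f1⟩ := PSL2.equiv_sl_psl_of_even (F := GaloisField 2 2) (by rw [h4]; decide)
  obtain ⟨f2⟩ := PSL2.equiv_psl_alt_five (F := GaloisField 2 2) (.inl h4)
  let L := (alternatingGroup (Fin 5)).comap ρ
  let σ : L →* A5 := ρ.subgroupComap _
  have sσ : Function.Surjective σ := ρ.subgroupComap_surjective_of_surjective _ hρ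
  have kσ : σ.ker = ρ.ker.subgroupOf L := Subgroup.ext fun x => Subtype.ext_iff
  have pσ : IsPGroup 2 σ.ker := kσ ▸ hQ.comap_subtype
  obtain ⟨x, hx⟩ := exists_prime_orderOf_dvd_card' (G := L) 3
    ((show 3 ∣ Nat.card A5 by rw [Nat.card_eq_fintype_card]; decide).trans (card_dvd_of_surjective σ sσ))
  have s := s5c h hρ hQ ((orderOf_coe x).trans hx)
  have r := (Agent.S3050.result σ.ker pσ 2 le_rfl (GaloisField 2 2) (Nat.card_eq_fintype_card.symm.trans h4)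
    ((QuotientGroup.quotientKerEquivOfSurjective σ sσ).trans (f1.trans f2).symm) x hx fun q hq e =>
      Subtype.ext (eq_bot_iff.1 s ⟨by rw [kσ] at hq; exact hq, mem_cent1.2
        (by have := congrArg Subtype.val e; push_cast at this; rw [← mul_inv_eq_iff_eq_mul.1 this])⟩)).1
  refine PGroup.elemAb_two_iff.2 fun q hq => ?_
  have a : q ∈ L := by rw [mem_comap, show ρ q = 1 from hq]; exact one_mem _
  exact congrArg Subtype.val (PGroup.elemAb_two_iff.1 r ⟨q, a⟩ (kσ ▸ hq))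

end Cfsg.Lib.O8E
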