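import Cfsg.Agent.Lib.O8E.Lift
import Cfsg.Agent.S2808
import Cfsg.Agent.Lib.PSL2.SmallIso

/-!
# Pushing up `A₅`
-/

set_option autoImplicit false

namespace Cfsg.Lib.O8E

open Subgroup Cfsg.Lib Cfsg.Lib.BG Cfsg.Lib.Transfer Cfsg.Lib.PLocal Cfsg.Lib.Loc
open scoped commutatorElement

universe u v

variable {G : Type u} [Group G] [Finite G] {T : Subgroup G}

/-- The four-group of `A₅` fixing `4`. -/
def puV : Subgroup A5 where
  carrier := {g | g.1 4 = 4 ∧ g.1 * g.1 = 1}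
  one_mem' := ⟨rfl, mul_one _⟩
  mul_mem' {a b} ha hb := by
    have : ∀ a : S5, (a 4 = 4 ∧ a * a = 1) ∧ Equiv.Perm.sign a = 1 → ∀ b : S5, (b 4 = 4 ∧ b * b = 1) ∧ Equiv.Perm.sign b = 1 →
      (a * b) 4 = 4 ∧ a * b * (a * b) = 1 := by decide +kernel
    exact this a.1 ⟨ha, Equiv.Perm.mem_alternatingGroup.1 a.2⟩ b.1 ⟨hb, Equiv.Perm.mem_alternatingGroup.1 b.2⟩
  inv_mem' {a} ha := by
    have : a⁻¹ = a := inv_eq_of_mul_eq_one_right (Subtype.ext ha.2)
    rwa [this]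

theorem pu_c5 : Nat.card A5 = 60 := by
  rw [nat_card_alternatingGroup]; simp [Nat.factorial]

theorem puV_card : Nat.card puV = 4 := by
  have : Nat.card puV = Fintype.card {g : A5 // g.1 4 = 4 ∧ g.1 * g.1 = 1} :=
    Nat.card_eq_fintype_card (α := {g : A5 // g.1 4 = 4 ∧ g.1 * g.1 = 1})
  rw [this]
  decide +kernel

theorem puV_syl : Syl 2 puV ⊤ := Syl.mk' le_top (.of_card (n := 2) puV_card) (by
  have := puV.card_mul_index
  rw [puV_card, pu_c5] at this
  rw [relIndex_top_right]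
  omega)

theorem puV_max {K : Subgroup A5} (h : puV ≤ K) : K ≤ MulAction.stabilizer A5 (4 : Fin 5) ∨ K = ⊤ := by
  refine or_iff_not_imp_left.2 fun k => ?_
  obtain ⟨g, hg, g4⟩ := SetLike.not_le_iff_exists.1 k
  have : ∀ g : S5, g 4 ≠ 4 → ∀ n ∈ [3, 5], ∃ v ∈ [Equiv.swap 0 1 * Equiv.swap 2 3, Equiv.swap 0 2 * Equiv.swap 1 3,
      Equiv.swap 0 3 * Equiv.swap 1 2], ∃ w ∈ [Equiv.swap 0 1 * Equiv.swap 2 3, Equiv.swap 0 2 * Equiv.swap 1 3,
      Equiv.swap 0 3 * Equiv.swap 1 2], (v * (g * w * g⁻¹)) ^ n = 1 ∧ v * (g * w * g⁻¹) ≠ 1 := by decide +kernel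
  have l : ∀ v ∈ [Equiv.swap 0 1 * Equiv.swap 2 3, Equiv.swap 0 2 * Equiv.swap 1 3, Equiv.swap (0 : Fin 5) 3 * Equiv.swap 1 2],
      Equiv.Perm.sign v = 1 ∧ v 4 = 4 ∧ v * v = 1 := by decide +kernel
  have d : ∀ n ∈ [3, 5], n.Prime → n ∣ Nat.card K := fun n hn p => by
    obtain ⟨v, hv, w, hw, a, b⟩ := this g.1 g4 n hn
    have := Fact.mk p
    let v' : A5 := ⟨v, Equiv.Perm.mem_alternatingGroup.2 (l v hv).1⟩
    let w' : A5 := ⟨w, Equiv.Perm.mem_alternatingGroup.2 (l w hw).1⟩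
    have o : orderOf (v' * (g * w' * g⁻¹)) = n := orderOf_eq_prime (Subtype.ext a) fun e => b (Subtype.ext_iff.1 e :)
    exact o ▸ K.orderOf_dvd_natCard (mul_mem (h (l v hv).2) (conj_mem_of_norm (le_norm K hg) (h (l w hw).2)))
  have d3 := d 3 (by simp) (by norm_num)
  have d5 := d 5 (by simp) (by norm_num)
  have d4 := puV_card ▸ card_dvd h
  exact eq_top_of_le_card _ (pu_c5 ▸ Nat.le_of_dvd Nat.card_pos (by omega))

/-- Proof: `Agent.S2808.result` for the group `T`.  If `S₀ = ⊥` then `Φ(T) ≤ Z(T)` is elementary, `[T,T] ≤ Φ(T) ≤ Zo T`.  Otherwise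
`K = S₂.map T.subtype`.  For `PA L Q T` take `τ = inclusion`: `T` is Sylow in `L` (index `15`), `O₂(L) = Q` (simplicity of `A₅`),
the unique maximal subgroup over `T` is the preimage of `N(T̄) ≅ A₄` (conjugate to `xa5`-like data; overgroups of a four-group of
`A₅` have order `4, 12, 60`), `L ⧸ Q ≅ PSL(2, 4)` (`PSL2.equiv_psl_alt_five`, `F = GaloisField 2 2`).  `S₁ ⊴ L` is impossible: `C_L(S₁)`
is normal, contains `T ≰ Q`, so contains an element of order `5` (`Ov.order_big`), against `h.fpf`. -/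
theorem pu (h : Om8 G) (hT : IsPGroup 2 T) : ⁅T, T⁆ ≤ Zo T ∨
    ∃ K : Subgroup G, IsPGroup 2 K ∧ K ≠ ⊥ ∧ 𝐍(T) ≤ 𝐍(K) ∧ ∀ L Q, PA L Q T → L ≤ 𝐍(K) := by
  by_cases h0 : ⁅frattini T, (⊤ : Subgroup T)⁆ ⊔ (frattini ↥(frattini T)).map (frattini T).subtype = ⊥
  · refine .inl (comm_le_iff.2 fun a ha b hb => ?_)
    have c : (⟨a, ha⟩ * ⟨b, hb⟩ * ⟨a, ha⟩⁻¹ * ⟨b, hb⟩⁻¹ : T) ∈ frattini T :=
      PGroup.commutator_le_frattini hT (commutator_mem_commutator (mem_top _) (mem_top _))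
    have e1 := comm_eq_bot_iff.1 (eq_bot_mono h0 le_sup_left) c
    have e2 := (eq_bot_mono h0 le_sup_right).le ⟨_, PGroup.pow_mem_frattini (hT.to_subgroup _) ⟨_, c⟩, rfl⟩
    refine mem_zo.2 ⟨(⟨a, ha⟩ * ⟨b, hb⟩ * ⟨a, ha⟩⁻¹ * ⟨b, hb⟩⁻¹ : T).2, mem_cent.2 fun x hx =>
      congrArg Subtype.val (mem_cent.1 e1 ⟨x, hx⟩ (mem_top _)), ?_⟩
    rw [← pow_two]
    exact congrArg Subtype.val (mem_bot.1 e2)
  obtain ⟨S₁, S₂, n1, n2, -, c2, z1, -, -, k⟩ := Agent.S2808.result hT _ (if_pos rfl).symm (.inr h0)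
  refine .inr ⟨S₂.map T.subtype, (hT.to_subgroup _).map _, fun e => n2 ((map_eq_bot_iff_of_injective _ T.subtype_injective).1 e),
    Core.normalizer_le_normalizer_map_subtype S₂, fun L Q a => ?_⟩
  obtain ⟨ρ, o⟩ := a.ov
  have i := relIndex_mul_relIndex Q T L a.QT a.TL
  rw [a.i4, ← pre_top (ρ := ρ), o.relIndex_Q, card_top, pu_c5, pre_top] at i
  have sy : Syl 2 T L := Syl.mk' a.TL hT (by omega)
  obtain ⟨ρ, o, e⟩ := o.normalize a.two sy puV_syl
  have r : (inclusion a.TL).range = puV.comap ρ := by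
    rw [inclusion_range, ← e]
    exact comap_map_eq_self_of_injective L.subtype_injective _
  have kV : ρ.ker ≤ puV.comap ρ := comap_mono bot_le
  have top : ∀ K : Subgroup L, ρ.ker ≤ K → K.map ρ = ⊤ → K = ⊤ := fun K a b => by
    rw [← comap_map_eq_self a, b, comap_top]
  have vK : ∀ K : Subgroup L, puV.comap ρ ≤ K → puV ≤ K.map ρ := fun K a =>
    (map_comap_eq_self_of_surjective o.surj puV).ge.trans (map_mono a)
  have mx : ∀ K : Subgroup L, puV.comap ρ ≤ K → K ≤ (MulAction.stabilizer A5 (4 : Fin 5)).comap ρ ∨ K = ⊤ := fun K a =>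
    (puV_max (vK K a)).imp map_le_iff_le_comap.1 (top K (kV.trans a))
  have nt : (MulAction.stabilizer A5 (4 : Fin 5)).comap ρ ≠ ⊤ := fun e => by
    obtain ⟨g, hg⟩ := o.surj ⟨c[0, 1, 4], Equiv.Perm.mem_alternatingGroup.2 (by decide)⟩
    have : ρ g ∈ MulAction.stabilizer A5 (4 : Fin 5) := e.ge (mem_top g)
    rw [hg] at this
    revert this
    decide
  have vM : puV.comap ρ ≤ (MulAction.stabilizer A5 (4 : Fin 5)).comap ρ := comap_mono fun g hg => hg.1
  have pc : pCore 2 L = ρ.ker := by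
    refine le_antisymm (Subgroup.map_eq_bot_iff _ |>.1 ((((inferInstance : (pCore 2 L).Normal).map ρ o.surj).eq_bot_or_eq_top).resolve_right
      fun e => ?_)) (Core.le_pCore inferInstance (o.pg_ker a.two))
    have := pgroup_eq_of_dvd ((Core.pCore_isPGroup 2 L).map ρ) Nat.prime_three (by rw [e, card_top, pu_c5]; norm_num)
    omega
  let _ : Fintype (GaloisField 2 2) := Fintype.ofFinite _
  obtain ⟨ε⟩ := PSL2.equiv_psl_alt_five (F := GaloisField 2 2) (.inl (GaloisField.card 2 2 two_ne_zero))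
  rcases k L (inclusion a.TL) (inclusion_injective _) (by
      obtain ⟨P, hP⟩ := Syl.iff_sylow.1 sy
      exact ⟨P, by rw [inclusion_range, ← hP]; exact (comap_map_eq_self_of_injective L.subtype_injective _).symm⟩)
    (by
      rw [pc, o.ker_eq]
      exact fun x hx => a.cQ ⟨x.2, mem_cent.2 fun q hq => congrArg Subtype.val (mem_cent.1 hx ⟨q, o.le hq⟩ hq)⟩)
    ⟨_, ⟨⟨nt, fun K hK => (mx K (vM.trans hK.le)).resolve_left hK.not_ge⟩, r ▸ vM⟩, fun N hN =>
      (hN.1.le_iff.1 ((mx N (r ▸ hN.2)).resolve_right hN.1.1)).resolve_left nt |>.symm⟩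
    ⟨ρ.ker, inferInstance, GaloisField 2 2, inferInstance, inferInstance, 2, one_le_two,
      Nat.card_eq_fintype_card.symm.trans (GaloisField.card 2 2 two_ne_zero),
      ⟨(QuotientGroup.quotientKerEquivOfSurjective ρ o.surj).trans ε.symm⟩⟩ with n | n
  · have c : puV.comap ρ ≤ 𝐂(S₁.map (inclusion a.TL)) := by
      rw [← r, MonoidHom.range_eq_map]
      exact map_cent _ (cent_symm (z1.trans (centralizer_univ (G := T)).ge))
    have t := top _ (kV.trans c) (((inferInstance : (𝐂(S₁.map (inclusion a.TL))).Normal).map ρ o.surj).eq_bot_or_eq_top.resolve_left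
      fun e => card_ne_one (A := puV) (ne_bot_of_dvd Nat.prime_two (by rw [puV_card]; norm_num))
        (by rw [eq_bot_mono e (vK _ c), card_bot]))
    have : Fact (Nat.Prime 5) := ⟨by norm_num⟩
    obtain ⟨f, hf⟩ := exists_prime_orderOf_dvd_card' (G := L) 5 ((pu_c5 ▸ by norm_num : 5 ∣ Nat.card A5).trans
      (card_dvd_of_surjective ρ o.surj))
    have := (h.sub L).fpf ((hT.to_subgroup S₁).map (inclusion a.TL)) (.inl hf)
    rw [inf_eq_left.2 (le_cent1_iff.2 (t.ge (mem_top f))), map_eq_bot_iff_of_injective _ (inclusion_injective _)] at this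
    exact (n1 this).elim
  · have := map_norm L.subtype (A := ⊤) (H := S₂.map (inclusion a.TL)) le_normalizer_of_normal
    rwa [← MonoidHom.range_eq_map, range_subtype, Subgroup.map_map] at this

end Cfsg.Lib.O8E
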