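import Cfsg.Agent.Lib.O8E.FFc
import Cfsg.Agent.Lib.O8E.PU
import Cfsg.Agent.Lib.O8E.Cz
import Cfsg.Agent.Lib.O8E.A5k

/-!
# Failure of factorisation on `E₁₆`, and the good case for `L₃(2)`
-/

set_option autoImplicit false

namespace Cfsg.Lib.O8E

open Subgroup Cfsg.Lib Cfsg.Lib.BG Cfsg.Lib.Transfer Cfsg.Lib.PLocal Cfsg.Lib.Loc
open scoped commutatorElement

universe u v

variable {G : Type u} [Group G] [Finite G] {M Q S O₁ O₂ P₁ P₂ : Subgroup G} {y t y₁ y₂ : G}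

theorem f5_nab (h : Om8 G) (b : Bs M Q S) (hQ : ¬ Q ≤ Zo Q) {T : Subgroup G} (h1 : Q ≤ T) (h2 : T ≤ M) (h3 : ¬ T ≤ Q) :
    ¬ ⁅T, T⁆ ≤ Zo T := fun k => by
  obtain ⟨d, hd, d1⟩ := SetLike.not_le_iff_exists.1 h3
  exact hQ (b.cen h (h2 hd) d1 fun q hq =>
    zo_le_zo h1 (inf_le_right.trans b.cQ) (k (comm_mem_comm hd (h1 hq))))

theorem f5_cz {H O : Subgroup G} (hS : Syl 2 S ⊤) (l : Lo H O) (nB : 𝐍(Bm S) ≤ H) : H ⊓ 𝐂(Zo O) ≤ 𝐂(Zo S) := by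
  have SH : S ≤ H := (le_norm S).trans ((norm_bm S).trans nB)
  exact inf_le_right.trans (cent_anti (zo_le_zo (l.le_syl (hS.of_le SH le_top)) ((inf_le_inf_right _ SH).trans l.sc)))

omit [Finite G] in
theorem Pb.not_le {O P : Subgroup G} (p : Pb Q S O P y) : ¬ P ≤ S := fun k =>
  absurd (p.i3.symm.trans (relIndex_eq_one.2 k)) (by norm_num)

/-- Proof: `[S,S] ≰ Zo S` (`b.cen`, `hQ`), so `pu` for `T := S` (`PA M Q S`) and `mx` give `N(S) ≤ N(K) ≤ M`; `b.sylTop`; `Bm S = S`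
(`ffA`).  `cz` and `a5k` give `C(Z) ≤ M`, so `C(Z) ≤ S`.  `sol`: `gen` with `P = S ⊔ ⟨y⟩ ≤ N(S)`; `H ⊓ C(Zo O) ≤ C(Zo S) ≤ S`
(`zo_le_zo`). -/
theorem f5a (h : Om8 G) (lc : IsOfLocalCharacteristic 2 G) (b : Bs M Q S) (a : TA M Q S y t) (f : FF Q S)
    (c : Nat.card (Zo Q) = 16) (hQ : ¬ Q ≤ Zo Q) : KA M S := by
  have nab : ¬ ⁅S, S⁆ ≤ Zo S := f5_nab h b hQ b.QS b.SM b.out
  have pa : PA M Q S := ⟨a.ov, b.two, b.QS, b.SM, a.idx4, inf_le_right.trans b.cQ⟩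
  obtain ⟨K, pK, K1, nK, hL⟩ := (pu h b.twoS).resolve_left nab
  have nS : 𝐍(S) ≤ M := nK.trans (b.mx K pK K1 (hL M Q pa))
  have hS := b.sylTop nS
  obtain ⟨e1, e2, e3⟩ := ffA h b a f c
  have hc : 𝐂(Zo S) ≤ M := (cz h lc hS (ne_bot_mono b.ne b.QS) b.SM (by rwa [e1])).resolve_right
    fun ⟨_, bad⟩ => a5k h b a bad e2.le
  have cs : 𝐂(Zo S) ≤ S := (le_inf le_rfl hc).trans e3
  refine ⟨⟨hS, hc, fun H O l nB => ?_⟩, cs, ⟨Q, pa⟩, nab⟩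
  have P : S ⊔ zpowers y ≤ 𝐍(S) := sup_le (le_norm S) (zpowers_le.2 a.yS)
  rcases gen h hS l nB le_sup_left (P.trans ((norm_bm S).trans nB))
    (fun k => absurd (pgroup_eq_of_dvd b.twoS Nat.prime_three (a.y3 ▸ S.orderOf_dvd_natCard
      (k (mem_sup_right (mem_zpowers y))))) (by norm_num))
    (pgroup_of_le b.twoS ((f5_cz hS l nB).trans cs)) with k | k
  · rw [e1] at k; exact k.trans nS
  · exact k.le.trans (P.trans nS)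

/-- Proof: `sol`: `gen` with `P = P₂ ≤ N(O₂) = N(Bm S)`.  `K = H ⊓ C(Zo O) ≤ C(Zo S) = P₁` (`t.cm`) is normalised by `H ⊇ P₂`.  If `K ≰ S`
then `S ⊔ K = P₁` (`S3o.max`), so `K ⊴ M`, `K ≰ Q`, and `clo` gives an element of order `5` or `7` centralising `Zo S ≠ 1`.
`par`: `t.s3o`, `t.swap.s3o`. -/
theorem gdD (h : Om8 G) (b : Bs M Q S) (t : TD M Q S O₁ O₂ P₁ P₂ y₁ y₂) (g : GD Q S O₂ P₁) (hS : Syl 2 S ⊤)
    (hc : 𝐂(Zo S) ≤ M) (hn : 𝐍(O₂) ≤ M) : KD M S := by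
  refine ⟨⟨hS, hc, fun H O l nB => ?_⟩, fun k => t.p₁.not_le (g.z1.trans k),
    ⟨P₁, O₁, P₂, O₂, (t.s3o b).toLo, (t.swap.s3o b).toLo, t.p₁.SP, t.p₂.SP, t.gen⟩,
    .inl ⟨g.bm ▸ hn, t.gen.ge.trans (sup_le_sup g.z1 (g.bm ▸ t.p₂.nO.norm))⟩⟩
  have PH : P₂ ≤ H := t.p₂.nO.norm.trans (g.bm ▸ nB)
  have kz := f5_cz hS l nB
  have kP : H ⊓ 𝐂(Zo O) ≤ P₁ := (le_inf (kz.trans hc) kz).trans (t.cm b h g.z1).le
  have nK : H ≤ 𝐍(H ⊓ 𝐂(Zo O)) := norm_inf (le_norm H) (norm_cent (l.nml.norm.trans (normalizer_le_normalizer_oz O)))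
  have kS : H ⊓ 𝐂(Zo O) ≤ S := by_contra fun k => by
    have e := ((t.s3o b).max le_sup_left (sup_le t.p₁.SP kP)).resolve_left fun e => k (le_sup_right.trans e.le)
    obtain ⟨f, hf, o⟩ := b.clo _ ⟨kP.trans t.PM, t.gen.ge.trans (sup_le
      (e.ge.trans (sup_le_norm_right (t.p₂.SP.trans (PH.trans nK)))) (PH.trans nK))⟩ fun e => k (e.trans b.QS)
    exact b.Z1 (eq_bot_mono (h.fpf (PGroup.elemAb_isPGroup (oz_elemAb S)) o) (le_inf le_rfl (le_cent1_iff.2 (kz hf))))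
  rcases gen h hS l nB t.p₂.SP PH t.p₂.not_le (pgroup_of_le b.twoS kS) with k | k
  · exact k.trans (g.bm ▸ hn)
  · exact k.le.trans t.swap.PM

/-- Proof: `[O₂,O₂] ≰ Zo O₂` (`t.zV`, `b.cen`, `hQ`), so `pu` for `T := O₂`: `K` is normalised by `N(O₂) ⊇ S` and by `L` of `pu₂`, so by
`M`; `N(O₂) ≤ N(K) ≤ M`, `N(S) ≤ N(Bm S) = N(O₂)`, `b.sylTop`.  `cz`: `Bad.cm` contradicts `g.z1`.  Then `gdD`. -/
theorem f5d (h : Om8 G) (lc : IsOfLocalCharacteristic 2 G) (b : Bs M Q S) (t : T6 M Q S O₁ O₂ P₁ P₂ y₁ y₂)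
    (g : GD Q S O₂ P₁) (hQ : ¬ Q ≤ Zo Q) : KD M S := by
  obtain ⟨K, pK, K1, nK, hL⟩ := (pu h (pgroup_of_le b.twoS t.p₂.OS)).resolve_left (f5_nab h b hQ t.p₂.QO
    (t.p₂.OS.trans b.SM) fun k => absurd (t.p₂.i4.symm.trans (relIndex_eq_one.2 k)) (by norm_num))
  obtain ⟨L, pa, e⟩ := t.pu₂
  have hn : 𝐍(O₂) ≤ M :=
    nK.trans (b.mx K pK K1 (e.ge.trans (sup_le (hL L Q pa) (t.p₂.SP.trans (t.p₂.nO.norm.trans nK)))))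
  have nB : 𝐍(Bm S) ≤ M := g.bm ▸ hn
  have hS := b.sylTop ((norm_bm S).trans nB)
  exact gdD h b t.toTD g hS ((cz h lc hS (ne_bot_mono b.ne b.QS) b.SM nB).resolve_right fun ⟨_, bad⟩ =>
    t.p₁.not_le ((le_inf g.z1 t.PM).trans bad.cm)) hn

end Cfsg.Lib.O8E
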