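import Cfsg.Agent.Lib.O8E.SolA

/-!
# Failure of factorisation in solvable locals: a transvection
-/

set_option autoImplicit false

namespace Cfsg.Lib.O8E

open Subgroup Cfsg.Lib Cfsg.Lib.BG Cfsg.Lib.Transfer Cfsg.Lib.PLocal Cfsg.Lib.Loc
open scoped commutatorElement

universe u v

variable {G : Type u} [Group G] [Finite G] {H O T : Subgroup G}

omit [Finite G] in
/-- If `c` inverts `x` modulo `C(W)` and centralises `W/W₀`, so does `x`. -/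
theorem ffa_dih {W W₀ : Subgroup G} {x c : G} (x3 : x ^ 3 = 1) (xW : x ∈ 𝐍(W)) (x0 : x ∈ 𝐍(W₀)) (c0 : c ∈ 𝐍(W₀))
    (hc : ∀ w ∈ W, c * w * c⁻¹ * w⁻¹ ∈ W₀) (ho : c * x * c⁻¹ * x ∈ 𝐂(W)) {w : G} (hw : w ∈ W) :
    x * w * x⁻¹ * w⁻¹ ∈ W₀ := by
  have h1 := conj_mem_of_norm' xW hw
  have h2 := conj_mem_of_norm' xW h1
  have e : c * x * c⁻¹ * x * (x⁻¹ * (x⁻¹ * w * x) * x) * (c * x * c⁻¹ * x)⁻¹ = x⁻¹ * (x⁻¹ * w * x) * x :=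
    mul_inv_eq_of_eq_mul (mem_cent.1 ho _ h2).symm
  have h3 := mul_mem (conj_mem_of_norm c0 (conj_mem_of_norm x0 (inv_mem (conj_mem_of_norm' c0 (hc _ h1))))) (hc w hw)
  rw [show c * (x * (c⁻¹ * (c * (x⁻¹ * w * x) * c⁻¹ * (x⁻¹ * w * x)⁻¹) * c)⁻¹ * x⁻¹) * c⁻¹ * (c * w * c⁻¹ * w⁻¹) =
    c * x * c⁻¹ * x * (x⁻¹ * (x⁻¹ * w * x) * x) * (c * x * c⁻¹ * x)⁻¹ * w⁻¹ by group, e] at h3
  rwa [show x⁻¹ * (x⁻¹ * w * x) * x = (x * x)⁻¹ * w * (x * x) by group, L72.o3_sq x3, inv_inv] at h3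

omit [Finite G] in
theorem ffa_cent {W : Subgroup G} {o e : G} (ho : o ∈ 𝐂(W)) : W ⊓ 𝐂[o * e] = W ⊓ 𝐂[e] := by
  ext w
  refine and_congr_right fun hw => ?_
  change w ∈ 𝐂[o * e] ↔ w ∈ 𝐂[e]
  rw [mem_cent1, mem_cent1, ← mul_assoc, mem_cent.1 ho w hw, mul_assoc, mul_assoc, mul_right_inj]

/-- Proof: `W = Zo O`.  Take `A ∈ maxIn 2 T`, `A ≰ O`, `A₀ = A ⊓ O`; `A₀ ⊔ W` is elementary, so `|W : W ⊓ A| ≤ |A : A₀|`, and
`W ⊓ A ≤ C(A)`.  If `|A : A₀| = 2` take any `a ∈ A ∖ O`.  Otherwise there are `a, b ∈ A` with `Four O a b`, and `|A : A₀| ≤ |T : O| = 4`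
(`sol4`).  Suppose no `u ∈ A ∖ O` works; then `W ⊓ C(u) = W₀ := W ⊓ A` for all of them (orders are powers of `2`).  Take `x, e, c`
from `e4x`.  By `f1b`, `o e ∈ C(x)` centralises `O ⊓ C(x)`; `o` centralises `W`, so `W₀ = W ⊓ C(o e)` is `x`-invariant and
`W ⊓ C(x) ≤ W₀`.  `U = [W, ⟨x⟩] ≠ 1` (`hc`), `U ⊓ C(x) = 1`.  `c` and `x c x⁻¹` centralise `W₀`, so does
`c x c⁻¹ x⁻¹ = o' x⁻²`; hence `W₀ ≤ C(x)`.  `c` normalises `U = [W, O⟨x⟩]`, so `1 ≠ U ⊓ C(c) ≤ U ⊓ W₀ ≤ U ⊓ C(x) = 1`. -/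
theorem transv (h : Om8 G) (l : Lo H O) (hT : Syl 2 T H) (hc : H ⊓ 𝐂(Zo O) ≤ O) (hJ : ¬ Jt T ≤ O) :
    ∃ a ∈ T, a ∉ O ∧ a * a ∈ O ∧ Nat.card (Zo O) ≤ 2 * Nat.card ↥(Zo O ⊓ 𝐂[a]) := by
  rw [Jt, thompsonSubgroupOf_eq_sSup, sSup_le_iff] at hJ
  push Not at hJ
  obtain ⟨A, hA, AO⟩ := hJ
  have OT := l.le_syl hT
  have OW : O ≤ 𝐂(Zo O) := le_centralizer_oz O
  have HW : H ≤ 𝐍(Zo O) := l.nml.norm.trans (normalizer_le_normalizer_oz O)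
  have AH : A ≤ H := hA.1.trans hT.le
  have sq : ∀ a ∈ A, a * a = 1 := fun a ha => by rw [← pow_two, hA.2.1.2 a ha]
  have m := offMeasure_le_of_mem_maxIn hA ((oz_le O).trans OT) (oz_elemAb O) (inf_le_right : O ⊓ A ≤ A)
  rw [offMeasure, offMeasure, inf_eq_left.2 (cent_symm (inf_le_left.trans OW)),
    ← BG.card_mul_relIndex (inf_le_right : O ⊓ A ≤ A), inf_relIndex_right, mul_assoc] at m
  replace m : Nat.card (Zo O) ≤ O.relIndex A * Nat.card ↥(Zo O ⊓ 𝐂(A)) := Nat.le_of_mul_le_mul_left m Nat.card_pos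
  have le : ∀ a ∈ A, Zo O ⊓ 𝐂(A) ≤ Zo O ⊓ 𝐂[a] := fun a ha => inf_le_inf_left _ (cent_le_cent1 ha)
  by_contra hn
  push Not at hn
  replace hn : ∀ a ∈ A, a ∉ O → 2 * Nat.card ↥(Zo O ⊓ 𝐂[a]) < Nat.card (Zo O) := fun a ha h1 =>
    hn a (hA.1 ha) h1 (sq a ha ▸ one_mem O)
  obtain ⟨a, ha, a1⟩ := SetLike.not_le_iff_exists.1 AO
  by_cases hb : ∀ b ∈ A, b ∉ O → a * b ∈ O
  · have i2 : O.relIndex A = 2 := relIindex_eq_two_iff'.2 ⟨a, ha, fun b h1 => by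
      by_cases h2 : b ∈ O
      · exact .inr ⟨h2, fun h3 => a1 ((mul_mem_cancel_right h2).1 h3)⟩
      · exact .inl ⟨hb b h1 h2, h2⟩⟩
    have := hn a ha a1
    have := card_le_of_le (le a ha)
    rw [i2] at m
    omega
  push Not at hb
  obtain ⟨b, hb, b1, ab1⟩ := hb
  have f : Four O a b := ⟨sq a ha ▸ one_mem O, sq b hb ▸ one_mem O, by
    rw [le_cent_iff.1 (PGroup.elemAb_le_centralizer hA.2.1) a ha b hb]; simp, a1, b1, ab1⟩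
  have i4 : O.relIndex A ≤ 4 := Nat.le_of_dvd (by norm_num)
    (sol4 h l hT (hA.1 ha) (hA.1 hb) f ▸ relIndex_dvd_of_norm hA.1 (hT.le.trans l.nml.norm))
  have eq : ∀ u ∈ A, u ∉ O → Zo O ⊓ 𝐂(A) = Zo O ⊓ 𝐂[u] := fun u hu u1 => by
    obtain ⟨k, hk⟩ := card_dvd (le u hu)
    have := hn u hu u1
    have := Nat.mul_le_mul_right (Nat.card ↥(Zo O ⊓ 𝐂(A))) i4
    have p : 0 < Nat.card ↥(Zo O ⊓ 𝐂(A)) := Nat.card_pos
    refine eq_of_le_of_card_le (le u hu) ?_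
    rw [hk] at *
    have : k < 2 := by nlinarith
    nlinarith
  have mem : ∀ u ∈ ({a, b, a * b} : Set G), u ∈ A ∧ u ∉ O := by
    rintro _ (rfl | rfl | rfl)
    exacts [⟨ha, a1⟩, ⟨hb, b1⟩, ⟨mul_mem ha hb, ab1⟩]
  obtain ⟨x, xH, x3, e, he, c, hc', e1, c1⟩ := e4x h l (AH ha) (AH hb) f
  obtain ⟨eA, eO⟩ := mem e he
  obtain ⟨cA, cO⟩ := mem c hc'
  obtain ⟨o, oO, ox, -⟩ := f1b h l.pg x3 (l.nml.norm xH) (l.nml.norm (AH eA)) (L72.t2_inv (sq e eA)) e1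
  have x0 : x ∈ 𝐍(Zo O ⊓ 𝐂(A)) := by
    rw [eq e eA eO, ← ffa_cent (OW oO)]
    exact zpowers_le.1 (norm_inf (zpowers_le.2 (HW xH)) (norm_cent1 (zpowers_le.2 (mem_cent1_symm ox))))
  have cc : Zo O ⊓ 𝐂(A) ≤ 𝐂[c] := inf_le_right.trans (cent_le_cent1 cA)
  have cx : Zo O ⊓ 𝐂(A) ≤ 𝐂[x] := fun w hw => by
    have := ffa_dih (W₀ := ⊥) (L72.o3_pow x3) x0 (le_normalizer_of_normal (mem_top _))
      (le_normalizer_of_normal (mem_top _)) (fun w hw => by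
      rw [← mem_cent1.1 (cc hw)]; simp) (cent_anti inf_le_left (OW c1)) hw
    rw [mem_bot, mul_inv_eq_one, mul_inv_eq_iff_eq_mul] at this
    exact mem_cent1.2 this.symm
  have xW : x ∈ 𝐂(Zo O) := le_cent1_iff.1 fun w hw => by
    have := ffa_dih (L72.o3_pow x3) (HW xH) x0 (cent_le_norm _ (le_cent1_iff.1 cc)) (fun w hw => by
      have h1 := conj_mem_of_norm (HW (AH cA)) hw
      have h2 := le_cent_iff.1 (PGroup.elemAb_le_centralizer (oz_elemAb (p := 2) O)) _ h1 _ hw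
      have h3 : c⁻¹ = c := inv_eq_of_mul_eq_one_right (sq c cA)
      rw [eq c cA cO, inv_eq_of_mul_eq_one_right (mem_zo.1 hw).2.2]
      refine ⟨mul_mem h1 hw, mem_cent1.2 ?_⟩
      conv_rhs => rw [h2]
      rw [h3]
      calc c * w * c * w * c = c * (w * (c * w * c)) := by group
        _ = _ := rfl) (OW c1) hw
    obtain ⟨n, hn, e⟩ := L72.fixc (l.pg.to_le (inf_le_left.trans (oz_le O))) (L72.odd3 x3) x0 this
    exact (mul_mem_cancel_left (cx hn)).1 (mem_cent1.2 e)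
  exact absurd (L72.T2.one (L72.t2_of l.pg (hc ⟨xH, xW⟩)) (by decide : Odd 3) (L72.o3_pow x3)) (L72.o3_ne x3)

end Cfsg.Lib.O8E
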