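import Cfsg.Agent.Lib.O8E.TDa

/-!
# Failure of factorisation
-/

set_option autoImplicit false

namespace Cfsg.Lib.O8E

open Subgroup Cfsg.Lib Cfsg.Lib.BG Cfsg.Lib.Transfer Cfsg.Lib.PLocal Cfsg.Lib.Loc
open scoped commutatorElement

universe u v

variable {G : Type u} [Group G] [Finite G] {M Q S Y O₁ O₂ P₁ P₂ : Subgroup G} {j : ℕ} {y t y₁ y₂ : G}

theorem ffc_ex (hJ : ¬ Jt S ≤ Q) : ∃ A ∈ maxIn 2 S, ¬ A ≤ Q := by
  rw [Jt, thompsonSubgroupOf_le_iff] at hJ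
  push Not at hJ
  exact hJ

omit [Finite G] in
theorem ffc_bd (bd : Bd M Q S j) {A : Subgroup G} (hA : A ∈ maxIn 2 S) {a : G} (ha : a ∈ A) (a1 : a ∉ Q)
    (hY : Y ≤ Q) (n : M ≤ 𝐍(Y)) : Nat.card ↥(Y ⊓ 𝐂[a]) ^ (j + 1) ≤ Nat.card Y ^ j :=
  bd a (hA.1 ha) a1 (by rw [← pow_two, hA.2.1.2 a ha]; exact one_mem Q) Y hY n

theorem ffc_num {c n : ℕ} (n0 : 0 < n) (h1 : n ≤ 4 * c) (h2 : c ^ (j + 1) ≤ n ^ j) : n ≤ 4 ^ (j + 1) := by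
  have h3 := Nat.pow_le_pow_left h1 (j + 1)
  rw [mul_pow, pow_succ' n] at h3
  exact Nat.le_of_mul_le_mul_right (h3.trans (Nat.mul_le_mul_left _ h2)) (by positivity)

omit [Finite G] in
theorem ffc_le {A : Subgroup G} (hA : A ∈ maxIn 2 S) {a : G} (ha : a ∈ A) : Y ⊓ A ≤ Y ⊓ 𝐂[a] :=
  inf_le_inf_left _ ((PGroup.elemAb_le_centralizer hA.2.1).trans (cent_le_cent1 ha))

omit [Finite G] in
theorem ffc_sup (b : Bs M Q S) {A : Subgroup G} (hA : A ∈ maxIn 2 S) :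
    A ⊓ Q ⊔ Zo Q ≤ Q ∧ IsElementaryAbelian 2 (A ⊓ Q ⊔ Zo Q) ∧
      Nat.card ↥(A ⊓ Q ⊔ Zo Q) * Nat.card ↥(Zo Q ⊓ A) = Nat.card ↥(A ⊓ Q) * Nat.card (Zo Q) ∧
      Nat.card ↥(A ⊓ Q ⊔ Zo Q) ≤ Nat.card A := by
  have c : A ⊓ Q ≤ 𝐂(Zo Q) := inf_le_right.trans (le_centralizer_oz Q)
  have l : A ⊓ Q ⊔ Zo Q ≤ Q := sup_le inf_le_right (oz_le Q)
  have e := PGroup.elemAb_sup (PGroup.elemAb_of_le hA.2.1 inf_le_left) (oz_elemAb Q) c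
  refine ⟨l, e, ?_, hA.2.2 _ (l.trans b.QS) e⟩
  rw [← Core.card_sup_mul_card_inf (norm_of_cent c), inf_assoc, inf_eq_right.2 (oz_le Q), inf_comm (Zo Q)]

theorem ffc_four (b : Bs M Q S) {A : Subgroup G} (hA : A ∈ maxIn 2 S) :
    Nat.card (Zo Q) ≤ 4 * Nat.card ↥(Zo Q ⊓ A) := by
  obtain ⟨-, -, h1, h2⟩ := ffc_sup b hA
  refine Nat.le_of_mul_le_mul_left (c := Nat.card ↥(A ⊓ Q)) ?_ Nat.card_pos
  rw [← h1]
  exact (Nat.mul_le_mul_right _ (h2.trans (b.el4 A hA.1 hA.2.1))).trans_eq (by ring)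

/-- Proof: take `A ∈ maxIn 2 S`, `a ∈ A ∖ Q`.  `(A ⊓ Q) ⊔ V` is elementary, so `|V| ≤ |A : A ⊓ Q| |V ⊓ A| ≤ 4 c`, `c = |V ⊓ C(a)|`
(`el4`); `c ^ (j+1) ≤ |V| ^ j` gives `|V| ^ (j+1) ≤ 4 ^ (j+1) |V| ^ j`. -/
theorem sizes (b : Bs M Q S) (bd : Bd M Q S j) (hJ : ¬ Jt S ≤ Q) : Nat.card (Zo Q) ≤ 4 ^ (j + 1) := by
  obtain ⟨A, hA, AQ⟩ := ffc_ex hJ
  obtain ⟨a, ha, a1⟩ := SetLike.not_le_iff_exists.1 AQ
  exact ffc_num Nat.card_pos ((ffc_four b hA).trans (Nat.mul_le_mul_left _ (card_le_of_le (ffc_le hA ha))))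
    (ffc_bd bd hA ha a1 (oz_le Q) b.nV)

/-- Proof: for `A ∈ maxIn 2 S`, `a ∈ A ∖ Q`: `c ^ (j+1) ≤ 4 ^ ((j+1) j)` gives `c ≤ 4 ^ j = |V|/4`, so all inequalities in `sizes` are
equalities (`off`) and `A* = (A ⊓ Q) ⊔ V ∈ maxIn 2 S` (`m`), `|A* : A ⊓ Q| = 4`.  `Y = zj Q` is normalised by `M`, `V ≤ Y ≤ A*`, so
`|Y| ≤ 4 |Y ⊓ A| ≤ 4 |Y ⊓ C(a)|` and `bd` gives `|Y| ≤ 4 ^ (j+1)`, `Y = V`.  `zj S ≤ zj Q` (`PU.zj_le_zj`), `PU.le_zj`. -/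
theorem ff (b : Bs M Q S) (bd : Bd M Q S j) (hJ : ¬ Jt S ≤ Q) (c : Nat.card (Zo Q) = 4 ^ (j + 1)) : FF Q S := by
  have k1 : ∀ A ∈ maxIn 2 S, ∀ a ∈ A, a ∉ Q →
      Nat.card (Zo Q) = 4 * Nat.card ↥(Zo Q ⊓ A) ∧ Zo Q ⊓ 𝐂[a] ≤ A := fun A hA a ha a1 => by
    have h1 := ffc_bd (Y := Zo Q) bd hA ha a1 (oz_le Q) b.nV
    rw [c, ← pow_mul, mul_comm, pow_mul] at h1
    have h2 := (Nat.pow_le_pow_iff_left (by omega)).1 h1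
    have h3 := ffc_four b hA
    have h4 := card_le_of_le (ffc_le (Y := Zo Q) hA ha)
    rw [pow_succ] at c
    exact ⟨by omega, (BG.eq_of_le_of_card_le (ffc_le hA ha) (by omega)).ge.trans inf_le_right⟩
  have k2 : ∀ A ∈ maxIn 2 S, ¬ A ≤ Q → Nat.card (Zo Q) = 4 * Nat.card ↥(Zo Q ⊓ A) ∧
      Nat.card A = 4 * Nat.card ↥(A ⊓ Q) ∧ Nat.card ↥(A ⊓ Q ⊔ Zo Q) = Nat.card A := fun A hA AQ => by
    obtain ⟨a, ha, a1⟩ := SetLike.not_le_iff_exists.1 AQ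
    obtain ⟨-, -, h1, h2⟩ := ffc_sup b hA
    have h3 := (k1 A hA a ha a1).1
    have h4 := b.el4 A hA.1 hA.2.1
    rw [h3, ← mul_assoc, Nat.mul_left_inj Nat.card_pos.ne'] at h1
    exact ⟨h3, by omega, by omega⟩
  obtain ⟨A, hA, AQ⟩ := ffc_ex hJ
  obtain ⟨a, ha, a1⟩ := SetLike.not_le_iff_exists.1 AQ
  obtain ⟨l, e, -, -⟩ := ffc_sup b hA
  obtain ⟨-, h2, h3⟩ := k2 A hA AQ
  have hB := mem_maxIn_of_card_le hA (l.trans b.QS) e h3.ge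
  refine ⟨⟨_, hB, l⟩, hJ, fun A hA AQ => ⟨?_, (k2 A hA AQ).1, fun a ha a1 => (k1 A hA a ha a1).2⟩, ?_⟩
  · refine Nat.eq_of_mul_eq_mul_left (Nat.card_pos (α := ↥(Q ⊓ A))) ?_
    rw [PGroup.card_inf_mul_relIndex, (k2 A hA AQ).2.1, inf_comm, mul_comm]
  have l1 : Zo Q ≤ PU.zj 2 Q := PU.le_zj (oz_elemAb Q) (oz_le Q)
    ((oz_le_centralizer Q).trans (cent_anti (thompsonSubgroupOf_le Q)))
  have l2 : PU.zj 2 Q ≤ A ⊓ Q ⊔ Zo Q := omegaOne_centerThompsonOf_le (mem_maxIn_of_le hB l b.QS)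
  have i4 : (A ⊓ Q).relIndex (A ⊓ Q ⊔ Zo Q) = 4 := Nat.eq_of_mul_eq_mul_left (Nat.card_pos (α := ↥(A ⊓ Q)))
    (by rw [BG.card_mul_relIndex le_sup_left, h3, h2, mul_comm])
  have h4 : Nat.card (PU.zj 2 Q) ≤ 4 * Nat.card ↥(PU.zj 2 Q ⊓ 𝐂[a]) := by
    rw [← PGroup.card_inf_mul_relIndex (A ⊓ Q) (PU.zj 2 Q), mul_comm]
    exact Nat.mul_le_mul (i4 ▸ relIndex_le_of_le_right l2 (by omega)) (card_le_of_le
      ((le_inf inf_le_right (inf_le_left.trans inf_le_left)).trans (ffc_le hA ha)))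
  have e1 := BG.eq_of_le_of_card_le l1 ((ffc_num Nat.card_pos h4 (ffc_bd bd hA ha a1 (PU.zj_le Q)
    (b.nQ.norm.trans (PU.normalizer_le_zj Q)))).trans c.ge)
  exact le_antisymm (le_inf ((PU.zj_le_zj hB l b.QS).trans e1.ge) (cent_symm ((jt_le_bm S).trans inf_le_right)))
    (PU.le_zj (PGroup.elemAb_of_le (oz_elemAb Q) inf_le_left) (inf_le_left.trans ((oz_le Q).trans b.QS))
      inf_le_right)

/-- For an offender `A` and `s ∈ AQ ∖ Q`: `V ⊓ C(s) = V ⊓ A = Ω₁Z(AQ)`. -/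
theorem FF.eq (f : FF Q S) (b : Bs M Q S) {A : Subgroup G} (hA : A ∈ maxIn 2 S) {s : G} (hs : s ∈ A ⊔ Q)
    (s1 : s ∉ Q) : Zo Q ⊓ 𝐂[s] = Zo (A ⊔ Q) ∧ Zo Q ⊓ A = Zo (A ⊔ Q) := by
  obtain ⟨a, ha, q, hq, rfl⟩ := (mem_sup_right_norm (hA.1.trans (b.SM.trans b.nQ.norm))).1 hs
  have a1 : a ∉ Q := fun H => s1 (mul_mem H hq)
  have l1 : Zo Q ⊓ 𝐂[a * q] ≤ Zo Q ⊓ A := fun w hw => ⟨hw.1, (f.off A hA fun H => a1 (H ha)).2.2 a ha a1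
    ⟨hw.1, mem_cent1.2 (by
      have h1 := mem_cent1.1 hw.2
      rwa [mul_assoc, mem_cent.1 (oz_le_centralizer Q hw.1) q hq, ← mul_assoc, ← mul_assoc, mul_left_inj] at h1)⟩⟩
  have e := b.Zeq (le_sup_right : Q ≤ A ⊔ Q)
  have l2 : Zo Q ⊓ A ≤ Zo (A ⊔ Q) := (le_inf inf_le_left (le_cent_sup
    (inf_le_right.trans (PGroup.elemAb_le_centralizer hA.2.1)) (inf_le_left.trans (oz_le_centralizer Q)))).trans e.ge
  have l3 : Zo (A ⊔ Q) ≤ Zo Q ⊓ 𝐂[a * q] := e.le.trans (inf_le_inf_left _ (cent_le_cent1 hs))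
  exact ⟨le_antisymm (l1.trans l2) l3, le_antisymm l2 (l3.trans l1)⟩

/-- Proof: an offender `A` has `A ⊔ Q = S`, so `Z = V ⊓ C(S) = V ⊓ A` has order `4` and `zj S ≤ C(S)`.  If `C(Z) ⊓ M ≰ S` then
`y ∈ C(Z)` (`ovr`); `D = V ⊓ C(y)` is normalised by `t` (`ty`, `Q ≤ C(V)`), contains `Z` and `t Z t⁻¹`, whose intersection is
centralised by `S ⊔ t S t⁻¹ = M`, so trivial (`five`, `h.fpf`); thus `D = V`, `y ∈ C(V) ≤ Q`. -/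
theorem ffA (h : Om8 G) (b : Bs M Q S) (a : TA M Q S y t) (f : FF Q S) (c : Nat.card (Zo Q) = 16) :
    Bm S = S ∧ Nat.card (Zo S) = 4 ∧ 𝐂(Zo S) ⊓ M ≤ S := by
  obtain ⟨A, hA, AQ⟩ := ffc_ex f.nj
  obtain ⟨s, hs, s1⟩ := SetLike.not_le_iff_exists.1 AQ
  obtain ⟨h1, h2, -⟩ := f.off A hA AQ
  have e1 : A ⊔ Q = S := BG.eq_of_le_of_card_le (sup_le hA.1 b.QS) (by
    rw [← BG.card_mul_relIndex b.QS, ← BG.card_mul_relIndex (le_sup_right : Q ≤ A ⊔ Q),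
      Core.relIndex_sup_of_le_normalizer (hA.1.trans (b.SM.trans b.nQ.norm)), h1, a.idx4])
  have e2 := (f.eq b hA (mem_sup_left hs) s1).2
  rw [e1] at e2
  have c4 : Nat.card (Zo S) = 4 := by
    rw [e2] at h2
    omega
  refine ⟨inf_eq_left.2 (cent_symm ((le_inf (f.zj.le.trans inf_le_left)
    (omegaOne_centerThompsonOf_le hA)).trans (e2.le.trans (oz_le_centralizer S)))), c4, ?_⟩
  refine (a.ovr _ (le_inf (le_centralizer_oz S) b.SM) inf_le_right).resolve_right fun H => ?_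
  have ZV : Zo S ≤ Zo Q := e2.ge.trans inf_le_left
  have l1 : Zo S ≤ Zo Q ⊓ 𝐂[y] := le_inf ZV (le_cent1_iff.2 H.1)
  have l2 : t ⋆ Zo S ≤ Zo Q ⊓ 𝐂[y] := by
    rintro _ ⟨v, hv, rfl⟩
    have h3 : t * v * t⁻¹ ∈ Zo Q := conj_mem_of_norm (b.nV a.tM) (ZV hv)
    have c1 : Commute (t * v * t⁻¹) (t * y * t⁻¹ * y) := (mem_cent.1 (oz_le_centralizer Q h3) _ a.ty).symm
    have c2 : Commute (t * v * t⁻¹) (t * y * t⁻¹) := by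
      have := congrArg (fun z => t * z * t⁻¹) (mem_cent1.1 (l1 hv).2)
      simp only [← conj_mul] at this
      exact this
    have c3 := c2.inv_right.mul_right c1
    rw [inv_mul_cancel_left] at c3
    exact ⟨h3, mem_cent1.2 c3⟩
  obtain ⟨g, gM, g5⟩ := a.five
  have d : Zo S ⊓ t ⋆ Zo S = ⊥ := eq_bot_mono (h.fpf b.two (.inl g5))
    (le_inf (inf_le_left.trans (ZV.trans (oz_le Q))) ((le_cent_sup (inf_le_left.trans (oz_le_centralizer S))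
      (inf_le_right.trans (by rw [← conj_centralizer]; exact map_mono (oz_le_centralizer S)))).trans
        (cent_le_cent1 (a.gen.ge gM))))
  have c16 := Core.card_sup_of_disjoint (norm_of_cent (cent_mono
    (PGroup.elemAb_le_centralizer (oz_elemAb Q)) ZV (l2.trans inf_le_left))) d
  rw [Transfer.card_conj, c4] at c16
  have e3 := BG.eq_of_le_of_card_le ((sup_le l1 l2).trans inf_le_left) (by omega)
  have yQ := b.cV h (le_cent1_iff.1 (e3.ge.trans ((sup_le l1 l2).trans inf_le_right)))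
  exact L72.o3_ne a.y3 ((L72.t2_of b.two yQ).one (by decide : Odd 3) (L72.o3_pow a.y3))

theorem ffc_gd (h : Om8 G) (b : Bs M Q S) (t : TD M Q S O₁ O₂ P₁ P₂ y₁ y₂) (f : FF Q S) {A : Subgroup G}
    (hA : A ∈ maxIn 2 S) (AQ : ¬ A ≤ Q) (e : A ⊔ Q = O₂) : GD Q S O₂ P₁ := by
  obtain ⟨s, s1, s2, s3⟩ := t.exs
  obtain ⟨e1, e2⟩ := f.eq b hA (e.ge s2) s3
  rw [e] at e1 e2
  have ne : Zo O₁ ≠ Zo O₂ := fun H => ne_bot_mono b.Z1 (t.zle b) (t.triv b h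
    (PGroup.elemAb_isPGroup (oz_elemAb _)) (t.p₁.nO.norm.trans (normalizer_le_normalizer_oz _))
    (H ▸ t.p₂.nO.norm.trans (normalizer_le_normalizer_oz _)) (inf_le_left.trans (le_centralizer_oz _)))
  have alt : ∀ B ∈ maxIn 2 S, B ≤ Q ∨ B ⊔ Q = O₂ := fun B hB => or_iff_not_imp_left.2 fun BQ =>
    (t.four b hB.1 (fun a ha => by rw [← pow_two, hB.2.1.2 a ha]; exact one_mem Q)
      (f.off B hB BQ).1).resolve_left fun H => ne (by rw [← e1, (f.eq b hB (H.ge s1) s3).1, H])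
  have l1 : Zo O₁ ≤ Zo O₂ := (le_inf (t.zV b) ((oz_le_centralizer _).trans (cent_le_cent1 s1))).trans e1.le
  have JO : Jt S ≤ O₂ := thompsonSubgroupOf_le_iff.2 fun B hB =>
    (alt B hB).elim (·.trans t.p₂.QO) fun H => le_sup_left.trans H.le
  have ez : PU.zj 2 S = Zo O₂ := le_antisymm ((le_inf (f.zj.le.trans inf_le_left)
    (omegaOne_centerThompsonOf_le hA)).trans e2.le)
    (f.zj ▸ le_inf (t.swap.zV b) ((oz_le_centralizer _).trans (cent_anti JO)))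
  have eb : Bm S = S ⊓ 𝐂(Zo O₂) := by rw [← ez]; rfl
  refine ⟨(prime_idx (eb ▸ le_inf t.p₂.OS (le_centralizer_oz _)) (bm_le S)
    (t.swap.i2 ▸ Nat.prime_two)).resolve_right fun H => ne (le_antisymm l1 ((le_oz (oz_elemAb _)
      ((oz_le _).trans t.p₂.OS) (cent_symm (H.ge.trans (eb.le.trans inf_le_right)))).trans (t.zle b))),
    alt, f.m, f.nj, e2 ▸ (f.off A hA AQ).2.1, t.z1 b ((le_inf le_rfl l1).trans (t.zinf b))⟩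

/-- Proof: an offender `A` has `A ⊔ Q = Oᵢ` (`t.four`), and then for `s` of `t.exs` (`s = a q`), `V ⊓ C(s) = V ⊓ A = Zo Oᵢ`.  Both `i`
cannot occur (`t.triv` for `Zo O₁ = Zo O₂`).  Say `i = 2`: `Jt S ⊔ Q = O₂`, `zj S = Zo O₂`, `Zo O₁ ≤ V ⊓ C(s) = Zo O₂`, so
`Zo O₁ ≤ Zo S` (`zinf`) and `t.z1`.  `O₂ ≤ Bm S`; `Bm S = S` would give `Zo O₂ = Zo S = Zo O₁`. -/
theorem ffD (h : Om8 G) (b : Bs M Q S) (t : TD M Q S O₁ O₂ P₁ P₂ y₁ y₂) (f : FF Q S) :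
    GD Q S O₂ P₁ ∨ GD Q S O₁ P₂ := by
  obtain ⟨A, hA, AQ⟩ := ffc_ex f.nj
  rcases t.four b hA.1 (fun a ha => by rw [← pow_two, hA.2.1.2 a ha]; exact one_mem Q) (f.off A hA AQ).1 with e | e
  exacts [.inr (ffc_gd h b t.swap f hA AQ e), .inl (ffc_gd h b t f hA AQ e)]

end Cfsg.Lib.O8E
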