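import Cfsg.Agent.Lib.O8E.Def

/-!
# Elements of order three and groups of order nine acting on `2`-groups
-/

set_option autoImplicit false

namespace Cfsg.Lib.O8E

open Subgroup Cfsg.Lib Cfsg.Lib.BG Cfsg.Lib.Transfer Cfsg.Lib.PLocal Cfsg.Lib.Loc
open scoped commutatorElement

universe u v

variable {G : Type u} [Group G] [Finite G] {H N N₀ O P T : Subgroup G} {a b c w x : G}

omit [Finite G] in
theorem k0_one {y : 𝐍(N)} : qhom N y = 1 ↔ (y : G) ∈ N := QuotientGroup.eq_one_iff y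

omit [Finite G] in
theorem k0_inf {A B : Subgroup G} (h1 : x ∈ 𝐍(A)) (h2 : x ∈ 𝐍(B)) : x ∈ 𝐍(A ⊓ B) :=
  zpowers_le.1 (norm_inf (zpowers_le.2 h1) (zpowers_le.2 h2))

theorem k0_cent (h : Om8 G) (hO : IsPGroup 2 O) (hx : orderOf x = 3) (hw : w ∈ O ⊓ 𝐂[x]) : O ⊓ 𝐂[x] ≤ 𝐂[w] :=
  fun _ hy => mem_cent1.2 (PGroup.elemAb_comm (h.elem_cent hO hx) hy hw)

omit [Finite G] in
theorem k0_ord (e : L72.E9 a b) : orderOf (a * b) = 3 ∧ orderOf (a * b⁻¹) = 3 :=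
  ⟨orderOf_eq_prime (e.cube (mul_mem (mem_sup_left (mem_zpowers a)) (mem_sup_right (mem_zpowers b))))
    fun k => e.n (eq_inv_of_mul_eq_one_left k ▸ inv_mem (mem_zpowers b)),
  orderOf_eq_prime (e.cube (mul_mem (mem_sup_left (mem_zpowers a)) (mem_sup_right (inv_mem (mem_zpowers b)))))
    fun k => e.n (mul_inv_eq_one.1 k ▸ mem_zpowers b)⟩

/-- `E9.gen` for a property of the elements of a subgroup `C` containing `a`, `b` -/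
theorem k0_gen {C : Subgroup G} (hO : IsPGroup 2 O) (e : L72.E9 a b) (aO : a ∈ 𝐍(O)) (bO : b ∈ 𝐍(O)) (ha : a ∈ C) (hb : b ∈ C)
    (k : ∀ x ∈ C, orderOf x = 3 → O ⊓ 𝐂[x] ≤ H) : O ≤ H :=
  e.gen hO aO bO (k a ha e.ox) (k b hb e.oy) (k _ (mul_mem ha hb) (k0_ord e).1) (k _ (mul_mem ha (inv_mem hb)) (k0_ord e).2)

/-- Nilpotency step.  Proof: `N₁ = N ⊓ N₀ ⊴ P`; in `P/N₁` (`BG.quo`) the nontrivial normal subgroup `N/N₁` meets the centre. -/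
theorem step (hP : IsPGroup 2 P) (hN : Nml N P) (h0 : P ≤ 𝐍(N₀)) (e : ¬ N ≤ N₀) :
    ∃ w ∈ N, w ∉ N₀ ∧ ∀ q ∈ P, w * q * w⁻¹ * q⁻¹ ∈ N ⊓ N₀ := by
  have n1 : P ≤ 𝐍(N ⊓ N₀) := norm_inf hN.norm h0
  obtain ⟨_, ⟨⟨w, hw, rfl⟩, hc⟩, w1⟩ := exists_ne_one (nil_meet_center (pgroup_nil (pgroup_quo hP (N ⊓ N₀))) (hN.quo _).le
    (hN.quo _).norm fun k => e (((quo_eq_bot_iff (hN.le.trans n1)).1 k).trans inf_le_right))
  refine ⟨w, hw, fun k => w1 (k0_one.2 ⟨hw, k⟩), fun q hq => k0_one.1 (?_ : qhom _ (w * ⟨q, n1 hq⟩ * w⁻¹ * ⟨q, n1 hq⟩⁻¹) = 1)⟩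
  rw [map_mul, map_mul, map_mul, map_inv, map_inv, mul_inv_eq_one, mul_inv_eq_iff_eq_mul]
  exact (mem_cent.1 hc _ ⟨⟨q, n1 hq⟩, hq, rfl⟩).symm

/-- Proof: `q ↦ [w,q]` is multiplicative on `O` (values in `C(O)`) and invariant under conjugation by `x` (values in `C(x)`,
`w ∈ C(x)`).  So `K = O ⊓ C(w)` is `x`-invariant and `x q x⁻¹ q⁻¹ ∈ K` for `q ∈ O`.  `L72.fixc` (with `N := K`): `n q ∈ C(x)` for
some `n ∈ K`; `O ⊓ C(x)` is abelian (`h.elem_cent`) and contains `w`, so `n q ∈ K`, `q ∈ K`. -/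
theorem k0 (h : Om8 G) (hO : IsPGroup 2 O) (hx : orderOf x = 3) (xO : x ∈ 𝐍(O)) (hw : w ∈ O ⊓ 𝐂[x])
    (hN : N ≤ 𝐂(O) ⊓ 𝐂[x]) (e : ∀ q ∈ O, w * q * w⁻¹ * q⁻¹ ∈ N) : w ∈ 𝐂(O) := by
  refine mem_cent.2 fun q hq => ?_
  have m := mul_mem (conj_mem_of_norm xO hq) (inv_mem hq)
  have c1 := mem_cent.1 (hN (e q hq)).1 _ m
  have c2 := mem_cent1.1 (hN (e q hq)).2
  have c3 := mem_cent1.1 hw.2
  obtain ⟨n, hn, k⟩ := L72.fixc (pgroup_of_le hO (inf_le_left : O ⊓ 𝐂[w] ≤ O)) (L72.odd3 hx)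
    (k0_inf xO (le_norm _ (mem_cent1_symm hw.2))) (g := q) ⟨m, mem_cent1.2 (by
      generalize hφ : w * q * w⁻¹ * q⁻¹ = φ at c1 c2
      have e1 : w * q = φ * q * w := by rw [← hφ]; group
      have e2 : x⁻¹ * w = w * x⁻¹ := (show Commute w x from c3).inv_right.eq.symm
      have e3 : w * q⁻¹ = q⁻¹ * φ⁻¹ * w := by rw [← hφ]; group
      calc x * q * x⁻¹ * q⁻¹ * w = x * q * x⁻¹ * q⁻¹ * φ * (φ⁻¹ * w) := by group
        _ = φ * x * q * x⁻¹ * (q⁻¹ * φ⁻¹ * w) := by rw [c1]; group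
        _ = x * (φ * q * w) * x⁻¹ * q⁻¹ := by rw [c2, ← e3, ← mul_assoc, mul_assoc _ x⁻¹, e2]; group
        _ = w * (x * q * x⁻¹ * q⁻¹) := by rw [← e1, ← mul_assoc x, ← c3]; group)⟩
  have := mem_cent1.1 (k0_cent h hO hx hw ⟨mul_mem hn.1 hq, mem_cent1.2 k⟩)
  rwa [← mul_assoc, ← mem_cent1.1 hn.2, mul_assoc, mul_assoc, mul_right_inj] at this

/-- Proof: otherwise `step` with `N₀ = C(O)` gives `w ∈ N ∖ C(O)` with `[w,O] ≤ N ⊓ C(O)`; apply `k0`. -/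
theorem k0n (h : Om8 G) (hO : IsPGroup 2 O) (hx : orderOf x = 3) (xO : x ∈ 𝐍(O)) (hN : Nml N O)
    (hc : N ≤ 𝐂[x]) : N ≤ 𝐂(O) := by
  by_contra e
  obtain ⟨w, hw, n, k⟩ := step hO hN (norm_cent (le_norm O)) e
  exact n (k0 h hO hx xO ⟨hN.le hw, hc hw⟩ (le_inf inf_le_right (inf_le_left.trans hc)) k)

/-- Proof: for `c` on the left use `L72.E9.gen` with `H := C(c)`: each `O ⊓ C(x)`, `x ∈ {a, b, ab, ab⁻¹}` (of order `3`) is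
abelian (`h.elem_cent`) and contains `c`. -/
theorem e9c (h : Om8 G) (hO : IsPGroup 2 O) (e : L72.E9 a b) (aO : a ∈ 𝐍(O)) (bO : b ∈ 𝐍(O)) :
    O ⊓ 𝐂[a] ⊓ 𝐂[b] ≤ 𝐂(O) := fun c hc =>
  le_cent1_iff.1 (k0_gen hO e aO bO (mem_cent1_symm hc.1.2) (mem_cent1_symm hc.2) fun _ hx o =>
    k0_cent h hO o ⟨hc.1.1, mem_cent1_symm hx⟩)

/-- Proof: induction on `|O|` over all ambient groups.  Let `c ≠ 1`.  If some `N ≠ 1`, `N ≤ O`, normalised by `O, a, b` has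
`c ∉ N`, pass to `BG.quo · N` (`Om8.surj`; `E9` survives as `N` is a `2`-group: `K3.ord_qhom` pattern).  Otherwise, with
`Z = Z(O)`: `[Z,⟨a⟩]` is such an `N` up to `≠ 1` (`[Z,a] ⊓ C(a) = 1`, coprime action on an abelian group, and `c ∈ C(a)`), so
`a` and likewise `b` centralise `Z`.  Let `Z₂ = {w ∈ O | [w,O] ≤ Z}` (normalised by `a, b`).  By `k0` (with `N := Z`)
`Z₂ ⊓ C(x) ≤ Z` for `x ∈ {a, b, ab, ab⁻¹}`, so `Z₂ ≤ Z` by `E9.gen`; by `step` (`N := O`, `N₀ := Z`) `O ≤ Z`, so `[O,O] = 1`. -/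
theorem e9ab (h : Om8 G) (hO : IsPGroup 2 O) (e : L72.E9 a b) (aO : a ∈ 𝐍(O)) (bO : b ∈ 𝐍(O))
    (hc : c ∈ ⁅O, O⁆) (h1 : c ∈ 𝐂(O)) (ha : c ∈ 𝐂[a]) (hb : c ∈ 𝐂[b]) : c = 1 := by
  induction hn : Nat.card O using Nat.strong_induction_on generalizing G with | _ n ih => ?_
  by_contra c1
  have cO := der_le O hc
  have n3 {N : Subgroup G} (hN : N ≤ O) {x} (o : orderOf x = 3) : x ∉ N := fun k =>
    L72.o3_ne o ((L72.t2_of hO (hN k)).one (by decide : Odd 3) (L72.o3_pow o))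
  have key {N : Subgroup G} (N1 : N ≠ ⊥) (hN : Nml N O) (aN : a ∈ 𝐍(N)) (bN : b ∈ 𝐍(N)) : c ∈ N := by
    have o {x} (xN : x ∈ 𝐍(N)) (o : orderOf x = 3) : orderOf (qhom N ⟨x, xN⟩) = 3 := orderOf_eq_prime
      (by rw [← map_pow, show (⟨x, xN⟩ : 𝐍(N)) ^ 3 = 1 from Subtype.ext (L72.o3_pow o), map_one])
      fun k => n3 hN.le o (k0_one.1 k)
    have cm {x y} (xN : x ∈ 𝐍(N)) (yN : y ∈ 𝐍(N)) (e : x * y = y * x) : Commute (qhom N ⟨x, xN⟩) (qhom N ⟨y, yN⟩) :=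
      (show Commute (⟨x, xN⟩ : 𝐍(N)) ⟨y, yN⟩ from Subtype.ext e).map _
    refine k0_one.1 (ih _ ?_ ((h.sub 𝐍(N)).surj (QuotientGroup.mk'_surjective _)) (pgroup_quo hO N)
      (a := qhom N ⟨a, aN⟩) (b := qhom N ⟨b, bN⟩) (c := qhom N ⟨c, hN.norm cO⟩) ⟨o aN e.ox, o bN e.oy, cm aN bN e.cm, fun k => ?_⟩
      (quo_norm (zpowers_le.2 aO) N ⟨⟨a, aN⟩, mem_zpowers a, rfl⟩) (quo_norm (zpowers_le.2 bO) N ⟨⟨b, bN⟩, mem_zpowers b, rfl⟩)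
      (quo_comm hN.norm hN.norm ▸ ⟨_, hc, rfl⟩) (quo_cent (zpowers_le.2 h1) N ⟨_, mem_zpowers c, rfl⟩)
      (mem_cent1.2 (cm _ aN (mem_cent1.1 ha))) (mem_cent1.2 (cm _ bN (mem_cent1.1 hb))) rfl)
    · rw [← hn, ← card_quo_mul hN]
      exact lt_mul_left Nat.card_pos (one_lt_card_iff_ne_bot _ |>.2 N1)
    · rcases L72.mem3 (o bN e.oy) k with k | k | k
      · exact n3 hN.le e.ox (k0_one.1 k)
      · rw [← mul_inv_eq_one, ← map_inv, ← map_mul] at k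
        exact n3 hN.le (k0_ord e).2 (k0_one.1 k)
      · rw [← mul_eq_one_iff_eq_inv, ← map_mul] at k
        exact n3 hN.le (k0_ord e).1 (k0_one.1 k)
  have nZ {g} (hg : g ∈ 𝐍(O)) : g ∈ 𝐍(𝐙(O)) := zpowers_le.1 (norm_center (zpowers_le.2 hg))
  have cZ {x} (o : orderOf x = 3) (xO : x ∈ 𝐍(O)) (xa : Commute a x) (xb : Commute b x) (xc : c ∈ 𝐂[x]) : x ∈ 𝐂(𝐙(O)) := by
    refine zpowers_le.1 (comm_eq_bot_iff'.1 (by_contra fun N1 => c1 ?_))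
    have l : ⁅𝐙(O), zpowers x⁆ ≤ 𝐙(O) := comm_le_left (zpowers_le.2 (nZ xO))
    have := key N1 ⟨l.trans inf_le_left, norm_of_cent (cent_symm (l.trans inf_le_right))⟩
      (zpowers_le.1 (norm_comm (zpowers_le.2 (nZ aO)) (zpowers_le.2 (L72.cent_zp xa))))
      (zpowers_le.1 (norm_comm (zpowers_le.2 (nZ bO)) (zpowers_le.2 (L72.cent_zp xb))))
    exact mem_bot.1 ((coprime_abelian_cent_dprod (zpowers_le.2 (nZ xO)) (L72.cop (pgroup_of_le hO inf_le_left) (L72.odd3 o))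
      (abelian_iff.2 (cent_mono (le_refl 𝐂(O)) inf_le_right inf_le_left))).inf.le ⟨this, ⟨cO, h1⟩, cent_zpowers x ▸ xc⟩)
  let Z₂ : Subgroup G :=
    { carrier := {w | w ∈ O ∧ ∀ q ∈ O, w * q * w⁻¹ * q⁻¹ ∈ 𝐙(O)}
      one_mem' := ⟨one_mem _, fun q _ => by simpa using one_mem _⟩
      mul_mem' := fun {u v} hu hv => ⟨mul_mem hu.1 hv.1, fun q hq => by
        convert mul_mem (conj_mem_of_norm (nZ (le_norm O hu.1)) (hv.2 q hq)) (hu.2 q hq) using 1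
        group⟩
      inv_mem' := fun {u} hu => ⟨inv_mem hu.1, fun q hq => by
        convert conj_mem_of_norm' (nZ (le_norm O hu.1)) (inv_mem (hu.2 q hq)) using 1
        group⟩ }
  have n2 {g} (hg : g ∈ 𝐍(O)) : g ∈ 𝐍(Z₂) := mem_normalizer_fintype fun w (hw : w ∈ Z₂) => ⟨conj_mem_of_norm hg hw.1, fun q hq => by
    convert conj_mem_of_norm (nZ hg) (hw.2 _ (conj_mem_of_norm' hg hq)) using 1
    group⟩
  have l : Z₂ ≤ 𝐙(O) := k0_gen (C := 𝐍(O) ⊓ 𝐂(𝐙(O))) (pgroup_of_le hO fun _ hw => hw.1) e (n2 aO) (n2 bO)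
    ⟨aO, cZ e.ox aO (.refl a) e.cm.symm ha⟩ ⟨bO, cZ e.oy bO e.cm (.refl b) hb⟩ fun x hx o w hw =>
      ⟨hw.1.1, k0 h hO o hx.1 ⟨hw.1.1, hw.2⟩ (le_inf inf_le_right (le_cent1_iff.2 hx.2)) hw.1.2⟩
  have l' : O ≤ 𝐙(O) := by_contra fun k =>
    let ⟨w, hw, n, k⟩ := step hO (Nml.refl O) (norm_center (le_norm O)) k
    n (l ⟨hw, fun q hq => (k q hq).2⟩)
  exact c1 (mem_bot.1 ((comm_eq_bot_iff.2 (l'.trans inf_le_right)).le hc))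

/-- Proof: if `[O,O] ≠ 1` then `exists_mem_oz_of_nml` gives `1 ≠ c ∈ [O,O] ⊓ Zo T`, contrary to `e9ab`.  So `O` is abelian,
`Zo O` (`mem_zo`) contains every `O ⊓ C(x)` (`h.elem_cent`), and `E9.gen` gives `O ≤ Zo O`. -/
theorem e9el (h : Om8 G) (hT : IsPGroup 2 T) (n : Nml O T) (e : L72.E9 a b) (aO : a ∈ 𝐍(O)) (bO : b ∈ 𝐍(O))
    (ha : Zo T ≤ 𝐂[a]) (hb : Zo T ≤ 𝐂[b]) : IsElementaryAbelian 2 O := by
  have hO := pgroup_of_le hT n.le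
  have ab : O ≤ 𝐂(O) := comm_eq_bot_iff.1 (by_contra fun k =>
    let ⟨c, hc, c1, z⟩ := exists_mem_oz_of_nml hT ⟨(der_le O).trans n.le, norm_der n.norm⟩ k
    c1 (e9ab h hO e aO bO hc (cent_anti n.le (mem_zo.1 z).2.1) (ha z) (hb z)))
  have l : O ≤ Zo O := k0_gen (C := ⊤) hO e aO bO trivial trivial fun x _ o w hw =>
    mem_zo.2 ⟨hw.1, ab hw.1, (sq w).symm.trans ((h.elem_cent hO o).2 w hw)⟩
  exact PGroup.elemAb_two_iff.2 fun y hy => (sq y).trans (mem_zo.1 (l hy)).2.2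

/-- Proof: a subgroup of order `9` (`Sylow.exists_subgroup_card_pow_prime`) is abelian of exponent `3` (`h.pow_odd`). -/
theorem exists_e9 (h : Om8 G) (h9 : 9 ∣ Nat.card H) : ∃ a ∈ H, ∃ b ∈ H, L72.E9 a b := by
  obtain ⟨K, hK⟩ := Sylow.exists_subgroup_card_pow_prime 3 (n := 2) h9
  rw [← card_map_of_injective H.subtype_injective] at hK
  have l := map_subtype_le K
  generalize K.map H.subtype = K at hK l
  have o {x} (hx : x ∈ K) (x1 : x ≠ 1) : orderOf x = 3 :=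
    orderOf_eq_prime (h.pow_odd Nat.prime_three (by decide) (.of_card hK) hx) x1
  obtain ⟨b, hb, b1⟩ := exists_ne_one (A := K) fun e => by simp [e] at hK
  obtain ⟨a, ha, n⟩ := SetLike.not_le_iff_exists.1 fun e : K ≤ zpowers b => by
    have := card_le_of_le e
    rw [hK, Nat.card_zpowers, o hb b1] at this
    omega
  exact ⟨a, l ha, b, l hb, o ha fun e => n (e ▸ one_mem _), o hb b1,
    congrArg Subtype.val ((IsPGroup.isMulCommutative_of_card_eq_prime_sq hK).1.1 ⟨a, ha⟩ ⟨b, hb⟩), n⟩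

end Cfsg.Lib.O8E
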