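import Cfsg.Agent.Lib.O8E.CZD

/-!
# Type `L₃(2)` with `|V| = 64`
-/

set_option autoImplicit false

namespace Cfsg.Lib.O8E

open Subgroup Cfsg.Lib Cfsg.Lib.BG Cfsg.Lib.Transfer Cfsg.Lib.PLocal Cfsg.Lib.Loc
open scoped commutatorElement

universe u v

variable {G : Type u} [Group G] [Finite G] {M Q S O₁ O₂ P₁ P₂ : Subgroup G} {y₁ y₂ : G}

theorem l64_nn {H O : Subgroup G} (l : L72.OQ H O) : 𝐍(H) ≤ 𝐍(O) :=
  le_antisymm (pcore_max_p l.pg l.nml) (l.mx _ (pcore_pgroup 2 H) (pcore_nml _ H)) ▸ norm_pcore le_rfl _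

variable (h : Om8 G) (lc : IsOfLocalCharacteristic 2 G) (b : Bs M Q S) (t : T7 M Q S O₁ O₂ P₁ P₂ y₁ y₂)
  (g : GD Q S O₂ P₁) (c : Nat.card (Zo Q) = 64)
include b t g c

/-- Proof: `|Zo O₂| = 16`; for `u ∈ S ∖ O₂` (`u² ∈ O₂`), `Zo S = Zo O₂ ⊓ C(u)` and `v ↦ [u,v]` maps `Zo O₂` into it, so `16 ≤ |Z|²`. -/
theorem l64z : 4 ≤ Nat.card (Zo S) := by
  have c16 : Nat.card (Zo O₂) = 16 := by have := g.c4; omega
  have s := t.toTD.swap.s3o b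
  obtain ⟨u, hu, u1⟩ := SetLike.not_le_iff_exists.1 fun k : S ≤ O₂ =>
    absurd (s.i2.symm.trans (relIndex_eq_one.2 k)) (by norm_num)
  have uu : u * u ∈ O₂ := mul_self_mem_of_index_two s.i2 ⟨u, hu⟩
  have uW : u ∈ 𝐍(Zo O₂) := normalizer_le_normalizer_oz O₂ (s.nml.norm (t.p₂.SP hu))
  have k : 𝐂[u] ⊓ Zo O₂ ≤ Zo S := fun w hw => mem_zo.2 ⟨s.OS (oz_le _ hw.2), by
    rw [← s.sup_eq (zpowers_le.2 hu) fun e => u1 (e (mem_zpowers u)), cent_sup, cent_zpowers]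
    exact ⟨oz_le_centralizer _ hw.2, hw.1⟩, (mem_zo.1 hw.2).2.2⟩
  have i := PGroup.relIndex_centralizer_singleton_le (S := Zo O₂) (M := Zo S) (x := u) fun w hw => by
    have m : u * w * u⁻¹ * w⁻¹ ∈ Zo O₂ := mul_mem (conj_mem_of_norm uW hw) (inv_mem hw)
    refine k ⟨mem_cent1.2 ?_, m⟩
    have e := mem_cent.1 (oz_le_centralizer _ hw) _ uu
    change u * w * u⁻¹ * w⁻¹ * u = u * (u * w * u⁻¹ * w⁻¹)
    calc _ = (u * w * u⁻¹ * w⁻¹)⁻¹ * u := by rw [← eq_inv_of_mul_eq_one_left (mem_zo.1 m).2.2]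
      _ = w * (u * u) * u⁻¹ * w⁻¹ := by group
      _ = _ := by rw [← e]; group
  have e := Core.card_inf_mul_relIndex 𝐂[u] (Zo O₂)
  have := Nat.mul_le_mul (card_le_of_le k) i
  rw [e, c16] at this
  nlinarith

include h lc

/-- Proof: `|V ⊓ C(y₁)| ≤ 8` (`yb₁`) and `≡ 64 mod 3`, so `≤ 4`; it contains `Zo S` (`z1`), so equals it (`l64z`).  Take `O` from `czd`.
`Jt O₁ = Jt Q`: members of `maxIn 2 O₁` lie in `maxIn 2 S` (`g.m`), hence in `Q` (`g.alt`, `t.swap.ne`).  So `N(O₁) ≤ N(Jt Q) ≤ M`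
(`mx`).  `O ⊓ N(O₁) ≤ O ⊓ M ⊓ C = O ⊓ P₁ = O₁` (`t.cm`), so `O = O₁`, `C = P₁`.  `N(S) ≤ N(C) ≤ N(O₁) ≤ M` (`O₁ = O₂(C)`: `mx`). -/
theorem l64a : 𝐂(Zo S) ≤ M ∧ 𝐍(S) ≤ M := by
  have le : Zo S ≤ Zo Q ⊓ 𝐂[y₁] :=
    le_inf (zo_le_zo b.QS (inf_le_right.trans b.cQ)) (le_cent1_iff.2 (g.z1 t.p₁.yP))
  have cy : Zo S = Zo Q ⊓ 𝐂[y₁] := eq_of_le_of_card_le le (le_trans (by
    have k1 := t.yb₁ _ (oz_le Q) b.nV
    have k2 := ffs_mod Nat.prime_three t.p₁.y3 (b.nV (t.PM t.p₁.yP))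
    have k3 := card_dvd (inf_le_left : Zo Q ⊓ 𝐂[y₁] ≤ _)
    rw [c] at k1 k2 k3
    generalize Nat.card ↥(Zo Q ⊓ 𝐂[y₁]) = n at k1 k2 k3
    have : n ≤ 8 := by nlinarith
    unfold Nat.ModEq at k2
    interval_cases n <;> omega) (l64z b t g c))
  obtain ⟨O, l, e1, e2⟩ := czd h lc b t.toTD g.z1 cy.ge g.nj
  obtain ⟨A, hA, AQ⟩ := g.m
  have j : Jt O₁ ≤ Q := thompsonSubgroupOf_le_iff.2 fun B hB =>
    (g.alt B (mem_maxIn_of_exists_le hA (AQ.trans t.p₁.QO) t.p₁.OS hB)).resolve_right fun e =>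
      t.toTD.swap.ne (e.ge.trans (sup_le hB.1 t.p₁.QO))
  have nO : 𝐍(O₁) ≤ M := (normalizer_le_normalizer_thompsonSubgroupOf (e := 2) O₁).trans (by
    rw [← thompsonSubgroupOf_eq_of_le j t.p₁.QO]
    exact b.mx _ (pgroup_of_le b.two (thompsonSubgroupOf_le Q)) (thompsonSubgroupOf_ne_bot (.inr rfl) b.two b.ne)
      (b.nQ.norm.trans (normalizer_le_normalizer_thompsonSubgroupOf Q)))
  have eO : O₁ = O := by_contra fun k => (nil_norm_grow (pgroup_nil l.pg) (lt_of_le_of_ne (e1.ge.trans inf_le_left) k)).not_ge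
    ((le_inf inf_le_left ((le_inf (inf_le_right.trans nO) (inf_le_left.trans l.nml.le)).trans
      (t.toTD.cm b h g.z1).le)).trans e1.le)
  subst eO
  exact ⟨l.nml.norm.trans nO, (norm_cent (normalizer_le_normalizer_oz S)).trans ((l64_nn l.toOQ).trans nO)⟩

theorem l64s {z : G} (hz : z ∈ Zo S) (z1 : z ≠ 1) : 𝐍(O₂) ⊓ 𝐂[z] ≤ S := by
  have nS : 𝐍(S) ≤ S := (le_inf (l64a h lc b t g c).2 le_rfl).trans t.nS
  have l := h.lo_cent lc (L72.t2_inv (mem_zo.1 hz).2.2).pg (ne_bot_of_mem (mem_zpowers z) z1)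
  rw [cent_zpowers] at l
  generalize pCoreOf 2 𝐂[z] = O at l
  have PC : P₁ ≤ 𝐂[z] := g.z1.trans (cent_le_cent1 hz)
  have SC := t.p₁.SP.trans PC
  have hS := (b.sylTop (l64a h lc b t g c).2).of_le SC le_top
  have OS := l.le_syl hS
  by_cases k : O ≤ O₂
  · have nO := PC.trans l.nml.norm
    have OQ : O ≤ Q := (t.toTD.irr b ((t.toTD.s3o b).mx O l.pg ⟨OS.trans t.p₁.SP, nO⟩) (nO t.p₁.yP)).resolve_right
      fun e => t.toTD.ne (e.ge.trans (sup_le k t.p₂.QO))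
    have VC : Zo Q ≤ 𝐂(O) := (oz_le_centralizer Q).trans (cent_anti OQ)
    have VO : Zo Q ≤ Zo O := le_oz (oz_elemAb Q) ((le_inf ((oz_le Q).trans (b.QS.trans SC)) VC).trans l.sc) VC
    have s := ffs h l hS (l.mx _ (pgroup_of_le b.two (inf_le_right.trans ((cent_anti VO).trans (b.cV h))))
      ⟨inf_le_left, norm_inf (le_norm _) (norm_cent (l.nml.norm.trans (normalizer_le_normalizer_oz O)))⟩)
      fun e => g.nj (e.trans OQ)
    have := relIndex_dvd_left OQ S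
    rw [t.idx8, s.i2] at this
    omega
  · refine le_trans ?_ nS
    rw [← (t.toTD.swap.s3o b).sup_eq OS k]
    exact norm_sup inf_le_left (inf_le_right.trans l.nml.norm)

/-- Proof: `S` is Sylow in `G`, `N(S) ≤ S` (`l64a`, `nS`).  (1) For `1 ≠ z ∈ Zo S`: `N(O₂) ⊓ C(z) ≤ S`.  Let `O_z = O₂(C(z)) ≤ S`
(`h.lo_cent` for `⟨z⟩`).  If `O_z ≰ O₂` then `S = O₂ ⊔ O_z` is normalised by `N(O₂) ⊓ C(z)`.  If `O_z ≤ O₂`: `O_z ⊴ P₁ ≤ C(z)`, so
`O_z ≤ O₁` and `O_z ≤ Q` (`t.irr`, `t.ne`); `V ≤ C(O_z)`, so `V ≤ Zo O_z`, `C(z) ⊓ C(Zo O_z) ≤ Q` is a normal `2`-subgroup, `≤ O_z`;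
`Jt S ≰ O_z`; `ffs` gives `|S : O_z| = 2`, but `|S : Q| = 8`.  (2) `H = N(O₂)` acts on the `15` involutions of `Zo O₂`; two different
`z, z' ∈ Zo S ∖ 1` have stabiliser `S`, and are not conjugate (`z^k = z'` gives `S^k ≤ S`, `k ∈ S`).  So `2 m ≤ 15`, `m = |H : S|`
is odd and divisible by `|P₂ : S| = 3`; `m = 3`, `H = P₂`. -/
theorem l64b : 𝐍(O₂) ≤ M := by
  have hS := b.sylTop (l64a h lc b t g c).2
  have nS : 𝐍(S) ≤ S := (le_inf (l64a h lc b t g c).2 le_rfl).trans t.nS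
  have PH := t.p₂.nO.norm
  have SH := t.p₂.SP.trans PH
  have ZW : Zo S ≤ Zo O₂ := t.toTD.swap.zle b
  have c16 : Nat.card (Zo O₂) = 16 := by have := g.c4; omega
  have key : ∀ z ∈ Zo S, ∀ z' ∈ Zo S, z' ≠ 1 → ∀ j ∈ 𝐍(O₂), j * z * j⁻¹ = z' → j ∈ S := fun z hz z' hz' z1 j hj e =>
    nS (norm_of_conj_eq (eq_of_le_of_card_le ((le_inf (conj_le_of_mem SH hj) (by
      rw [← e, ← conj_cent1]
      exact map_mono (le_cent1_iff.2 (oz_le_centralizer S hz)))).trans (l64s h lc b t g c hz' z1)) (card_conj j S).ge))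
  obtain ⟨z, hz, z1⟩ := exists_ne_one b.Z1
  obtain ⟨z', hz', z2⟩ := SetLike.not_le_iff_exists.1 fun k : Zo S ≤ zpowers z => by
    have := (l64z b t g c).trans (card_le_of_le k)
    rw [Nat.card_zpowers, orderOf_eq_prime (p := 2) (by rw [sq, (mem_zo.1 hz).2.2]) z1] at this
    omega
  let f : Bool → G := fun i => if i then z else z'
  have fZ : ∀ i, f i ∈ Zo S ∧ f i ≠ 1 := by
    rintro (_ | _)
    exacts [⟨hz', fun e : z' = 1 => z2 (e ▸ one_mem _)⟩, ⟨hz, z1⟩]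
  have fi : Function.Injective f := by
    have : z' ≠ z := fun e => z2 (e ▸ mem_zpowers _)
    rintro (_ | _) (_ | _) e
    exacts [rfl, (this e).elim, (this e.symm).elim, rfl]
  have i := Nat.card_le_card_of_injective (fun x : (𝐍(O₂) ⧸ S.subgroupOf 𝐍(O₂)) × Bool =>
    (⟨x.1.out * f x.2 * (x.1.out : G)⁻¹, conj_mem_of_norm (normalizer_le_normalizer_oz O₂ x.1.out.2) (ZW (fZ _).1)⟩ : Zo O₂))
    fun x y e => by
      have e : (x.1.out : G) * f x.2 * (x.1.out : G)⁻¹ = y.1.out * f y.2 * (y.1.out : G)⁻¹ := congrArg Subtype.val e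
      have e' : ((y.1.out : G)⁻¹ * x.1.out) * f x.2 * ((y.1.out : G)⁻¹ * x.1.out)⁻¹ = f y.2 := by
        calc _ = (y.1.out : G)⁻¹ * ((x.1.out : G) * f x.2 * (x.1.out : G)⁻¹) * y.1.out := by group
          _ = _ := by rw [e]; group
      have k := key _ (fZ _).1 _ (fZ _).1 (fZ _).2 _ (mul_mem (inv_mem y.1.out.2) x.1.out.2) e'
      refine Prod.ext ?_ (fi ?_)
      · rw [← x.1.out_eq', ← y.1.out_eq', eq_comm, QuotientGroup.eq]
        exact k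
      · rw [← e', mem_cent.1 (oz_le_centralizer S (fZ _).1) _ k, mul_inv_cancel_right]
  rw [Nat.card_prod, c16, Nat.card_eq_fintype_card (α := Bool), Fintype.card_bool] at i
  change S.relIndex 𝐍(O₂) * 2 ≤ 16 at i
  have o := Syl.not_dvd' (hS.of_le SH le_top)
  rw [← relIndex_mul_relIndex _ _ _ t.p₂.SP PH, t.p₂.i3] at i o
  exact (relIndex_eq_one.1 (by omega)).trans t.toTD.swap.PM

end Cfsg.Lib.O8E
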