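import Cfsg.Agent.Lib.O8E.TDa
import Cfsg.Agent.Lib.O8E.K0

/-!
# Type `L₃(2)` with `|V| = 8`: the natural module
-/

set_option autoImplicit false

namespace Cfsg.Lib.O8E

open Subgroup Cfsg.Lib Cfsg.Lib.BG Cfsg.Lib.Transfer Cfsg.Lib.PLocal Cfsg.Lib.Loc
open scoped commutatorElement

universe u v

variable {G : Type u} [Group G] [Finite G] {M Q S O₁ O₂ P₁ P₂ : Subgroup G} {y₁ y₂ : G}

/-- `P₁` is the stabiliser of the point `Zo S`, `P₂` of the line `Zo O₂`. -/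
structure P8 (Q S O₁ O₂ : Subgroup G) : Prop where
  c8 : Nat.card (Zo Q) = 8
  z1 : Zo O₁ ≤ Zo S
  c2 : Nat.card (Zo S) = 2
  c4 : Nat.card (Zo O₂) = 4

section Tools

variable {A B U W Z : Subgroup G} {f g x y z v : G}

omit [Finite G] in
theorem l8_zc (hx : x ∈ Zo U) (hy : y ∈ U) : y * x = x * y := (mem_zo.1 hx).2.1 y hy

omit [Finite G] in
theorem l8_z2 (hx : x ∈ Zo U) : x * x = 1 := (mem_zo.1 hx).2.2

theorem l8_pg (U : Subgroup G) : IsPGroup 2 (Zo U) := PGroup.elemAb_isPGroup (oz_elemAb U)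

omit [Finite G] in
theorem l8_two (c : Nat.card U = 2) (hz : z ∈ U) (z1 : z ≠ 1) (hx : x ∈ U) : x = 1 ∨ x = z :=
  have ⟨_, _, e⟩ := (Nat.card_eq_two_iff' (1 : U)).1 c
  or_iff_not_imp_left.2 fun x1 => congrArg Subtype.val ((e ⟨x, hx⟩ fun k => x1 (congrArg Subtype.val k)).trans
    (e ⟨z, hz⟩ fun k => z1 (congrArg Subtype.val k)).symm)

omit [Finite G] in
theorem l8_cz (c : Nat.card U = 2) (hz : z ∈ U) (z1 : z ≠ 1) (e : g * z * g⁻¹ = z) : g ∈ 𝐂(U) := mem_cent.2 fun x hx => by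
  rcases l8_two c hz z1 hx with rfl | rfl
  exacts [by simp, (mul_inv_eq_iff_eq_mul.1 e).symm]

theorem l8_key (h1 : Z ≤ A) (h2 : A ≤ W) (h3 : ¬ A ≤ Z) (z1 : Z ≠ ⊥) (c : Nat.card W ≤ 4) :
    Nat.card Z = 2 ∧ Nat.card A = 4 ∧ A = W := by
  obtain ⟨k, hk⟩ := card_dvd h1
  have a := card_le_of_le h2
  have a1 := card_ne_one z1
  have a2 : k ≠ 1 := fun e => h3 (eq_of_le_of_card_le h1 (by simp [hk, e])).ge
  have a3 : 0 < Nat.card A := Nat.card_pos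
  have a4 : 0 < Nat.card Z := Nat.card_pos
  have a5 : 2 ≤ k := by rcases k with _ | _ | k <;> omega
  have a6 : Nat.card Z = 2 := by have : 2 ≤ Nat.card Z := by omega
                                 nlinarith
  rw [a6] at hk
  exact ⟨a6, by omega, eq_of_le_of_card_le h2 (by omega)⟩

theorem l8_pow {r k : ℕ} (hr : r.Prime) (hf : orderOf f = r) (hk : ¬ r ∣ k) (e : f ^ k * z = z * f ^ k) : f * z = z * f :=
  mem_cent1.1 ((zpowers_le.2 (mem_cent1.2 e) : _ ≤ 𝐂[z]) (mem_zpowers_pow_iff.2 (by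
    rw [hf]; exact ((Nat.Prime.coprime_iff_not_dvd hr).2 hk).symm)))

theorem l8_inj {r i j : ℕ} (hr : r.Prime) (hf : orderOf f = r) (e : f * z ≠ z * f) (hi : i < r) (hj : j < r)
    (k : f ^ i * z * (f ^ i)⁻¹ = f ^ j * z * (f ^ j)⁻¹) : i = j := by
  wlog l : i ≤ j generalizing i j
  · exact (this hj hi k.symm (by omega)).symm
  obtain ⟨j, rfl⟩ := Nat.exists_eq_add_of_le l
  refine by_contra fun n => e (l8_pow hr hf (k := j) (fun d => by have := Nat.le_of_dvd (by omega) d; omega) ?_)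
  rw [pow_add, mul_inv_rev, ← mul_assoc, mul_left_inj, mul_assoc, mul_assoc, mul_right_inj, ← mul_assoc] at k
  exact mul_inv_eq_iff_eq_mul.1 k.symm

theorem l8_orb {r : ℕ} (hr : r.Prime) (hf : orderOf f = r) (n : f ∈ 𝐍(U)) (c : Nat.card U = r + 1) (hz : z ∈ U)
    (e : f * z ≠ z * f) (hv : v ∈ U) (v1 : v ≠ 1) : ∃ i < r, f ^ i * z * (f ^ i)⁻¹ = v := by
  have z1 (i : ℕ) : f ^ i * z * (f ^ i)⁻¹ ≠ 1 := fun k => e (by rw [conj_eq_one_iff.1 k, mul_one, one_mul])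
  let φ : Option (Fin r) → U := fun i => i.elim 1 fun i => ⟨_, conj_mem_of_norm (pow_mem n i) hz⟩
  have inj : Function.Injective φ := by
    rintro (_ | i) (_ | j) k
    exacts [rfl, (z1 j (congrArg Subtype.val k).symm).elim, (z1 i (congrArg Subtype.val k)).elim,
      congrArg _ (Fin.ext (l8_inj hr hf e i.2 j.2 (congrArg Subtype.val k)))]
  obtain ⟨_ | i, k⟩ := (inj.bijective_of_nat_card_le (by simp [c])).2 ⟨v, hv⟩
  exacts [(v1 (congrArg Subtype.val k).symm).elim, ⟨i, i.2, congrArg Subtype.val k⟩]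

/-- `{u ∈ A | [u, B] ≤ Z}` -/
def l8c (A B Z : Subgroup G) (h : A ≤ 𝐍(Z)) : Subgroup G where
  carrier := {u | u ∈ A ∧ ∀ b ∈ B, u * b * u⁻¹ * b⁻¹ ∈ Z}
  one_mem' := ⟨one_mem _, by simp⟩
  mul_mem' {u v} hu hv := ⟨mul_mem hu.1 hv.1, fun b hb => by
    convert mul_mem (conj_mem_of_norm (h hu.1) (hv.2 b hb)) (hu.2 b hb) using 1; group⟩
  inv_mem' {u} hu := ⟨inv_mem hu.1, fun b hb => by
    convert conj_mem_of_norm' (h hu.1) (inv_mem (hu.2 b hb)) using 1; group⟩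

theorem l8c_norm {h : A ≤ 𝐍(Z)} (hA : g ∈ 𝐍(A)) (hB : g ∈ 𝐍(B)) (hZ : g ∈ 𝐍(Z)) : g ∈ 𝐍(l8c A B Z h) :=
  mem_normalizer_fintype fun u hu => ⟨conj_mem_of_norm hA hu.1, fun b hb => by
    convert conj_mem_of_norm hZ (hu.2 _ (conj_mem_of_norm' hB hb)) using 1; group⟩

theorem l8_four (b : Bs M Q S) (d : Bd M Q S 2) (c : Nat.card (Zo Q) = 8) (hx : x ∈ S) (x1 : x ∉ Q)
    (x2 : x * x ∈ Q) : Nat.card ↥(Zo Q ⊓ 𝐂[x]) ≤ 4 := by
  have := d x hx x1 x2 _ (oz_le Q) b.nV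
  rw [c] at this
  exact not_lt.1 fun l => absurd ((Nat.pow_le_pow_left l _).trans this) (by norm_num)

end Tools
variable (h : Om8 G) (b : Bs M Q S) (t : T7 M Q S O₁ O₂ P₁ P₂ y₁ y₂)
include h b t

/-- Proof: `Z ≤ Vᵢ = Zo Oᵢ ≤ V ⊓ C(s)` (`t.exs`), of order `≤ 4` (`bd2`), `V₁ ⊓ V₂ = Z ≠ 1`.  Not both `Vᵢ = Z` (`t.triv`), not both
`Vᵢ > Z` (`|V₁V₂| ≥ 4 |Z|`). -/
theorem p8 (c : Nat.card (Zo Q) = 8) : P8 Q S O₁ O₂ ∨ P8 Q S O₂ O₁ := by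
  obtain ⟨s, s1, s2, s3⟩ := t.exs
  have c4 := l8_four b t.bd2 c (t.p₁.OS s1) s3 (t.p₁.sq s s1)
  have w1 : Zo O₁ ≤ Zo Q ⊓ 𝐂[s] := fun x hx => ⟨t.zV b hx, mem_cent1.2 (l8_zc hx s1).symm⟩
  have w2 : Zo O₂ ≤ Zo Q ⊓ 𝐂[s] := fun x hx => ⟨t.swap.zV b hx, mem_cent1.2 (l8_zc hx s2).symm⟩
  by_cases a1 : Zo O₁ ≤ Zo S <;> by_cases a2 : Zo O₂ ≤ Zo S
  · exact absurd (t.triv b h (l8_pg S) (norm_of_cent (t.z1 b a1)) (norm_of_cent (t.swap.z1 b a2))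
      (inf_le_left.trans (t.p₁.OS.trans (cent_symm (oz_le_centralizer S))))) b.Z1
  · have := l8_key (t.swap.zle b) w2 a2 b.Z1 c4
    exact .inl ⟨c, a1, this.1, this.2.1⟩
  · have := l8_key (t.zle b) w1 a1 b.Z1 c4
    exact .inr ⟨c, a2, this.1, this.2.1⟩
  · exact absurd ((le_inf le_rfl (w1.trans (l8_key (t.swap.zle b) w2 a2 b.Z1 c4).2.2.ge)).trans (t.zinf b)) a1

variable (p : P8 Q S O₁ O₂)
include p

omit h in
theorem P8.pz : P₁ ≤ 𝐂(Zo S) := t.z1 b p.z1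

omit h p in
theorem l8_ZV : Zo S ≤ Zo Q := (t.zle b).trans (t.zV b)
/-- (`yb₁` gives order `≤ 2`; `t.z1`.) -/
theorem P8.cy : Zo Q ⊓ 𝐂[y₁] ≤ Zo S := by
  have := t.yb₁ _ (oz_le Q) b.nV
  rw [p.c8] at this
  refine (eq_of_le_of_card_le (le_inf (l8_ZV b t) (le_cent1_iff.2 (p.pz b t t.p₁.yP))) ?_).ge
  rw [p.c2]
  exact not_lt.1 fun l => absurd ((Nat.pow_le_pow_left l _).trans this) (by norm_num)

/-- A `y₁`-invariant subgroup `Z < U ≤ V` is `V` (if `|U| = 4`, `y₁` fixes the coset `U ∖ Z` of size `2`, so centralises `U`). -/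
theorem P8.irr {U : Subgroup G} (h1 : Zo S ≤ U) (h2 : U ≤ Zo Q) (h3 : ¬ U ≤ Zo S) (n : y₁ ∈ 𝐍(U)) : U = Zo Q := by
  have : Fact (Nat.Prime 3) := ⟨Nat.prime_three⟩
  refine eq_of_le_of_card_le h2 (not_lt.1 fun l => ?_)
  have d := card_dvd h2
  rw [p.c8] at l d
  have c := (l8_key h1 le_rfl h3 b.Z1 (by
    have := Nat.card_pos (α := U)
    generalize Nat.card U = k at *
    interval_cases k <;> omega)).2.1
  have m := card_modEq_card_inf_centralizer (q := 3) (.of_card (n := 1) (by rw [Nat.card_zpowers, t.p₁.y3, pow_one]))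
    (zpowers_le.2 n)
  rw [cent_zpowers, le_antisymm ((inf_le_inf_right _ h2).trans (p.cy h b t))
    (le_inf h1 (le_cent1_iff.2 (p.pz b t t.p₁.yP))), c, p.c2] at m
  exact absurd m (by decide)

/-- Proof: `U = {v ∈ V | [O₁, v] ≤ Z}` is `y₁`-invariant and `> Z` (`step` with `P := Q ⊔ O₁ = O₁`, `N := V`); `P8.irr`. -/
theorem P8.vo {v a : G} (hv : v ∈ Zo Q) (ha : a ∈ O₁) : a * v * a⁻¹ * v⁻¹ ∈ Zo S := by
  have n : S ≤ 𝐍(Zo S) := norm_of_cent (cent_symm (oz_le_centralizer S))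
  have VO : Zo Q ≤ O₁ := (oz_le Q).trans t.p₁.QO
  obtain ⟨w, w1, w2, w3⟩ := step (pgroup_of_le b.twoS t.p₁.OS) ⟨VO, t.p₁.OS.trans (b.SM.trans b.nV)⟩ (t.p₁.OS.trans n)
    fun l => absurd (card_le_of_le l) (by rw [p.c8, p.c2]; norm_num)
  have e := p.irr h b t (U := l8c (Zo Q) O₁ (Zo S) (VO.trans (t.p₁.OS.trans n)))
    (fun z hz => ⟨l8_ZV b t hz, fun a ha => by simp [← l8_zc hz (t.p₁.OS ha)]⟩) (fun _ k => k.1)
    (fun l => w2 (l ⟨w1, fun q hq => (w3 q hq).2⟩))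
    (l8c_norm (b.nV (t.PM t.p₁.yP)) (t.p₁.nO.norm t.p₁.yP) (cent_le_norm _ (p.pz b t t.p₁.yP)))
  simpa [mul_assoc] using inv_mem ((e.ge hv).2 a ha)

/-- The powers of `f` permute the involutions of `V` regularly.  (`i ↦ f ^ i z f ^ -i` is injective on `range 7` by `h.fpf`.) -/
theorem P8.trans {f z v : G} (fM : f ∈ M) (hf : orderOf f = 7) (hz : z ∈ Zo Q) (z1 : z ≠ 1) (hv : v ∈ Zo Q) (v1 : v ≠ 1) :
    ∃ i < 7, f ^ i * z * (f ^ i)⁻¹ = v :=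
  l8_orb (by norm_num) hf (b.nV fM) p.c8 hz (fun e => z1 ((h.fpf (l8_pg Q) (.inr hf)).le ⟨hz, mem_cent1.2 e.symm⟩)) hv v1

/-- `y₂` permutes the three involutions of `Zo O₂` transitively (it does not centralise `Zo S`: `t.swap.supy`, `b.cen0`). -/
theorem P8.line {z v : G} (hz : z ∈ Zo S) (z1 : z ≠ 1) (hv : v ∈ Zo O₂) (v1 : v ≠ 1) :
    ∃ k ∈ P₂, k * z * k⁻¹ = v := by
  obtain ⟨i, -, e⟩ := l8_orb Nat.prime_three t.p₂.y3 (normalizer_le_normalizer_oz O₂ (t.p₂.nO.norm t.p₂.yP)) p.c4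
    (t.swap.zle b hz) (fun e => b.Z1 (t.triv b h (l8_pg S) (norm_of_cent (p.pz b t)) (norm_of_cent (t.swap.supy b ▸
      sup_le (cent_symm (oz_le_centralizer S)) (zpowers_le.2 (l8_cz p.c2 hz z1 (mul_inv_eq_of_eq_mul e)))))
      (inf_le_left.trans (t.p₁.OS.trans (cent_symm (oz_le_centralizer S)))))) hv v1
  exact ⟨_, pow_mem t.p₂.yP i, e⟩

/-- `Z(Q) = V`.  Proof: else some `u ∈ Z(Q) ∖ V` has `u² ∈ V ∖ 1`; conjugating (`trans`) `u² = z ∈ Zo S`; `y₁ u y₁⁻¹ u⁻¹ ∈ V` (its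
square is `1`), `L72.fixc` gives `v u ∈ C(y₁)` with `(v u)² = z ≠ 1`, against `h.elem_cent`. -/
theorem P8.zq : Q ⊓ 𝐂(Q) ≤ Zo Q := by
  have nZ : M ≤ 𝐍(Q ⊓ 𝐂(Q)) := norm_center b.nQ.norm
  have key {u : G} (hu : u ∈ Q ⊓ 𝐂(Q)) (e : u * u ∈ Zo Q) : u ∈ Zo Q := by
    refine mem_zo.2 ⟨hu.1, hu.2, by_contra fun u1 => ?_⟩
    obtain ⟨f, fM, hf⟩ := t.seven
    obtain ⟨z, hz, z1⟩ := exists_ne_one b.Z1
    obtain ⟨i, -, k⟩ := p.trans h b t fM hf (l8_ZV b t hz) z1 e u1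
    have hw := conj_mem_of_norm' (nZ (pow_mem fM i)) hu
    have w2 : (f ^ i)⁻¹ * u * f ^ i * ((f ^ i)⁻¹ * u * f ^ i) = z := by
      rw [show z = (f ^ i)⁻¹ * (u * u) * f ^ i by rw [← k]; group]; group
    generalize (f ^ i)⁻¹ * u * f ^ i = w at hw w2
    have hy := conj_mem_of_norm (nZ (t.PM t.p₁.yP)) hw
    have c := mul_mem hy (inv_mem hw)
    obtain ⟨n, hn, cm⟩ := L72.fixc (l8_pg Q) (L72.odd3 t.p₁.y3) (b.nV (t.PM t.p₁.yP)) (mem_zo.2 ⟨c.1, c.2, by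
      rw [mul_assoc (_ * _), ← mul_assoc w⁻¹, hy.2 _ (inv_mem hw.1), mul_assoc _ w⁻¹, ← mul_assoc (_ * _), conj_mul, w2, ← mul_inv_rev, w2,
        ← p.pz b t t.p₁.yP z hz, mul_inv_cancel_right, mul_inv_cancel]⟩)
    have := (PGroup.isElementaryAbelian_iff.1 (h.elem_cent b.two t.p₁.y3)).2 _ ⟨mul_mem (oz_le Q hn) hw.1, mem_cent1.2 cm⟩
    rw [sq, mul_assoc, ← mul_assoc w, l8_zc hn hw.1, mul_assoc, ← mul_assoc, l8_z2 hn, one_mul, w2] at this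
    exact z1 this
  intro u hu
  obtain ⟨k, e⟩ := L72.t2_of b.two hu.1
  have a := mul_mem hu hu
  have c := mul_mem a a
  exact key hu (key a (mem_zo.2 ⟨c.1, c.2, by simpa [pow_succ, mul_assoc] using h.pow_eight e⟩))

end Cfsg.Lib.O8E
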