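import Cfsg.Agent.Lib.O8E.F1b

/-!
# Four-groups in `H/O₂(H)` for solvable `H`
-/

set_option autoImplicit false

namespace Cfsg.Lib.O8E

open Subgroup Cfsg.Lib Cfsg.Lib.BG Cfsg.Lib.Transfer Cfsg.Lib.PLocal Cfsg.Lib.Loc
open scoped commutatorElement

universe u v

variable {G : Type u} [Group G] [Finite G] {H O T : Subgroup G} {a b : G}

/-- `a, b` generate a four-group modulo `O`. -/
structure Four (O : Subgroup G) (a b : G) : Prop where
  aa : a * a ∈ O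
  bb : b * b ∈ O
  ab : a * b * a⁻¹ * b⁻¹ ∈ O
  a1 : a ∉ O
  b1 : b ∉ O
  ab1 : a * b ∉ O

/-- A four-group `{1, e, f, ef}`. -/
structure V4 {X : Type*} [Group X] (e f : X) : Prop where
  ee : e * e = 1
  ff : f * f = 1
  cm : e * f = f * e
  e1 : e ≠ 1
  f1 : f ≠ 1
  ne : e ≠ f

/-- The facts on `X = H/O` that come from the action on `O`. -/
structure SX (X : Type*) [Group X] : Prop extends XQ X where
  p1 : ∀ e x y : X, e * e = 1 → L72.E9 x y → e * x = x * e → e * y = y * e → e = 1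
  p2 : ∀ x y u v w : X, L72.E9 x y → L72.T2 u → L72.T2 v → L72.T2 w → u * y = y * u → u * x * u⁻¹ = x⁻¹ →
    v * (x * y) = x * y * v → v * (x * y⁻¹) * v⁻¹ = (x * y⁻¹)⁻¹ →
    w * (x * y⁻¹) = x * y⁻¹ * w → w * (x * y) * w⁻¹ = (x * y)⁻¹ → False

section Quo

variable {X : Type v} [Group X] {e f g x y : X}

theorem V4.symm (v : V4 e f) : V4 f e := ⟨v.ff, v.ee, v.cm.symm, v.f1, v.e1, v.ne.symm⟩

theorem V4.mul (v : V4 e f) : V4 e (e * f) :=
  ⟨v.ee, by rw [mul_assoc, ← mul_assoc f, ← v.cm, mul_assoc, v.ff, mul_one, v.ee], by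
    rw [mul_assoc, ← v.cm], v.e1, fun h => v.ne (by rw [← mul_one e, ← v.ff, ← mul_assoc, h, one_mul]),
    fun h => v.f1 (by rw [← one_mul f, ← v.ee, mul_assoc, ← h, v.ee])⟩

theorem V4.eef (v : V4 e f) : e * (e * f) = f := by rw [← mul_assoc, v.ee, one_mul]

theorem V4.o2 (v : V4 e f) : orderOf e = 2 := orderOf_eq_prime (by rw [sq, v.ee]) v.e1

theorem V4.k4 [Finite X] (v : V4 e f) : IsKleinFour ↥(zpowers e ⊔ zpowers f) :=
  Inv.k4_sup v.o2 v.symm.o2 v.ne v.cm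

theorem V4.mem [Finite X] (v : V4 e f) : g ∈ zpowers e ⊔ zpowers f ↔ g = 1 ∨ g = e ∨ g = f ∨ g = e * f :=
  Inv.k4_mem_iff v.k4 (mem_sup_left (mem_zpowers e)) (mem_sup_right (mem_zpowers f)) v.e1 v.f1 v.ne

/-- A normal subgroup of odd order is generated by the centralisers of the three involutions. -/
theorem V4.gen [Finite X] (v : V4 e f) {p : ℕ} [Fact p.Prime] (h2 : p ≠ 2) {K : Subgroup X}
    (h1 : 𝐎({p}, (⊤ : Subgroup X)) ⊓ 𝐂[e] ≤ K) (h3 : 𝐎({p}, (⊤ : Subgroup X)) ⊓ 𝐂[f] ≤ K)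
    (h4 : 𝐎({p}, (⊤ : Subgroup X)) ⊓ 𝐂[e * f] ≤ K) : 𝐎({p}, (⊤ : Subgroup X)) ≤ K := by
  have k := v.k4
  refine coprime_abelian_gen_cent1 (A := zpowers e ⊔ zpowers f) ⟨⟨fun a b => Subtype.ext (Inv.k4_comm k a.2 b.2)⟩⟩
    IsKleinFour.not_isCyclic (le_top.trans (pcore_nml _ _).norm)
    (IsPGroup.coprime_card_of_ne 2 p h2.symm _ _ (Inv.k4_isPGroup k) (pcore_pgroup p _)) fun a ha a1 => ?_
  rcases v.mem.1 ha with rfl | rfl | rfl | rfl
  exacts [(a1 rfl).elim, h1, h3, h4]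

local notation "R₃" => 𝐎({3}, (⊤ : Subgroup X))

theorem r3_conj (g : X) (hx : x ∈ R₃) : g * x * g⁻¹ ∈ R₃ :=
  conj_mem_of_norm ((pcore_nml _ _).norm (mem_top g)) hx

namespace SX

variable [Finite X] (s : SX X)
include s

theorem o3 (hx : x ∈ R₃) (x1 : x ≠ 1) : orderOf x = 3 :=
  orderOf_eq_prime (s.om.pow_odd (by norm_num) (by norm_num) (pcore_pgroup 3 _) hx) x1

theorem big (v : V4 e f) {r : ℕ} (hr : r = 5 ∨ r = 7) : 𝐎({r}, (⊤ : Subgroup X)) = ⊥ := by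
  have p : r.Prime := by rcases hr with rfl | rfl <;> norm_num
  have := Fact.mk p
  have k : ∀ {e f : X}, V4 e f → 𝐎({r}, (⊤ : Subgroup X)) ⊓ 𝐂[e] ≤ ⊥ := fun {e f} v y hy => by_contra fun y1 =>
    v.e1 (s.om.big hr (orderOf_eq_prime (s.om.pow_odd p (by omega) (pcore_pgroup r _) hy.1) y1)
      (by rw [v.o2]; rcases hr with rfl | rfl <;> norm_num) (mem_cent1.1 hy.2).symm)
  exact eq_bot_iff.2 (v.gen (by omega) (k v) (k v.symm) (k v.mul.symm))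

theorem faith (v : V4 e f) (h : R₃ ≤ 𝐂[e]) : False := by
  have := s.o3 (s.toXQ.fit3 (s.big v (.inl rfl)) (s.big v (.inr rfl))
    (mem_cent.2 fun y hy => mem_cent1.1 (h hy))) v.e1
  rw [v.o2] at this
  omega

theorem cyc (ee : e * e = 1) (e1 : e ≠ 1) (hx : x ∈ R₃) (x1 : x ≠ 1) (ex : e * x = x * e) :
    R₃ ⊓ 𝐂[e] = zpowers x := by
  obtain ⟨k, hk⟩ := IsPGroup.iff_card.1 ((pcore_pgroup 3 (⊤ : Subgroup X)).to_le (inf_le_left (b := 𝐂[e])))
  have h9 : ¬ 9 ∣ Nat.card ↥(R₃ ⊓ 𝐂[e]) := fun h => by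
    obtain ⟨a, ha, b, hb, e9⟩ := exists_e9 s.om h
    exact e1 (s.p1 e a b ee e9 (mem_cent1.1 ha.2).symm (mem_cent1.1 hb.2).symm)
  refine (eq_of_le_of_card_ge (zpowers_le.2 (mem_inf.2 ⟨hx, mem_cent1.2 ex.symm⟩)) ?_).symm
  rw [Nat.card_zpowers, s.o3 hx x1, hk]
  rw [hk] at h9
  exact (Nat.pow_le_pow_right (by norm_num) (show k ≤ 1 from by_contra fun h =>
    h9 (pow_dvd_pow 3 (show 2 ≤ k by omega)))).trans (by norm_num)

theorem fix (v : V4 e f) (hx : x ∈ R₃) (ex : e * x = x * e) (fx : f * x = x * f) : x = 1 := by_contra fun x1 => by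
  have h : zpowers x ≤ 𝐂[e] := zpowers_le.2 (mem_cent1.2 ex.symm)
  exact s.faith v (v.gen (by norm_num) inf_le_right ((s.cyc v.ff v.f1 hx x1 fx).trans_le h)
    ((s.cyc v.mul.ff v.mul.f1 hx x1 (by rw [mul_assoc, fx, ← mul_assoc, ex, mul_assoc])).trans_le h))

theorem two (v : V4 e f) (h1 : R₃ ⊓ 𝐂[f] = ⊥) (h2 : R₃ ⊓ 𝐂[e * f] = ⊥) : False :=
  s.faith v (v.gen (by norm_num) inf_le_right (h1.trans_le bot_le) (h2.trans_le bot_le))

/-- An element commuting with `e` fixes or inverts the elements of `R ⊓ C(e)`. -/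
theorem pm (ee : e * e = 1) (e1 : e ≠ 1) (hx : x ∈ R₃) (x1 : x ≠ 1) (ex : e * x = x * e) (ge : g * e = e * g) :
    g * x = x * g ∨ g * x * g⁻¹ = x⁻¹ := by
  have h : g * x * g⁻¹ ∈ zpowers x := s.cyc ee e1 hx x1 ex ▸ ⟨r3_conj g hx, mem_cent1.2 (by
    have c : Commute g e := ge
    exact ((c.mul_left (show Commute x e from ex.symm)).mul_left c.inv_left))⟩
  rcases L72.mem3 (s.o3 hx x1) h with h | h | h
  exacts [(Inv.conj_ne_one x1 h).elim, .inl (mul_inv_eq_iff_eq_mul.1 h), .inr h]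

theorem inv (v : V4 e f) (hx : x ∈ R₃) (x1 : x ≠ 1) (ex : e * x = x * e) : f * x * f⁻¹ = x⁻¹ :=
  (s.pm v.ee v.e1 hx x1 ex v.cm.symm).resolve_left fun h => x1 (s.fix v hx ex h)

theorem sq {P : Subgroup X} (hP : IsPGroup 2 P) (hg : g ∈ P) (hx : x ∈ R₃) (x1 : x ≠ 1) (gx : g * x = x * g) :
    g * g = 1 := by
  rw [← _root_.sq]
  exact PGroup.elemAb_two_iff.1 (s.om.elem_cent hP (s.o3 hx x1)) g ⟨hg, mem_cent1.2 gx⟩

omit [Finite X] s in
theorem mul_fix (h1 : g * x * g⁻¹ = x⁻¹) (h2 : e * x * e⁻¹ = x⁻¹) : g * e * x = x * (g * e) := by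
  refine mul_inv_eq_iff_eq_mul.1 ?_
  calc g * e * x * (g * e)⁻¹ = g * (e * x * e⁻¹) * g⁻¹ := by group
    _ = (g * x * g⁻¹)⁻¹ := by rw [h2]; group
    _ = x := by rw [h1, inv_inv]

/-- The case in which `g` centralises the four-group. -/
theorem caseA {P : Subgroup X} (hP : IsPGroup 2 P) (v : V4 e f) (eP : e ∈ P) (fP : f ∈ P) (gP : g ∈ P)
    (gE : g ∉ zpowers e ⊔ zpowers f) (ge : g * e = e * g) (gf : g * f = f * g)
    (h1 : R₃ ⊓ 𝐂[e] ≠ ⊥) (h2 : R₃ ⊓ 𝐂[f] ≠ ⊥) : False := by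
  obtain ⟨⟨x, hx, ex⟩, x1⟩ := ne_bot_iff_exists_ne_one.1 h1
  obtain ⟨⟨y, hy, fy⟩, y1⟩ := ne_bot_iff_exists_ne_one.1 h2
  replace x1 : x ≠ 1 := fun h => x1 (Subtype.ext h)
  replace y1 : y ≠ 1 := fun h => y1 (Subtype.ext h)
  replace ex : e * x = x * e := (mem_cent1.1 ex).symm
  replace fy : f * y = y * f := (mem_cent1.1 fy).symm
  have fx := s.inv v hx x1 ex
  have ey := s.inv v.symm hy y1 fy
  have me : e ∈ zpowers e ⊔ zpowers f := mem_sup_left (mem_zpowers e)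
  have mf : f ∈ zpowers e ⊔ zpowers f := mem_sup_right (mem_zpowers f)
  -- first make `g` centralise `x`
  have k : ∀ g, g ∈ P → g ∉ zpowers e ⊔ zpowers f → g * x = x * g → g * y = y * g → False := fun g gP gE gx gy => by
    have hm : y ∈ zpowers x := s.cyc (s.sq hP gP hx x1 gx) (fun h => gE (h ▸ one_mem _)) hx x1 gx ▸
      ⟨hy, mem_cent1.2 gy.symm⟩
    exact y1 (s.fix v hy (mem_cent1.1 ((zpowers_le.2 (mem_cent1.2 ex.symm) : zpowers x ≤ 𝐂[e]) hm)).symm fy)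
  have k2 : ∀ g, g ∈ P → g ∉ zpowers e ⊔ zpowers f → g * f = f * g → g * x = x * g → False := fun g gP gE gf gx => by
    rcases s.pm v.ff v.f1 hy y1 fy gf with h | h
    · exact k g gP gE gx h
    · exact k (g * e) (mul_mem gP eP) (fun h => gE ((mul_mem_cancel_right me).1 h))
        (by rw [mul_assoc, ex, ← mul_assoc, gx, mul_assoc]) (mul_fix h ey)
  rcases s.pm v.ee v.e1 hx x1 ex ge with h | h
  · exact k2 g gP gE gf h
  · exact k2 (g * f) (mul_mem gP fP) (fun h => gE ((mul_mem_cancel_right mf).1 h))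
      (by rw [← mul_assoc, ← gf]) (mul_fix h fx)

/-- The case in which the involution `g` swaps `e` and `f` and `ef` inverts `R`. -/
theorem caseC (v : V4 e f) (gg : g * g = 1) (ge : g * e * g⁻¹ = f) (gf : g * f * g⁻¹ = e)
    (h3 : R₃ ⊓ 𝐂[e * f] = ⊥) : False := by
  have iv : ∀ {z : X}, z ∈ R₃ → e * f * z * (e * f)⁻¹ = z⁻¹ := fun hz =>
    inverts_of_cent1_eq_bot v.mul.ff ((pcore_nml _ _).norm (mem_top _)) h3 hz
  have h1 : R₃ ⊓ 𝐂[e] ≠ ⊥ := fun h => s.two v.symm h (v.cm ▸ h3)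
  obtain ⟨⟨x, hx, ex⟩, x1⟩ := ne_bot_iff_exists_ne_one.1 h1
  replace x1 : x ≠ 1 := fun h => x1 (Subtype.ext h)
  replace ex : e * x = x * e := (mem_cent1.1 ex).symm
  obtain ⟨y, gx⟩ : ∃ y, g * x * g⁻¹ = y := ⟨_, rfl⟩
  have hy : y ∈ R₃ := gx ▸ r3_conj g hx
  have y1 : y ≠ 1 := gx ▸ Inv.conj_ne_one x1
  have gi : g⁻¹ = g := inv_eq_of_mul_eq_one_right gg
  have gy : g * y * g⁻¹ = x := by
    rw [← gx, gi]
    calc g * (g * x * g) * g = g * g * x * (g * g) := by group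
      _ = x := by rw [gg, one_mul, mul_one]
  have fy : f * y = y * f := by
    rw [← gx, ← ge]
    calc g * e * g⁻¹ * (g * x * g⁻¹) = g * (e * x) * g⁻¹ := by group
      _ = g * x * g⁻¹ * (g * e * g⁻¹) := by rw [ex]; group
  have cm : x * y = y * x := by
    have := iv (mul_mem hx hy)
    rw [← conj_mul, iv hx, iv hy, ← mul_inv_rev] at this
    exact (inv_injective this).symm
  have c : Commute x y := cm
  have g1 : g * (x * y) * g⁻¹ = x * y := by rw [← conj_mul, gx, gy, cm]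
  have g2 : g * (x * y⁻¹) * g⁻¹ = (x * y⁻¹)⁻¹ := by rw [← conj_mul, ← conj_inv, gx, gy, mul_inv_rev, inv_inv]
  have gc : g * (e * f) = e * f * g := by
    refine mul_inv_eq_iff_eq_mul.1 ?_
    rw [← conj_mul, ge, gf, v.cm]
  refine s.p2 x y f g (g * (e * f)) ⟨s.o3 hx x1, s.o3 hy y1, cm, fun h => x1 (s.fix v hx ex
    (mem_cent1.1 ((zpowers_le.2 (mem_cent1.2 fy.symm) : zpowers y ≤ 𝐂[f]) h)).symm)⟩ (L72.t2_inv v.ff)
    (L72.t2_inv gg) (L72.t2_inv ?_) fy (s.inv v hx x1 ex) (mul_inv_eq_iff_eq_mul.1 g1) g2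
    (mul_fix g2 (iv (mul_mem hx (inv_mem hy)))) ?_
  · calc g * (e * f) * (g * (e * f)) = g * (e * f * g) * (e * f) := by group
      _ = g * g * (e * f * (e * f)) := by rw [← gc]; group
      _ = 1 := by rw [gg, v.mul.ff, mul_one]
  · calc g * (e * f) * (x * y) * (g * (e * f))⁻¹ = g * (e * f * (x * y) * (e * f)⁻¹) * g⁻¹ := by group
      _ = (g * (x * y) * g⁻¹)⁻¹ := by rw [iv (mul_mem hx hy)]; group
      _ = (x * y)⁻¹ := by rw [g1]

/-- The case in which `g` swaps `e` and `f`. -/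
theorem caseB {P : Subgroup X} (hP : IsPGroup 2 P) (v : V4 e f) (eP : e ∈ P) (gP : g ∈ P)
    (gE : g ∉ zpowers e ⊔ zpowers f) (gg : g * g ∈ zpowers e ⊔ zpowers f) (ge : g * e * g⁻¹ = f)
    (gf : g * f * g⁻¹ = e) : False := by
  have me : e ∈ zpowers e ⊔ zpowers f := mem_sup_left (mem_zpowers e)
  have mef : e * f ∈ zpowers e ⊔ zpowers f := mul_mem me (mem_sup_right (mem_zpowers f))
  have gc : g * (e * f) = e * f * g := by
    refine mul_inv_eq_iff_eq_mul.1 ?_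
    rw [← conj_mul, ge, gf, v.cm]
  by_cases h3 : R₃ ⊓ 𝐂[e * f] = ⊥
  · have hc : ∀ {z : X}, g * g = z → g * z * g⁻¹ = z := fun h => by rw [← h]; group
    rcases v.mem.1 gg with h | h | h | h
    · exact s.caseC v h ge gf h3
    · exact v.ne ((hc h).symm.trans ge)
    · exact v.ne (gf.symm.trans (hc h))
    · refine s.caseC (g := g * e) v ?_ ?_ ?_ h3
      · calc g * e * (g * e) = g * e * g⁻¹ * (g * g) * e := by group
          _ = f * (f * e) * e := by rw [ge, h, v.cm]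
          _ = 1 := by rw [v.symm.eef, v.ee]
      · rw [← ge]; group
      · calc g * e * f * (g * e)⁻¹ = g * (e * f) * e⁻¹ * g⁻¹ := by group
          _ = e := by rw [v.cm, ← gf]; group
  obtain ⟨⟨z, hz, ez⟩, z1⟩ := ne_bot_iff_exists_ne_one.1 h3
  replace z1 : z ≠ 1 := fun h => z1 (Subtype.ext h)
  replace ez : e * f * z = z * (e * f) := (mem_cent1.1 ez).symm
  have k : ∀ g, g ∈ P → g ∉ zpowers e ⊔ zpowers f → g * (e * f) = e * f * g → g * z = z * g → False :=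
    fun g gP gE gc gz => z1 (s.fix ⟨s.sq hP gP hz z1 gz, v.mul.ff, gc, fun h => gE (h ▸ one_mem _), v.mul.f1,
      fun h => gE (h ▸ mef)⟩ hz gz ez)
  rcases s.pm v.mul.ff v.mul.f1 hz z1 ez gc with h | h
  · exact k g gP gE gc h
  · exact k (g * e) (mul_mem gP eP) (fun h => gE ((mul_mem_cancel_right me).1 h))
      (by rw [mul_assoc, v.mul.cm, ← mul_assoc, gc, mul_assoc]) (mul_fix h (s.inv v.mul.symm hz z1 ez))

/-- A four-group of `X` is a maximal `2`-subgroup. -/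
theorem max {P : Subgroup X} (hP : IsPGroup 2 P) (v : V4 e f) (eP : e ∈ P) (fP : f ∈ P) :
    zpowers e ⊔ zpowers f = P := by
  refine (sup_le (zpowers_le.2 eP) (zpowers_le.2 fP)).eq_or_lt.resolve_right fun h => ?_
  obtain ⟨g, gP, gE, gg, gn⟩ := PGroup.exists_mem_normalizer_of_lt hP h
  rw [_root_.sq] at gg
  have me : e ∈ zpowers e ⊔ zpowers f := mem_sup_left (mem_zpowers e)
  have mf : f ∈ zpowers e ⊔ zpowers f := mem_sup_right (mem_zpowers f)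
  have E1 : zpowers e ⊔ zpowers (e * f) = zpowers e ⊔ zpowers f :=
    (Inv.k4_eq_sup v.k4 me (mul_mem me mf) v.e1 v.mul.f1 v.mul.ne).symm
  have E2 : zpowers f ⊔ zpowers (e * f) = zpowers e ⊔ zpowers f :=
    (Inv.k4_eq_sup v.k4 mf (mul_mem me mf) v.f1 v.mul.f1 (v.cm ▸ v.symm.mul.ne)).symm
  have w : V4 f (e * f) := v.cm ▸ v.symm.mul
  have back : ∀ {a b : X}, a ∈ zpowers e ⊔ zpowers f → g * a * g⁻¹ = b → g * b * g⁻¹ = a := fun {a b} ha h => by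
    rw [← h]
    calc g * (g * a * g⁻¹) * g⁻¹ = g * g * a * (g * g)⁻¹ := by group
      _ = a := by rw [Inv.k4_comm v.k4 gg ha]; group
  rcases v.mem.1 (conj_mem_of_norm gn me) with h1 | h1 | h1 | h1
  · exact Inv.conj_ne_one v.e1 h1
  · rcases v.mem.1 (conj_mem_of_norm gn mf) with h2 | h2 | h2 | h2
    · exact Inv.conj_ne_one v.f1 h2
    · exact v.ne ((MulAut.conj g).injective (h1.trans h2.symm))
    · have ge := mul_inv_eq_iff_eq_mul.1 h1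
      have gf := mul_inv_eq_iff_eq_mul.1 h2
      have gc : g * (e * f) = e * f * g := by rw [← mul_assoc, ge, mul_assoc, gf, mul_assoc]
      by_cases a1 : R₃ ⊓ 𝐂[e] = ⊥
      · exact s.caseA hP w fP (mul_mem eP fP) gP (E2 ▸ gE) gf gc
          (fun h => s.two v.mul.symm a1 (by rwa [← v.mul.cm, v.eef])) (fun h => s.two v.symm a1 (v.cm ▸ h))
      · by_cases a2 : R₃ ⊓ 𝐂[f] = ⊥
        · exact s.caseA hP v.mul eP (mul_mem eP fP) gP (E1 ▸ gE) ge gc a1 (s.two v a2)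
        · exact s.caseA hP v eP fP gP gE ge gf a1 a2
    · exact s.caseB hP w fP gP (E2 ▸ gE) (E2 ▸ gg) h2 (back mf h2)
  · exact s.caseB hP v eP gP gE gg h1 (back me h1)
  · exact s.caseB hP v.mul eP gP (E1 ▸ gE) (E1 ▸ gg) h1 (back me h1)

end SX

variable {π : H →* X}

omit [Finite G] in
theorem Ov.t2 (o : Ov H O π) (hO : IsPGroup 2 O) {u : H} (hu : L72.T2 (π u)) : L72.T2 (u : G) := by
  obtain ⟨k, e⟩ := hu
  obtain ⟨j, e'⟩ := L72.t2_of hO ((o.ker (u ^ 2 ^ k)).1 (by rw [map_pow, e]))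
  exact ⟨k + j, by rw [pow_add, pow_mul]; exact e'⟩

omit [Finite G] in
theorem Ov.cm (o : Ov H O π) {u x : H} (e : π u * π x = π x * π u) : (u : G) * x * (u : G)⁻¹ * (x : G)⁻¹ ∈ O :=
  (o.ker (u * x * u⁻¹ * x⁻¹)).1 (by simp only [map_mul, map_inv]; rw [e]; group)

omit [Finite G] in
theorem Ov.iv (o : Ov H O π) {u x : H} (e : π u * π x * (π u)⁻¹ = (π x)⁻¹) : (u : G) * x * (u : G)⁻¹ * x ∈ O :=
  (o.ker (u * x * u⁻¹ * x)).1 (by simp only [map_mul, map_inv]; rw [e]; group)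

omit [Finite G] in
theorem e9_mul {x y : G} (e : L72.E9 x y) : orderOf (x * y) = 3 ∧ orderOf (x * y⁻¹) = 3 :=
  ⟨orderOf_eq_prime (by rw [e.cm.mul_pow, L72.o3_pow e.ox, L72.o3_pow e.oy, mul_one])
    fun h => e.n (by rw [eq_inv_of_mul_eq_one_left h]; exact inv_mem (mem_zpowers y)),
   orderOf_eq_prime (by rw [e.cm.inv_right.mul_pow, L72.o3_pow e.ox, inv_pow, L72.o3_pow e.oy, inv_one, mul_one])
    fun h => e.n (by rw [mul_inv_eq_one.1 h]; exact mem_zpowers y)⟩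

theorem Ov.sx (h : Om8 G) (l : Lo H O) (o : Ov H O π) (q : XQ X) : SX X := by
  refine ⟨q, fun e x y ee e0 ex ey => ?_, fun x y u v w e0 hu hv hw uy ux v1 v2 w1 w2 => ?_⟩
  · obtain ⟨x, y, rfl, rfl, e9⟩ := o.lift_e9 l.pg e0
    obtain ⟨e, rfl⟩ := o.surj e
    exact (o.ker e).2 (p1 h l.toOQ e9 x.2 y.2 e.2 (o.t2 l.pg (L72.t2_inv ee)) (o.cm ex) (o.cm ey))
  · obtain ⟨x, y, rfl, rfl, e9⟩ := o.lift_e9 l.pg e0
    obtain ⟨u, rfl⟩ := o.surj u
    obtain ⟨v, rfl⟩ := o.surj v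
    obtain ⟨w, rfl⟩ := o.surj w
    have n : ∀ z : H, (z : G) ∈ 𝐍(O) := fun z => l.nml.norm z.2
    obtain ⟨o1, o2⟩ := e9_mul e9
    rw [← map_inv, ← map_mul] at v2 w1
    rw [← map_mul] at v1 w2
    have c : Commute ((x : G) * y) (x * (y : G)⁻¹) :=
      ((Commute.refl _).mul_right e9.cm.inv_right).mul_left (e9.cm.symm.mul_right (Commute.refl _).inv_right)
    have k : 𝐂[(x : G) * y] ⊓ 𝐂[(x : G) * (y : G)⁻¹] ≤ 𝐂[(x : G)] := fun z hz => by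
      have c1 : Commute z ((x : G) * y * (x * (y : G)⁻¹)) :=
        (show Commute z _ from mem_cent1.1 hz.1).mul_right (mem_cent1.1 hz.2)
      have e : (x : G) * y * (x * (y : G)⁻¹) = (x : G)⁻¹ := by
        rw [← L72.o3_sq (L72.o3_pow e9.ox), mul_assoc, ← mul_assoc (y : G), ← e9.cm.eq]; group
      rw [e] at c1
      exact mem_cent1.2 (Commute.inv_right_iff.1 c1)
    have r1 : O ⊓ 𝐂[(y : G)] ≤ 𝐂[(x : G)] :=
      refl3 h l.pg e9.oy e9.ox e9.cm.symm.eq (n y) (n x) (n u) (o.t2 l.pg hu) (o.cm uy) (o.iv ux)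
    have r2 : O ⊓ 𝐂[(x : G) * y] ≤ 𝐂[(x : G) * (y : G)⁻¹] :=
      refl3 h l.pg o1 o2 c.eq (n (x * y)) (n (x * y⁻¹)) (n v) (o.t2 l.pg hv) (o.cm v1) (o.iv v2)
    have r3 : O ⊓ 𝐂[(x : G) * (y : G)⁻¹] ≤ 𝐂[(x : G) * y] :=
      refl3 h l.pg o2 o1 c.symm.eq (n (x * y⁻¹)) (n (x * y)) (n w) (o.t2 l.pg hw) (o.cm w1) (o.iv w2)
    have r := e9.gen l.pg (n x) (n y) inf_le_right r1 ((le_inf inf_le_right r2).trans k)
      ((le_inf r3 inf_le_right).trans k)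
    exact l.toOQ.odd x.2 (mem_cent.2 fun z hz => mem_cent1.1 (r hz)) (.inl e9.ox)

omit [Finite G] in
theorem Ov.v4 (o : Ov H O π) (aH : a ∈ H) (bH : b ∈ H) (f : Four O a b) : V4 (π ⟨a, aH⟩) (π ⟨b, bH⟩) := by
  have bb : π ⟨b, bH⟩ * π ⟨b, bH⟩ = 1 := by rw [← map_mul]; exact (o.ker _).2 f.bb
  refine ⟨by rw [← map_mul]; exact (o.ker _).2 f.aa, bb, ?_, fun h => f.a1 ((o.ker _).1 h),
    fun h => f.b1 ((o.ker _).1 h), fun h => f.ab1 ((o.ker (⟨a, aH⟩ * ⟨b, bH⟩)).1 (by rw [map_mul, h, bb]))⟩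
  have := (o.ker (⟨a, aH⟩ * ⟨b, bH⟩ * ⟨a, aH⟩⁻¹ * ⟨b, bH⟩⁻¹)).2 f.ab
  simp only [map_mul, map_inv] at this
  exact mul_inv_eq_iff_eq_mul.1 (mul_inv_eq_one.1 this)

end Quo

/-! Common setting.  `X` as in `l.quot`, `E = {1, e₁, e₂, e₃}` a four-group of `X`, `R = O₃(X)` (exponent `3`).
(1) `O₅(X) = O₇(X) = 1`: a nontrivial odd `E`-invariant group is generated by the `C(eᵢ)` (`coprime_abelian_gen_cent1`), and an
involution of `X` centralises no element of order `5, 7` (`q.om.big`).  So `C(R) ≤ R` (`XQ.fit3`), `E` is faithful on `R`.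
(2) `|R ⊓ C(e)| ≤ 3` for each involution `e` of `X`: else it contains an `E9` (`exists_e9`), lift it (`Ov.lift_e9`) and use `p1`.
(3) `Rᵢ = R ⊓ C(eᵢ)` generate `R`.  At least two different `Rᵢ` are nontrivial and `R ⊓ C(E) = 1`: otherwise `|R| ≤ 3`, and one of
`e₁, e₂, e₁e₂` centralises `R`.  This holds for every four-group of `X`. -/

/-- Proof: take `1 ≠ x̄ ∈ Rᵢ`; `E` normalises `Rᵢ = ⟨x̄⟩` and does not centralise it by (3), so some `e_j` inverts `x̄`; lift `x̄`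
with `Ov.lift_odd`. -/
theorem e4x (h : Om8 G) (l : Lo H O) (aH : a ∈ H) (bH : b ∈ H) (f : Four O a b) :
    ∃ x ∈ H, orderOf x = 3 ∧ ∃ e ∈ ({a, b, a * b} : Set G), ∃ c ∈ ({a, b, a * b} : Set G),
      e * x * e⁻¹ * x⁻¹ ∈ O ∧ c * x * c⁻¹ * x ∈ O := by
  obtain ⟨X, _, _, π, o, q⟩ := l.quot h
  have s := o.sx h l q
  have v := o.v4 aH bH f
  have k : ∀ e c : H, V4 (π e) (π c) → 𝐎({3}, (⊤ : Subgroup X)) ⊓ 𝐂[π e] ≠ ⊥ → ∃ x ∈ H, orderOf x = 3 ∧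
      e * x * (e : G)⁻¹ * x⁻¹ ∈ O ∧ c * x * (c : G)⁻¹ * x ∈ O := fun e c v h1 => by
    obtain ⟨⟨x, hx, ex⟩, x1⟩ := ne_bot_iff_exists_ne_one.1 h1
    replace x1 : x ≠ 1 := fun h => x1 (Subtype.ext h)
    replace ex : π e * x = x * π e := (mem_cent1.1 ex).symm
    obtain ⟨y, rfl, hy⟩ := o.lift_odd l.pg Nat.prime_three (by norm_num) (s.o3 hx x1)
    exact ⟨y, y.2, hy, o.cm ex, o.iv (s.inv v hx x1 ex)⟩
  by_cases a1 : 𝐎({3}, (⊤ : Subgroup X)) ⊓ 𝐂[π ⟨b, bH⟩] = ⊥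
  · obtain ⟨x, xH, ox, h1, h2⟩ := k (⟨a, aH⟩ * ⟨b, bH⟩) ⟨a, aH⟩ (by rw [map_mul]; exact v.mul.symm)
      (by rw [map_mul]; exact s.two v a1)
    exact ⟨x, xH, ox, a * b, by simp, a, by simp, h1, h2⟩
  · obtain ⟨x, xH, ox, h1, h2⟩ := k _ _ v.symm a1
    exact ⟨x, xH, ox, b, by simp, a, by simp, h1, h2⟩

/-- Proof: suppose `E < T̄`; take `g ∈ N_T̄(E) ∖ E` with `g² ∈ E`, `D = E⟨g⟩` of order `8`.  Elements of `D` centralising an
element of order `3` have order `≤ 2` (`q.om.elem_cent`).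
Case `g ∈ C(E)`: `D` normalises each `Rᵢ`; for two different nontrivial `Rᵢ, R_j` the centralisers in `D` have index `≤ 2`, so some
`1 ≠ e ∈ D` centralises both, `e` is an involution and `|R ⊓ C(e)| > 3`, contrary to (2).
Case `g ∉ C(E)`: after renumbering `g e₁ g⁻¹ = e₂`, `g e₃ g⁻¹ = e₃`, and `g` swaps `R₁, R₂`, both nontrivial by (3).  `D` normalises
`R₃`; if `R₃ ≠ 1` then `D ⊓ C(R₃)` has order `≥ 4` and exponent `2`, so contains a four-group centralising `R₃`, contrary to (3).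
So `e₃` inverts `R` (`inverts_of_cent1_eq_bot`), `R` is abelian.  One of `g, g e₁` is an involution `g'` (`g² ∈ {1, e₃}`,
`(g e₁)² = g² ⬝ e₃`), `g' x₁ g' =: x₂` generates `R₂` where `R₁ = ⟨x₁⟩`; `E9 x₁ x₂`.  `e₁` fixes `x₁` and inverts `x₂`, `e₂` the
other way round, `g'` fixes `x₁x₂` and inverts `x₁x₂⁻¹`, `g'e₃` the other way round.  Lift (`Ov.lift_e9`): `refl3` four times gives
`O ⊓ C(x) ≤ C(x₁)` for `x = x₁, x₂, x₁x₂, x₁x₂⁻¹` (`x₁` is a power of `x₁x₂ ⬝ x₁x₂⁻¹`), so `E9.gen` gives `x₁ ∈ C(O)`, contrary to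
`l.sc` (`L72.OQ.odd`). -/
theorem sol4 (h : Om8 G) (l : Lo H O) (hT : Syl 2 T H) (aT : a ∈ T) (bT : b ∈ T) (f : Four O a b) :
    O.relIndex T = 4 := by
  obtain ⟨X, _, _, π, o, q⟩ := l.quot h
  have s := o.sx h l q
  have v := o.v4 (hT.le aT) (hT.le bT) f
  obtain ⟨P, rfl⟩ := o.exists_pre (l.le_syl hT) hT.le
  have hP : IsPGroup 2 P := L72.pg_of fun g hg => by
    obtain ⟨g, rfl⟩ := o.surj g
    obtain ⟨k, e⟩ := L72.t2_of hT.pgroup (mem_pre.2 hg)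
    exact ⟨k, by rw [← map_pow, show g ^ 2 ^ k = 1 from Subtype.ext e, map_one]⟩
  rw [o.relIndex_Q, ← s.max hP v (mem_pre.1 aT) (mem_pre.1 bT)]
  exact v.k4.card_four

end Cfsg.Lib.O8E
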