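import Cfsg.Agent.Lib.O8E.L8a
import Cfsg.Agent.Lib.O8E.SolA

/-!
# Type `L₃(2)` with `|V| = 8`: the flag lemma
-/

set_option autoImplicit false

namespace Cfsg.Lib.O8E

open Subgroup Cfsg.Lib Cfsg.Lib.BG Cfsg.Lib.Transfer Cfsg.Lib.PLocal Cfsg.Lib.Loc
open scoped commutatorElement

universe u v

variable {G : Type u} [Group G] [Finite G] {M Q S O₁ O₂ P₁ P₂ : Subgroup G} {y₁ y₂ w v : G}

section Tools

variable {L U : Subgroup G} {c : ℕ → G} {a g q x : G}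

/-- `c 0 * ⋯ * c (n - 1)` -/
def l8p (c : ℕ → G) : ℕ → G
  | 0 => 1
  | n + 1 => l8p c n * c n

omit [Finite G] in
theorem l8p_mem (hc : ∀ m, c m ∈ U) : ∀ n, l8p c n ∈ U
  | 0 => one_mem _
  | n + 1 => mul_mem (l8p_mem hc n) (hc n)

omit [Finite G] in
theorem l8p_conj (a g : G) : ∀ n, l8p (fun m => g ^ m * a * (g ^ m)⁻¹) n = (a * g) ^ n * (g ^ n)⁻¹
  | 0 => by simp [l8p]
  | n + 1 => by rw [l8p, l8p_conj a g n]; simp [pow_succ, mul_assoc]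

theorem l8p_norm (h : Om8 G) (hQ : IsPGroup 2 Q) (n : g ∈ 𝐍(Q)) (hg : orderOf g = 7) (ha : a ∈ Q) :
    l8p (fun m => g ^ m * a * (g ^ m)⁻¹) 7 = 1 := by
  have k := l8p_mem (fun m => conj_mem_of_norm (pow_mem n m) ha) (orderOf (a * g))
  rw [l8p_conj, pow_orderOf_eq_one, one_mul, inv_mem_iff] at k
  have o := h.order_big (.inr rfl) (hg ▸ orderOf_dvd_of_pow_eq_one
    ((h.fpf hQ (.inr hg)).le ⟨k, pow_mem (self_mem_cent1 g) _⟩))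
  rw [l8p_conj, ← hg, pow_orderOf_eq_one g, hg, ← o, pow_orderOf_eq_one, inv_one, one_mul]

omit [Finite G] in
theorem l8p_comm (hc : ∀ m, c m ∈ Q) (hq : q ∈ Q) (e : ∀ m, c m * q * (c m)⁻¹ * q⁻¹ ∈ Zo Q) :
    ∀ n, l8p (fun m => c m * q * (c m)⁻¹ * q⁻¹) n = l8p c n * q * (l8p c n)⁻¹ * q⁻¹
  | 0 => by simp [l8p]
  | n + 1 => by
    have a := l8p_mem hc n
    rw [l8p, l8p, l8p_comm hc hq e n, l8_zc (e n) (mul_mem (mul_mem (mul_mem a hq) (inv_mem a)) (inv_mem hq)),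
      ← mul_inv_cancel_right (c n * q * (c n)⁻¹ * q⁻¹) (l8p c n), ← l8_zc (e n) a]
    group

open Classical in
/-- the sign modulo a subgroup of index two -/
noncomputable def l8s (L : Subgroup G) (x : G) : ZMod 2 := if x ∈ L then 0 else 1

omit [Finite G] in
theorem l8s_zero : l8s L x = 0 ↔ x ∈ L := by
  unfold l8s; split_ifs with h <;> simp [h]

omit [Finite G] in
theorem l8s_p (hi : L.relIndex U = 2) (hc : ∀ m, c m ∈ U) : ∀ n, l8s L (l8p c n) = ∑ m ∈ Finset.range n, l8s L (c m)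
  | 0 => l8s_zero.2 (one_mem _)
  | n + 1 => by
    have := mul_mem_iff_of_index_two hi (a := ⟨_, l8p_mem hc n⟩) (b := ⟨_, hc n⟩)
    simp only [mem_subgroupOf, coe_mul] at this
    rw [Finset.sum_range_succ, ← l8s_p hi hc n, l8p]
    unfold l8s
    by_cases a : l8p c n ∈ L <;> by_cases b : c n ∈ L <;> simp [this, a, b]
    rfl

omit [Finite G] in
theorem l8_cc : x ∈ 𝐂[g * w * g⁻¹] ↔ g⁻¹ * x * g ∈ 𝐂[w] := by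
  rw [mem_cent1, mem_cent1]
  exact ⟨fun e => by rw [show g⁻¹ * x * g * w = g⁻¹ * (x * (g * w * g⁻¹)) * g by group, e]; group,
    fun e => by rw [show x * (g * w * g⁻¹) = g * (g⁻¹ * x * g * w) * g⁻¹ by group, e]; group⟩

end Tools
variable (h : Om8 G) (b : Bs M Q S) (t : T7 M Q S O₁ O₂ P₁ P₂ y₁ y₂) (p : P8 Q S O₁ O₂)
include h b t p

/-- Proof: `y₁ w y₁⁻¹ w⁻¹ ∈ V`, `L72.fixc` gives `v w ∈ C(y₁)`; `k0` (`O := Q`, `N := Zo S`) gives `v w ∈ C(Q)`; `p.zq`. -/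
theorem P8.flag1 (hw : w ∈ Q) (e : ∀ q ∈ Q, w * q * w⁻¹ * q⁻¹ ∈ Zo S) (e' : y₁ * w * y₁⁻¹ * w⁻¹ ∈ Zo Q) : w ∈ Zo Q := by
  obtain ⟨n, hn, c⟩ := L72.fixc (l8_pg Q) (L72.odd3 t.p₁.y3) (b.nV (t.PM t.p₁.yP)) e'
  have a := mul_mem (oz_le Q hn) hw
  refine (mul_mem_cancel_left hn).1 (p.zq h b t ⟨a, k0 h b.two t.p₁.y3 (b.nQ.norm (t.PM t.p₁.yP)) ⟨a, mem_cent1.2 c⟩
    (le_inf ((l8_ZV b t).trans (oz_le_centralizer Q)) (le_cent1_iff.2 (p.pz b t t.p₁.yP))) fun q hq => ?_⟩)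
  rw [show n * w * q * (n * w)⁻¹ * q⁻¹ = n * (w * q * w⁻¹) * n⁻¹ * q⁻¹ by group,
    ← l8_zc hn (mul_mem (mul_mem hw hq) (inv_mem hw)), mul_inv_cancel_right]
  exact e q hq

/-- The line relation.  `Z = ⟨z⟩`, `f ∈ M` of order `7`, `wᵢ = fⁱ w f⁻ⁱ`, `zᵢ = fⁱ z f⁻ⁱ`, `[wᵢ, q] = zᵢ ^ χᵢ(q)` with `χᵢ(q) ∈ {0, 1}`;
`χᵢ(q) = 0 ↔ wᵢ q = q wᵢ`.  (a) `P = w₀ w₁ ⋯ w₆` has `f P f⁻¹ P⁻¹ ∈ V` (`[wᵢ, Q] ≤ V`), so `P ∈ V` (`L72.fixc`, `h.fpf`) and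
`∏ᵢ [wᵢ, q] = [P, q] = 1` (`V` is central in `Q`).  (b) `ψ(q) = ∑ᵢ χᵢ(q) ∈ ZMod 2` is additive and `f`-invariant, every `q ∈ Q` is
`x⁻¹ ⬝ f x f⁻¹`, so `ψ = 0`.  (c) The `zᵢ` are the seven involutions of `V`; for the line `{z_a, z_b, z_c}` (`z_a z_b = z_c`) map
`V → V/line ≅ ZMod 2`: (a) gives `∑_{i ∉ {a,b,c}} χᵢ = 0`, so by (b) `χ_a + χ_b + χ_c = 0`. -/
theorem P8.lin {f z q : G} (fM : f ∈ M) (hf : orderOf f = 7) (hz : z ∈ Zo S) (z1 : z ≠ 1) (hw : w ∈ Q)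
    (e : ∀ q ∈ Q, w * q * w⁻¹ * q⁻¹ ∈ Zo S) (hq : q ∈ Q) {i j k : ℕ}
    (l : f ^ i * z * (f ^ i)⁻¹ * (f ^ j * z * (f ^ j)⁻¹) = f ^ k * z * (f ^ k)⁻¹) :
    (q ∈ 𝐂[f ^ k * w * (f ^ k)⁻¹] ↔ (q ∈ 𝐂[f ^ i * w * (f ^ i)⁻¹] ↔ q ∈ 𝐂[f ^ j * w * (f ^ j)⁻¹])) := by
  classical
  rw [← pow_mod_orderOf f i, ← pow_mod_orderOf f j, ← pow_mod_orderOf f k, hf] at l ⊢
  have hi := Nat.mod_lt i (show 0 < 7 by norm_num)
  have hj := Nat.mod_lt j (show 0 < 7 by norm_num)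
  have hk := Nat.mod_lt k (show 0 < 7 by norm_num)
  generalize i % 7 = i, j % 7 = j, k % 7 = k at *
  have fQ := b.nQ.norm fM
  have zV (m : ℕ) : f ^ m * z * (f ^ m)⁻¹ ∈ Zo Q := conj_mem_of_norm (pow_mem (b.nV fM) m) (l8_ZV b t hz)
  have z0 (m : ℕ) : f ^ m * z * (f ^ m)⁻¹ ≠ 1 := fun e => z1 (conj_eq_one_iff.1 e)
  have inj {m n : ℕ} := l8_inj (i := m) (j := n) (by norm_num) hf
    fun e => z1 ((h.fpf (l8_pg Q) (.inr hf)).le ⟨l8_ZV b t hz, mem_cent1.2 e.symm⟩)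
  have v : V4 (f ^ i * z * (f ^ i)⁻¹) (f ^ j * z * (f ^ j)⁻¹) := ⟨l8_z2 (zV i), l8_z2 (zV j), l8_zc (zV j) (oz_le Q (zV i)),
    z0 i, z0 j, fun e => z0 k (by rw [← l, e, l8_z2 (zV j)])⟩
  have ij : i ≠ j := fun e => v.ne (e ▸ rfl)
  have ik : i ≠ k := fun e => z0 j (left_eq_mul.1 (l.trans (e ▸ rfl)).symm)
  have jk : j ≠ k := fun e => z0 i (right_eq_mul.1 (l.trans (e ▸ rfl)).symm)
  have aQ (m : ℕ) := conj_mem_of_norm (pow_mem (inv_mem fQ) m) hq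
  have wQ (m : ℕ) := conj_mem_of_norm (pow_mem fQ m) hw
  obtain ⟨d, hd⟩ : ∃ d : ℕ → G, d = fun m => f⁻¹ ^ m * q * (f⁻¹ ^ m)⁻¹ * w * (f⁻¹ ^ m * q * (f⁻¹ ^ m)⁻¹)⁻¹ * w⁻¹ := ⟨_, rfl⟩
  obtain ⟨c, hc⟩ : ∃ c : ℕ → G, c = fun m => f ^ m * w * (f ^ m)⁻¹ * q * (f ^ m * w * (f ^ m)⁻¹)⁻¹ * q⁻¹ := ⟨_, rfl⟩
  have dZ (m) : d m ∈ Zo S := by simpa [hd, mul_assoc] using inv_mem (e _ (aQ m))
  have cd (m) : c m = f ^ m * d m * (f ^ m)⁻¹ := by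
    rw [eq_inv_of_mul_eq_one_left (l8_z2 (dZ m)), hc, hd]
    simp [mul_assoc]
  have cV (m) : c m ∈ Zo Q := cd m ▸ conj_mem_of_norm (pow_mem (b.nV fM) m) (l8_ZV b t (dZ m))
  have le := sup_le (zpowers_le.2 (zV i)) (zpowers_le.2 (zV j))
  have s1 := l8s_p (L := ⊥) (by rw [relIndex_bot_left, p.c2]) dZ 7
  have s2 := l8s_p (L := zpowers (f ^ i * z * (f ^ i)⁻¹) ⊔ zpowers (f ^ j * z * (f ^ j)⁻¹)) (by
    have := Core.card_inf_mul_relIndex (zpowers (f ^ i * z * (f ^ i)⁻¹) ⊔ zpowers (f ^ j * z * (f ^ j)⁻¹)) (Zo Q)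
    rw [inf_eq_left.2 le, v.k4.card_four, p.c8] at this
    omega) cV 7
  rw [show l8p d 7 = 1 by
    rw [hd, l8p_comm aQ hw fun m => l8_ZV b t (hd ▸ dZ m :), l8p_norm h b.two (inv_mem fQ) (by simpa) hq]; simp,
    l8s_zero.2 (one_mem _)] at s1
  rw [show l8p c 7 = 1 by rw [hc, l8p_comm wQ hq fun m => (hc ▸ cV m :), l8p_norm h b.two fQ hf hw]; simp,
    l8s_zero.2 (one_mem _)] at s2
  have s3 := congrArg₂ (· + ·) s1 s2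
  rw [← Finset.sum_add_distrib, Finset.sum_congr rfl (g := fun m => if m ∈ ({i, j, k} : Finset ℕ) then l8s ⊥ (d m) else 0)
    (fun m hm => by
      have hm := Finset.mem_range.1 hm
      rw [cd]
      rcases l8_two p.c2 hz z1 (dZ m) with u | u <;> rw [u]
      · simp [l8s]
      have : _ ∈ _ ↔ m ∈ ({i, j, k} : Finset ℕ) := (v.mem (g := f ^ m * z * (f ^ m)⁻¹)).trans (by
        simp only [z0 m, l, false_or, Finset.mem_insert, Finset.mem_singleton]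
        exact or_congr ⟨inj hm hi, fun e => e ▸ rfl⟩ (or_congr ⟨inj hm hj, fun e => e ▸ rfl⟩ ⟨inj hm hk, fun e => e ▸ rfl⟩))
      simp only [l8s, this, mem_bot, z1, if_false]
      split_ifs <;> rfl), Finset.sum_ite_mem, Finset.inter_eq_right.2 (by simp [Finset.insert_subset_iff, hi, hj, hk]),
    Finset.sum_insert (by simp [ij, ik]), Finset.sum_pair jk] at s3
  have x (m : ℕ) : q ∈ 𝐂[f ^ m * w * (f ^ m)⁻¹] ↔ l8s ⊥ (d m) = 0 := by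
    rw [l8s_zero, mem_bot, ← conj_eq_one_iff (a := f ^ m), ← cd, hc, mem_cent1, mul_inv_eq_one, mul_inv_eq_iff_eq_mul, eq_comm]
  rw [x, x, x]
  revert s3
  generalize l8s ⊥ (d i) = α, l8s ⊥ (d j) = β, l8s ⊥ (d k) = γ
  revert α β γ
  decide

/-- Proof: `ℓ = Zo O₂ = {1, z, z_j, z_k}` (`trans`), `K = Q ⊓ C(w)`, `Kᵢ = fⁱ K f⁻ⁱ = Q ⊓ C(wᵢ)`; `S` normalises `K` (`e'`).  Let `s` be as in
`t.exs`, `κ ∈ P₂` with `κ z κ⁻¹ = z_j` (`line`), `τ = κ s κ⁻¹ ∈ O₂ ∖ Q`.  `f⁻ʲ κ ∈ M ⊓ C(Z) = P₁` (`t.cm`) normalises `O₁`, so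
`τ ∈ fʲ O₁ f⁻ʲ` normalises `K₀` and `K_j`, hence `K_k` (`lin`).  So `g = f⁻ᵏ τ fᵏ ∈ M ⊓ C(Z) = P₁` normalises `K`.  `g ∉ S`: else `τ`
normalises `ℓ' = fᵏ ℓ f⁻ᵏ ∋ z_k`; `ℓ' ≠ ℓ` (`h.cmod`, `fᵏ` has order `7`); for `d ∈ ℓ' ∖ ℓ`, `[τ,d] ∈ ⟨z_j⟩` (`vo` conjugated by `κ`) is
nontrivial (`V ⊓ C(τ) = ℓ` by `bd2`), so `z_j, z_k ∈ ℓ'`, `ℓ = ℓ'`.  Thus `P₁ ≤ N(K)` (`S3o.max`); `y₁ w y₁⁻¹` and `w` have the same
commutators with `Q` (values in `{1, z}`, same kernel), so `y₁ w y₁⁻¹ w⁻¹ ∈ Z(Q) = V`; `flag1`. -/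
theorem P8.flag0 (hw : w ∈ Q) (e : ∀ q ∈ Q, w * q * w⁻¹ * q⁻¹ ∈ Zo S) (e' : ∀ s ∈ S, w * s * w⁻¹ * s⁻¹ ∈ Zo Q) :
    w ∈ Zo Q := by
  obtain ⟨z, hz, z1⟩ := exists_ne_one b.Z1
  obtain ⟨f, fM, hf⟩ := t.seven
  have zl := t.swap.zle b
  have lV := t.swap.zV b
  obtain ⟨v, hv, vZ⟩ := SetLike.not_le_iff_exists.1 fun l : Zo O₂ ≤ Zo S =>
    absurd (card_le_of_le l) (by rw [p.c4, p.c2]; norm_num)
  have v1 : v ≠ 1 := fun k => vZ (k ▸ one_mem _)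
  have zv := mul_mem (zl hz) hv
  obtain ⟨j, -, ej⟩ := p.trans h b t fM hf (l8_ZV b t hz) z1 (lV hv) v1
  obtain ⟨k, k7, ek⟩ := p.trans h b t fM hf (l8_ZV b t hz) z1 (lV zv) fun k =>
    vZ ((mul_mem_cancel_left hz).1 (k ▸ one_mem _))
  have SK : S ≤ 𝐍(Q ⊓ 𝐂[w]) := le_norm_iff.2 fun s hs q hq => ⟨conj_mem_of_norm (b.nQ.norm (b.SM hs)) hq.1, mem_cent1.2 <| by
    have := l8_zc (e' _ (inv_mem hs)) hq.1
    rw [show s * q * s⁻¹ * w = s * q * (w * s⁻¹ * w⁻¹ * s⁻¹⁻¹)⁻¹ * w * s⁻¹ by group,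
      mul_assoc s, (Commute.inv_right this).eq, mul_assoc s, mul_assoc _ q, mem_cent1.1 hq.2]
    group⟩
  obtain ⟨s, s1, s2, s3⟩ := t.exs
  obtain ⟨κ, κP, eκ⟩ := p.line h b t hz z1 hv v1
  have κM := t.swap.PM κP
  have cm {g : G} (hg : g ∈ M) (e : g * z * g⁻¹ = z) : g ∈ P₁ := (t.cm b h (p.pz b t)).le ⟨hg, l8_cz p.c2 hz z1 e⟩
  have τO := conj_mem_of_norm (t.p₂.nO.norm κP) s2
  have τQ : κ * s * κ⁻¹ ∉ Q := fun m => s3 ((mem_normalizer_iff.1 (b.nQ.norm κM) s).2 m)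
  have vo (d) (hd : d ∈ Zo Q) : κ * s * κ⁻¹ * d * (κ * s * κ⁻¹)⁻¹ * d⁻¹ = 1 ∨ κ * s * κ⁻¹ * d * (κ * s * κ⁻¹)⁻¹ * d⁻¹ = v := by
    rw [show κ * s * κ⁻¹ * d * (κ * s * κ⁻¹)⁻¹ * d⁻¹ = κ * (s * (κ⁻¹ * d * κ) * s⁻¹ * (κ⁻¹ * d * κ)⁻¹) * κ⁻¹ by group]
    rcases l8_two p.c2 hz z1 (p.vo h b t (conj_mem_of_norm' (b.nV κM) hd) s1) with u | u <;> rw [u]
    exacts [.inl (by simp), .inr eκ]
  have uj := conj_mem_of_norm (t.p₁.nO.norm (cm (mul_mem (inv_mem (pow_mem fM j)) κM) (by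
    rw [show (f ^ j)⁻¹ * κ * z * ((f ^ j)⁻¹ * κ)⁻¹ = (f ^ j)⁻¹ * (κ * z * κ⁻¹) * f ^ j by group, eκ, ← ej]; group))) s1
  rw [show (f ^ j)⁻¹ * κ * s * ((f ^ j)⁻¹ * κ)⁻¹ = (f ^ j)⁻¹ * (κ * s * κ⁻¹) * f ^ j by group] at uj
  generalize κ * s * κ⁻¹ = τ at τO τQ vo uj
  have τS := t.p₂.OS τO
  have tr (i : ℕ) (hi : (f ^ i)⁻¹ * τ * f ^ i ∈ S) {q : G} (hq : q ∈ Q) :
      τ * q * τ⁻¹ ∈ 𝐂[f ^ i * w * (f ^ i)⁻¹] ↔ q ∈ 𝐂[f ^ i * w * (f ^ i)⁻¹] := by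
    have a := conj_mem_of_norm' (b.nQ.norm (pow_mem fM i)) hq
    have := mem_normalizer_iff.1 (SK hi) ((f ^ i)⁻¹ * q * f ^ i)
    rw [l8_cc, l8_cc, show (f ^ i)⁻¹ * (τ * q * τ⁻¹) * f ^ i =
      (f ^ i)⁻¹ * τ * f ^ i * ((f ^ i)⁻¹ * q * f ^ i) * ((f ^ i)⁻¹ * τ * f ^ i)⁻¹ by group]
    exact ⟨fun k => (this.2 ⟨conj_mem_of_norm (b.nQ.norm (b.SM hi)) a, k⟩).2, fun k => (this.1 ⟨a, k⟩).2⟩
  have fk := pow_mem fM k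
  have gM := mul_mem (mul_mem (inv_mem fk) (b.SM τS)) fk
  have gK : (f ^ k)⁻¹ * τ * f ^ k ∈ 𝐍(Q ⊓ 𝐂[w]) := mem_normalizer_fintype fun q hq => ⟨conj_mem_of_norm (b.nQ.norm gM) hq.1, by
    have a := conj_mem_of_norm (b.nQ.norm fk) hq.1
    have l : f ^ 0 * z * (f ^ 0)⁻¹ * (f ^ j * z * (f ^ j)⁻¹) = f ^ k * z * (f ^ k)⁻¹ := by simp [ej, ek]
    have := (p.lin h b t fM hf hz z1 hw e (conj_mem_of_norm (b.nQ.norm (b.SM τS)) a) l).2 (by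
      rw [tr 0 (by simpa) a, tr j (t.p₁.OS uj) a, ← p.lin h b t fM hf hz z1 hw e a l, l8_cc]
      simpa [mul_assoc] using hq.2)
    rw [l8_cc] at this
    change _ ∈ 𝐂[w]
    simpa only [mul_assoc, mul_inv_rev, inv_inv] using this⟩
  have gP := cm gM (by
    rw [show (f ^ k)⁻¹ * τ * f ^ k * z * ((f ^ k)⁻¹ * τ * f ^ k)⁻¹ = (f ^ k)⁻¹ * (τ * (f ^ k * z * (f ^ k)⁻¹) * τ⁻¹) * f ^ k by group,
      ek, l8_zc zv τO, mul_inv_cancel_right, ← ek]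
    group)
  have gS : (f ^ k)⁻¹ * τ * f ^ k ∉ S := fun gS => by
    have k0 : ¬ 7 ∣ k := fun d => v1 (by
      rw [Nat.eq_zero_of_dvd_of_lt d k7] at ek
      simpa using ek)
    have nl : f ^ k ∉ 𝐍(Zo O₂) := fun n => by
      have := h.cmod (.inr rfl) ((Nat.Coprime.orderOf_pow (hf ▸ (Nat.Prime.coprime_iff_not_dvd (by norm_num)).2 k0)).trans hf)
        (l8_pg O₂) n
      rw [p.c4] at this
      omega
    obtain ⟨d, hd, d1⟩ : ∃ d ∈ Zo O₂, f ^ k * d * (f ^ k)⁻¹ ∉ Zo O₂ := by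
      by_contra! H
      exact nl (mem_normalizer_fintype H)
    have dV := conj_mem_of_norm (b.nV fk) (lV hd)
    have mc {x : G} : x ∈ f ^ k ⋆ Zo O₂ ↔ (f ^ k)⁻¹ * x * f ^ k ∈ Zo O₂ := Transfer.mem_conj
    rcases vo _ dV with u | u
    · refine d1 ((eq_of_le_of_card_le (le_inf lV (le_cent1_iff.2 (cent_symm (oz_le_centralizer O₂) τO)))
        (p.c4 ▸ l8_four b t.bd2 p.c8 τS τQ (t.p₂.sq τ τO))).ge ⟨dV, mem_cent1.2 ?_⟩)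
      exact (mul_inv_eq_iff_eq_mul.1 (mul_inv_eq_one.1 u)).symm
    have a : v ∈ f ^ k ⋆ Zo O₂ := mc.2 (by
      convert mul_mem (conj_mem_of_norm (normalizer_le_normalizer_oz O₂ (t.p₂.nO.norm (t.p₂.SP gS))) hd) (inv_mem hd) using 1
      rw [← u]
      group)
    have c : z ∈ f ^ k ⋆ Zo O₂ := (mul_mem_cancel_right a).1 (mc.2 (by simpa [← ek, mul_assoc] using zl hz))
    have := (l8_key (A := Zo O₂ ⊓ f ^ k ⋆ Zo O₂) (le_inf zl fun x hx => by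
      rcases l8_two p.c2 hz z1 hx with rfl | rfl
      exacts [one_mem _, c]) inf_le_right (fun l => vZ (l ⟨hv, a⟩)) b.Z1 (by rw [Transfer.card_conj, p.c4])).2.2
    exact d1 (this.ge ⟨d, hd, rfl⟩).1
  have yK : y₁ ∈ 𝐍(Q ⊓ 𝐂[w]) := (((t.s3o b).max (le_inf t.p₁.SP SK) inf_le_left).resolve_left
    fun k => gS (k.le ⟨gP, gK⟩)).ge t.p₁.yP |>.2
  have yQ := b.nQ.norm (t.PM t.p₁.yP)
  have w' := conj_mem_of_norm yQ hw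
  have one {q : G} (hq : q ∈ Q) : w * q * w⁻¹ * q⁻¹ = 1 ↔ q ∈ Q ⊓ 𝐂[w] := by
    rw [mul_inv_eq_one, mul_inv_eq_iff_eq_mul, mem_inf, mem_cent1, and_iff_right hq, eq_comm]
  have := p.zq h b t ⟨Q.mul_mem (inv_mem hw) w', mem_cent.2 fun q hq => by
    have a := conj_mem_of_norm' yQ hq
    have c : w * (y₁⁻¹ * q * y₁) * w⁻¹ * (y₁⁻¹ * q * y₁)⁻¹ = w * q * w⁻¹ * q⁻¹ := by
      have i := (one a).trans ((mem_normalizer_iff''.1 yK q).symm.trans (one hq).symm)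
      rcases l8_two p.c2 hz z1 (e _ a) with u | u <;> rcases l8_two p.c2 hz z1 (e _ hq) with u' | u'
      exacts [u.trans u'.symm, (z1 (u'.symm.trans (i.1 u))).elim, (z1 (u.symm.trans (i.2 u'))).elim, u.trans u'.symm]
    have d := p.pz b t t.p₁.yP _ (e _ hq)
    calc q * (w⁻¹ * (y₁ * w * y₁⁻¹)) = w⁻¹ * (w * q * w⁻¹ * q⁻¹ * y₁) * (y₁⁻¹ * q * y₁ * w * y₁⁻¹) := by group
      _ = _ := by rw [d, ← c]; group⟩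
  refine p.flag1 h b t hw e ?_
  convert conj_mem_of_norm (b.nV (b.SM (b.QS hw))) this using 1
  group

/-- Proof: if `v = 1` use `p.zq`.  Else conjugate `v` to `z` (`trans`).  `W = {w ∈ Q | [w,Q] ≤ Zo S}` is a normal subgroup of `S`; if
`W ≰ V`, `step` (`P := S`, `N := W`, `N₀ := V`) and `flag0` give a contradiction. -/
theorem P8.flag (hw : w ∈ Q) (hv : v ∈ Zo Q) (e : ∀ q ∈ Q, w * q * w⁻¹ * q⁻¹ ∈ zpowers v) : w ∈ Zo Q := by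
  by_cases v1 : v = 1
  · refine p.zq h b t ⟨hw, mem_cent.2 fun q hq => ?_⟩
    have := e q hq
    rw [v1, zpowers_one_eq_bot, mem_bot, mul_inv_eq_one, mul_inv_eq_iff_eq_mul] at this
    exact this.symm
  obtain ⟨z, hz, z1⟩ := exists_ne_one b.Z1
  obtain ⟨f, fM, hf⟩ := t.seven
  obtain ⟨i, -, k⟩ := p.trans h b t fM hf (l8_ZV b t hz) z1 hv v1
  have n : S ≤ 𝐍(Zo S) := norm_of_cent (cent_symm (oz_le_centralizer S))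
  have fi := pow_mem fM i
  have le : l8c Q Q (Zo S) (b.QS.trans n) ≤ Zo Q := by_contra fun l => by
    obtain ⟨u, u1, u2, u3⟩ := step b.twoS (N := l8c Q Q _ _) ⟨fun _ k => b.QS k.1, fun s hs =>
      l8c_norm (b.nQ.norm (b.SM hs)) (b.nQ.norm (b.SM hs)) (n hs)⟩ (b.SM.trans b.nV) l
    exact u2 (p.flag0 h b t u1.1 u1.2 fun s hs => (u3 s hs).2)
  refine (mem_normalizer_iff''.1 (b.nV fi) w).2 (le ⟨conj_mem_of_norm' (b.nQ.norm fi) hw, fun q hq => ?_⟩)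
  rw [show (f ^ i)⁻¹ * w * f ^ i * q * ((f ^ i)⁻¹ * w * f ^ i)⁻¹ * q⁻¹ =
    (f ^ i)⁻¹ * (w * (f ^ i * q * (f ^ i)⁻¹) * w⁻¹ * (f ^ i * q * (f ^ i)⁻¹)⁻¹) * f ^ i by group]
  rcases L72.mem2 (l8_z2 hv) (e _ (conj_mem_of_norm (b.nQ.norm fi) hq)) with u | u <;> rw [u]
  · simp
  · simpa [← k, mul_assoc] using hz

end Cfsg.Lib.O8E
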