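import Cfsg.Agent.Lib.O8E.SolA
import Cfsg.Agent.Lib.PGroup.RankOne

/-!
# Sylow `2`-subgroups of `H/O₂(H)` for solvable `H`
-/

set_option autoImplicit false

namespace Cfsg.Lib.O8E

open Subgroup Cfsg.Lib Cfsg.Lib.BG Cfsg.Lib.Transfer Cfsg.Lib.PLocal Cfsg.Lib.Loc
open scoped commutatorElement

universe u v

variable {G : Type u} [Group G] [Finite G] {D H O T : Subgroup G} {t : G}

/-- Proof: otherwise the image `b` of `t` in `X` (`l.quot`) has order `8`; let `e = b⁴`.  `XQ.act` for `⟨e⟩` gives `r` with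
`R = O_r(X) ≠ 1`.  `R ⊓ C(e) = 1`: for `r = 5, 7` by `q.om.big`; for `r = 3`, `|R ⊓ C(e)| ≤ 3` (`exists_e9`, `Ov.lift_e9`, `p1`),
`b` normalises it, so `b²` (order `4`) centralises it, and there is no element of order `12`.  Every `b^i ≠ 1` has `e` as a power,
so `Ov.big` (`K := R`) gives `8 ≤ 4`. -/
theorem sol8 (h : Om8 G) (l : Lo H O) (tH : t ∈ H) (ht : L72.T2 t) : t ^ 4 ∈ O := by
  obtain ⟨X, _, _, π, o, q⟩ := l.quot h
  by_contra n
  obtain ⟨b, eb⟩ : ∃ b, b = π ⟨t, tH⟩ := ⟨_, rfl⟩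
  have e4 : b ^ 4 = π ⟨t ^ 4, pow_mem tH 4⟩ := by rw [eb, ← map_pow]; rfl
  have b4 : b ^ 4 ≠ 1 := fun e => n ((o.ker _).1 (e4.symm.trans e))
  have b8 : b ^ 8 = 1 := by
    obtain ⟨k, e⟩ := ht
    rw [eb, ← map_pow, show (⟨t, tH⟩ : H) ^ 8 = 1 from Subtype.ext (h.pow_eight e), map_one]
  have ob : orderOf b = 8 := orderOf_eq_prime_pow (p := 2) (n := 2) b4 b8
  have ee : b ^ 4 * b ^ 4 = 1 := by rw [← pow_add, b8]
  obtain ⟨r, hr, nc⟩ := q.act (L72.t2_inv ee).pg (mt zpowers_eq_bot.1 b4)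
  have pr : r.Prime := by rcases hr with rfl | rfl | rfl <;> norm_num
  have := Fact.mk pr
  have r2 : r ≠ 2 := by omega
  have pR := pcore_pgroup r (⊤ : Subgroup X)
  have nR : ∀ g, g ∈ 𝐍(𝐎({r}, (⊤ : Subgroup X))) := fun g => (pcore_nml _ _).norm (mem_top g)
  generalize 𝐎({r}, (⊤ : Subgroup X)) = R at nc pR nR
  have c : R ⊓ 𝐂[b ^ 4] = ⊥ := eq_bot_iff.2 fun y hy => by_contra fun y1 => by
    have oy : orderOf y = r := orderOf_eq_prime (q.om.pow_odd pr r2 pR hy.1) y1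
    obtain rfl | hr := hr
    swap
    · exact b4 (q.om.big hr oy (by
        rw [show orderOf (b ^ 4) = 2 from orderOf_eq_prime (by rw [sq, ee]) b4]; rcases hr with rfl | rfl <;> norm_num)
        (mem_cent1.1 hy.2).symm)
    have n9 : ¬ 9 ∣ Nat.card ↥(R ⊓ 𝐂[b ^ 4]) := fun d => by
      obtain ⟨x, hx, z, hz, e⟩ := exists_e9 q.om d
      obtain ⟨x, z, rfl, rfl, e'⟩ := o.lift_e9 l.pg e
      have k : ∀ w : H, π w ∈ 𝐂[b ^ 4] → t ^ 4 * w * (t ^ 4)⁻¹ * (w : G)⁻¹ ∈ O := fun w m =>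
        (o.ker (⟨t ^ 4, pow_mem tH 4⟩ * w * (⟨t ^ 4, pow_mem tH 4⟩ : H)⁻¹ * w⁻¹)).1 (by
          rw [map_mul, map_mul, map_mul, map_inv, map_inv, ← e4, ← mem_cent1.1 m]; group)
      exact n (p1 h l.toOQ e' x.2 z.2 (pow_mem tH 4) (let ⟨k, e⟩ := ht; ⟨k, by rw [← pow_mul, mul_comm, pow_mul, e, one_pow]⟩)
        (k x hx.2) (k z hz.2))
    have z : zpowers y = R ⊓ 𝐂[b ^ 4] := eq_of_le_of_card_ge (zpowers_le.2 hy) (by
      obtain ⟨k, e⟩ := (pR.to_le (inf_le_left : R ⊓ 𝐂[b ^ 4] ≤ R)).exists_card_eq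
      rw [e] at n9 ⊢
      rw [Nat.card_zpowers, oy]
      exact (Nat.pow_le_pow_right (by norm_num) (show k ≤ 1 from by_contra fun a => n9 (pow_dvd_pow 3 (show 2 ≤ k by omega)))).trans
        (by norm_num))
    have m : b * y * b⁻¹ ∈ zpowers y := z.ge ⟨(mem_normalizer_iff.1 (nR b) y).1 hy.1, mem_cent1.2 (by
      rw [show b * y * b⁻¹ * b ^ 4 = b * (y * b ^ 4) * b⁻¹ by group, mem_cent1.1 hy.2]; group)⟩
    have cm : b ^ 2 * y = y * b ^ 2 := by
      rw [← mul_inv_eq_iff_eq_mul, show b ^ 2 * y * (b ^ 2)⁻¹ = b * (b * y * b⁻¹) * b⁻¹ by rw [pow_two]; group]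
      rcases L72.mem3 oy m with e | e | e
      · exact absurd (by simpa using e) y1
      · rw [e, e]
      · rw [e, ← conj_inv, e, inv_inv]
    have o2 : orderOf (b ^ 2) = 4 := by rw [orderOf_pow, ob]; norm_num
    have := q.om.mul_le cm (by rw [o2, oy]; norm_num)
    rw [o2, oy] at this
    omega
  have := Ov.big h l.toOQ o (nR b) (fun i i0 i8 => eq_bot_iff.2 (c ▸ inf_le_inf_left R fun y hy => by
      obtain ⟨k, e⟩ := (by decide : ∀ i < 8, 0 < i → ∃ k < 8, i * k % 8 = 4) i (ob ▸ i8) i0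
      rw [mem_cent1, ← e.2, ← ob, pow_mod_orderOf, pow_mul]
      exact (Commute.pow_right (mem_cent1.1 hy) k).eq))
    (fun d => r2 (pgroup_eq_of_dvd pR Nat.prime_two d).symm) (pgroup_sol pR) (fun e => nc (by simp [e]))
  omega

theorem solb_rank {X : Type*} [Group X] [Finite X] {A : Subgroup X} (h4 : ∀ x ∈ A, x ^ 4 = 1)
    (hA : ∀ a ∈ A, ∀ b ∈ A, a * a = 1 → b * b = 1 → a * b = b * a → a = 1 ∨ b = 1 ∨ a * b = 1) :
    (IsCyclic A ∨ Nat.card A = 8) ∧ Nat.card A ≤ 8 := by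
  have : PRankLE 2 1 A := fun E c e => by_contra fun n => by
    have := Fintype.ofFinite E
    obtain ⟨x, y, z, xy, xz, yz⟩ := Fintype.two_lt_card_iff.1 (show 2 < Fintype.card E by rw [← Nat.card_eq_fintype_card]; omega)
    have s : ∀ w : E, w * w = 1 := fun w => Subtype.ext ((pow_two _).symm.trans (e w.1 w.2))
    have i : Function.Injective (A.subtype.comp E.subtype) := A.subtype_injective.comp E.subtype_injective
    have := hA (A.subtype.comp E.subtype (x * y)) (x * y).1.2 (A.subtype.comp E.subtype (x * z)) (x * z).1.2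
      (by rw [← map_mul, s, map_one]) (by rw [← map_mul, s, map_one]) (by rw [← map_mul, ← map_mul, c.is_comm.comm])
    rw [← map_mul, map_eq_one_iff _ i, map_eq_one_iff _ i, map_eq_one_iff _ i, ← s x, mul_right_inj, mul_right_inj, s x, ← s (x * y),
      mul_right_inj, mul_right_inj] at this
    exact this.elim (fun e => xy e.symm) (·.elim (fun e => xz e.symm) fun e => yz e.symm)
  have h4' : ∀ x : A, x ^ 4 = 1 := fun x => Subtype.ext (h4 x.1 x.2)
  rcases PGroup.isCyclic_or_quaternion_of_pRankLE_one (fun x => ⟨2, h4' x⟩) this with c | ⟨-, n, ⟨e⟩⟩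
  · obtain ⟨x, e⟩ := isCyclic_iff_exists_orderOf_eq_natCard.1 c
    exact ⟨.inl c, e ▸ (orderOf_le_of_pow_eq_one (by norm_num) (h4' x)).trans (by norm_num)⟩
  · have := orderOf_le_of_pow_eq_one (by norm_num) (h4' (e.symm (.a 1)))
    rw [e.symm.orderOf_eq, QuaternionGroup.orderOf_a_one] at this
    have c := Nat.card_congr e.toEquiv
    rw [Nat.card_eq_fintype_card (α := QuaternionGroup _), QuaternionGroup.card] at c
    have := Nat.one_le_two_pow (n := n)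
    rw [pow_succ] at *
    exact ⟨.inr (by omega), by omega⟩

/-- Proof: let `T̄ = T/O`.  If `T̄` has a four-group, `|T : O| = 4` (`sol4`), so `|D : O| ≤ 2`.  Otherwise `T̄` is cyclic or
generalised quaternion (`PGroup.isCyclic_or_quaternion_of_pRankLE_one`, pattern `q8` in `Spec2/O6G`), of exponent `≤ 4` (`sol8`),
so `|T̄| ≤ 8`, `|D̄| ≤ 4`, and `D̄` is not a four-group, hence cyclic. -/
theorem solc (h : Om8 G) (l : Lo H O) (hT : Syl 2 T H) (h1 : O ≤ D) (h2 : D < T) :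
    ∃ d ∈ D, O ⊔ zpowers d = D := by
  obtain ⟨X, _, _, π, o, q⟩ := l.quot h
  obtain ⟨A, rfl⟩ := o.exists_pre (l.le_syl hT) hT.le
  obtain ⟨B, rfl⟩ := o.exists_pre h1 (h2.le.trans hT.le)
  have BA : B < A := lt_of_le_not_ge (o.pre_le_iff.1 h2.le) fun e => h2.not_ge (pre_mono e)
  have lt : Nat.card B < Nat.card A := lt_of_le_of_ne (card_le_of_le BA.le) fun e => BA.ne (eq_of_le_of_card_ge BA.le e.ge)
  have h4 : ∀ x ∈ A, x ^ 4 = 1 := fun x m => by
    obtain ⟨x, rfl⟩ := o.surj x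
    rw [← map_pow, o.ker]
    exact sol8 h l x.2 (L72.t2_of hT.pgroup (mem_pre.2 m))
  have c : IsCyclic B := by
    by_cases f : ∀ a ∈ A, ∀ b ∈ A, a * a = 1 → b * b = 1 → a * b = b * a → a = 1 ∨ b = 1 ∨ a * b = 1
    · have := (solb_rank h4 f).2
      exact (solb_rank (fun x m => h4 x (BA.le m)) fun a m b m' => f a (BA.le m) b (BA.le m')).1.resolve_right (by omega)
    push Not at f
    obtain ⟨a, ha, b, hb, a2, b2, ab, a1, b1, n⟩ := f
    obtain ⟨a, rfl⟩ := o.surj a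
    obtain ⟨b, rfl⟩ := o.surj b
    have := sol4 h l hT (mem_pre.2 ha) (mem_pre.2 hb) ⟨(o.ker (a * a)).1 (by rwa [map_mul]), (o.ker (b * b)).1 (by rwa [map_mul]),
      (o.ker (a * b * a⁻¹ * b⁻¹)).1 (by simp [ab]), mt (o.ker a).2 a1, mt (o.ker b).2 b1, fun e => n (by
        rw [← map_mul]; exact (o.ker (a * b)).2 e)⟩
    rw [o.relIndex_Q] at this
    have d := card_dvd_of_le BA.le
    rw [this] at d lt
    refine isCyclic_of_card_dvd_prime (p := 2) ?_
    have := Nat.le_of_dvd four_pos d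
    interval_cases Nat.card B <;> simp_all
  obtain ⟨x, e⟩ := (Subgroup.isCyclic_iff_exists_zpowers_eq_top B).1 c
  obtain ⟨x, rfl⟩ := o.surj x
  have m : (x : G) ∈ pre π B := mem_pre.2 (e.le (mem_zpowers _))
  refine ⟨x, m, le_antisymm (sup_le h1 (zpowers_le.2 m)) fun d hd => ?_⟩
  obtain ⟨k, f⟩ := e.ge ((mem_pre (x := ⟨d, pre_le _ _ hd⟩)).1 hd)
  have := (o.ker (⟨d, pre_le _ _ hd⟩ * (x ^ k)⁻¹)).1 (by rw [map_mul, map_inv, map_zpow, ← show π x ^ k = _ from f, mul_inv_cancel])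
  exact (mul_mem_cancel_right (inv_mem (mem_sup_right (zpow_mem (mem_zpowers _) k)))).1 (mem_sup_left this)

end Cfsg.Lib.O8E
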