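import Cfsg.Agent.Lib.O8E.L8b
import Cfsg.Agent.Lib.O8E.CZD
import Cfsg.Agent.Lib.O8E.SolB

/-!
# Type `L₃(2)` with `|V| = 8`
-/

set_option autoImplicit false

namespace Cfsg.Lib.O8E

open Subgroup Cfsg.Lib Cfsg.Lib.BG Cfsg.Lib.Transfer Cfsg.Lib.PLocal Cfsg.Lib.Loc
open scoped commutatorElement

universe u v

variable {G : Type u} [Group G] [Finite G] {H O M Q S O₁ O₂ P₁ P₂ : Subgroup G} {y₁ y₂ : G}

variable (h : Om8 G) (lc : IsOfLocalCharacteristic 2 G) (b : Bs M Q S) (t : T7 M Q S O₁ O₂ P₁ P₂ y₁ y₂)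
  (p : P8 Q S O₁ O₂) (hQ : ¬ Q ≤ Zo Q)
include h b t p hQ

include lc in
/-- Proof: `C = C(Z)`, `O` from `czd`, `Q ≤ O₁ ≤ O`.  `U = {u ∈ O | [u,O] ≤ Z}` is normalised by `C` and `Z < U` (`step`, `V ≤ O`).
`U` normalises `Q`, so `U ≤ M`; `U ≤ Q` by `b.cen`; `U ≤ V` by `p.flag`; `U = V` by `p.irr`; so `C ≤ N(V) ≤ M`. -/
theorem l8a (hJ : ¬ Jt S ≤ Q) : 𝐂(Zo S) ≤ M := by
  obtain ⟨O, l, e, -⟩ := czd h lc b t.toTD (p.pz b t) (p.cy h b t) hJ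
  obtain ⟨z, hz, z1⟩ := exists_ne_one b.Z1
  have QO : Q ≤ O := t.p₁.QO.trans (e.ge.trans inf_le_left)
  have ZO : Zo S ≤ O := (l8_ZV b t).trans ((oz_le Q).trans QO)
  have n := norm_of_cent l.nml.le
  have nU : 𝐂(Zo S) ≤ 𝐍(l8c O O (Zo S) n) := fun g hg => l8c_norm (l.nml.norm hg) (l.nml.norm hg) (cent_le_norm _ hg)
  obtain ⟨w, w1, w2, w3⟩ := step l.pg ⟨le_rfl, le_norm O⟩ n fun k => hQ (QO.trans (k.trans (l8_ZV b t)))
  have UV : l8c O O (Zo S) n ≤ Zo Q := fun u hu => by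
    have a (q) (hq : q ∈ Q) := l8_ZV b t (hu.2 q (QO hq))
    have uM : u ∈ M := b.eN.le (mem_normalizer_fintype fun q hq => (mul_mem_cancel_right (inv_mem hq)).1 (oz_le Q (a q hq)))
    refine p.flag h b t (by_contra fun k => hQ (b.cen h uM k a)) (l8_ZV b t hz) fun q hq => ?_
    rcases l8_two p.c2 hz z1 (hu.2 q (QO hq)) with k | k <;> simp [k]
  exact nU.trans (p.irr h b t (U := l8c O O (Zo S) n) (fun x hx => ⟨ZO hx, fun a ha => by simp [l.nml.le ha x hx]⟩) UV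
    (fun k => w2 (k ⟨w1, fun q hq => (w3 q hq).2⟩)) (nU (p.pz b t t.p₁.yP)) ▸ b.NV)

/-- Proof: `Y = Zo O ⊴ H` contains `Zo S` (`zo_le_zo`; `O ≤ S`).  Claim `Y ≤ V`.  Else `step` (`P := S`, `N := Y`, `N₀ := V`) gives
`w ∈ Y ∖ V` with `[w,S] ≤ Y ⊓ V`; `w ∈ Q` by `b.cen`.  Let `D = O ⊔ Q`.  If `D = S` then `Y ⊓ V ≤ Zo S = ⟨z⟩`.  If `D < S` then
`D = O ⊔ ⟨d⟩` (`solc`), and `[w,q] ∈ ⟨v⟩` for `q ∈ Q`, `v = [w,d] ∈ V` (`O` centralises `w` and `v`; `d = o q₀` centralises `v`).  In both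
cases `p.flag` gives `w ∈ V`.  So for `k ∈ H`, `k z k⁻¹ ∈ V` is `fⁱ z f⁻ⁱ` (`p.trans`) and `f⁻ⁱ k ∈ C(Z) ≤ M`. -/
theorem l8b (hS : Syl 2 S ⊤) (hc : 𝐂(Zo S) ≤ M) (l : Lo H O) (SH : S ≤ H) : H ≤ M := by
  obtain ⟨z, hz, z1⟩ := exists_ne_one b.Z1
  obtain ⟨f, fM, hf⟩ := t.seven
  have hT := hS.of_le SH le_top
  have OS := l.le_syl hT
  have nY : H ≤ 𝐍(Zo O) := l.nml.norm.trans (normalizer_le_normalizer_oz O)
  have YV : Zo O ≤ Zo Q := by_contra fun k => by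
    obtain ⟨w, w1, w2, w3⟩ := step b.twoS ⟨(oz_le O).trans OS, SH.trans nY⟩ (b.SM.trans b.nV) k
    have wQ : w ∈ Q := by_contra fun k => hQ (b.cen h (b.SM (OS (oz_le O w1))) k fun q hq => (w3 q (b.QS hq)).2)
    have c {v : G} (hv : v ∈ Zo O ⊓ Zo Q) : v ∈ 𝐂(O ⊔ Q) :=
      (cent_sup O Q).ge ⟨oz_le_centralizer O hv.1, oz_le_centralizer Q hv.2⟩
    rcases (sup_le OS b.QS).eq_or_lt with e | e
    · refine w2 (p.flag h b t wQ (l8_ZV b t hz) fun q hq => ?_)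
      have a := w3 q (b.QS hq)
      rcases l8_two p.c2 hz z1 (mem_zo.2 ⟨OS (oz_le O a.1), e ▸ c a, l8_z2 a.1⟩) with k | k <;> simp [k]
    obtain ⟨d, hd, e'⟩ := solc h l hT le_sup_left e
    have a := w3 d (e.le hd)
    have cv := le_cent1_iff.2 (c a)
    have le : O ⊔ zpowers d ≤ l8c 𝐂[w * d * w⁻¹ * d⁻¹] (zpowers w) (zpowers (w * d * w⁻¹ * d⁻¹))
        fun _ hg => L72.cent_zp (mem_cent1.1 hg) := sup_le (fun x hx => ⟨cv (mem_sup_left hx), fun u hu => by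
          rcases L72.mem2 (l8_z2 w1) hu with rfl | rfl
          exacts [by simp, by simp [l8_zc w1 hx]]⟩) (zpowers_le.2 ⟨cv hd, fun u hu => by
          rcases L72.mem2 (l8_z2 w1) hu with rfl | rfl
          exacts [by simp, by simpa [mul_assoc] using inv_mem (mem_zpowers (u * d * u⁻¹ * d⁻¹))]⟩)
    refine w2 (p.flag h b t wQ a.2 fun q hq => ?_)
    simpa [mul_assoc] using inv_mem ((le (e'.ge (mem_sup_right hq))).2 w (mem_zpowers w))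
  intro k hk
  obtain ⟨i, -, e⟩ := p.trans h b t fM hf (l8_ZV b t hz) z1 (YV (conj_mem_of_norm (nY hk)
    (zo_le_zo OS ((inf_le_inf_right _ SH).trans l.sc) hz))) fun e => z1 (conj_eq_one_iff.1 e)
  refine (mul_mem_cancel_left (inv_mem (pow_mem fM i))).1 (hc (l8_cz p.c2 hz z1 ?_))
  rw [show (f ^ i)⁻¹ * k * z * ((f ^ i)⁻¹ * k)⁻¹ = (f ^ i)⁻¹ * (k * z * k⁻¹) * f ^ i by group, ← e]
  group

include lc in
/-- Proof: `N(S) ≤ N(Z) = C(Z) ≤ M` as `|Z| = 2`; `b.sylTop`, `l8b`, `t.s3o`, `t.z1`. -/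
theorem l8 (hJ : ¬ Jt S ≤ Q) : KD M S := by
  obtain ⟨z, hz, z1⟩ := exists_ne_one b.Z1
  have c := l8a h lc b t p hQ hJ
  have hS := b.sylTop fun g hg => c (l8_cz p.c2 hz z1 ((l8_two p.c2 hz z1
    (conj_mem_of_norm (normalizer_le_normalizer_oz S hg) hz)).resolve_left fun e => z1 (conj_eq_one_iff.1 e)))
  exact ⟨⟨hS, c, fun H O l n => l8b h b t p hQ hS c l ((le_norm S).trans ((norm_bm S).trans n))⟩,
    fun k => (t.s3o b).nmem3 t.p₁.y3 (k (p.pz b t t.p₁.yP)),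
    ⟨_, _, _, _, (t.s3o b).toLo, (t.swap.s3o b).toLo, t.p₁.SP, t.p₂.SP, t.gen⟩, .inr fun H O => l8b h b t p hQ hS c⟩

end Cfsg.Lib.O8E
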