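import Cfsg.Agent.Lib.O8E.Def

/-!
# Lifting subgroups and elements along `M → M/Q`
-/

set_option autoImplicit false

namespace Cfsg.Lib.O8E

open Subgroup Cfsg.Lib Cfsg.Lib.BG Cfsg.Lib.Transfer Cfsg.Lib.PLocal Cfsg.Lib.Loc
open scoped commutatorElement

universe u v

variable {G : Type u} [Group G] {X : Type v} [Group X] {M Q S K : Subgroup G} {ρ : M →* X} {A B S₀ : Subgroup X}

theorem mem_pre' {x : G} : x ∈ pre ρ A ↔ ∃ h : x ∈ M, ρ ⟨x, h⟩ ∈ A :=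
  ⟨fun h => ⟨pre_le ρ A h, (mem_pre (x := ⟨x, pre_le ρ A h⟩)).1 h⟩, fun ⟨h, e⟩ => (mem_pre (x := ⟨x, h⟩)).2 e⟩

theorem pre_mono (e : A ≤ B) : pre ρ A ≤ pre ρ B := map_mono (comap_mono e)

theorem pre_top : pre ρ ⊤ = M := by
  rw [pre, comap_top, ← MonoidHom.range_eq_map, range_subtype]

theorem pre_inf : pre ρ (A ⊓ B) = pre ρ A ⊓ pre ρ B := by
  rw [pre, comap_inf, map_inf _ _ _ M.subtype_injective]; rfl

theorem pre_conj (g : M) : pre ρ (ρ g ⋆ A) = (g : G) ⋆ pre ρ A := by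
  ext x
  rw [Transfer.mem_conj, mem_pre', mem_pre']
  constructor
  · rintro ⟨h, e⟩
    refine ⟨mul_mem (mul_mem (inv_mem g.2) h) g.2, ?_⟩
    rw [Transfer.mem_conj, ← map_inv, ← map_mul, ← map_mul] at e
    exact e
  · rintro ⟨h, e⟩
    have h' : x ∈ M := by simpa [mul_mem_cancel_left, mul_mem_cancel_right] using h
    refine ⟨h', ?_⟩
    rw [Transfer.mem_conj, ← map_inv, ← map_mul, ← map_mul]
    exact e

theorem pre_norm {g : M} (e : ρ g ∈ 𝐍(A)) : (g : G) ∈ 𝐍(pre ρ A) :=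
  conj_eq_self_iff.1 (by rw [← pre_conj, conj_eq_self_iff.2 e])

theorem pre_nml (e : Nml A B) : Nml (pre ρ A) (pre ρ B) :=
  ⟨pre_mono e.le, fun x hx => let ⟨h, k⟩ := mem_pre'.1 hx; pre_norm (g := ⟨x, h⟩) (e.norm k)⟩

namespace Ov

variable (o : Ov M Q ρ)
include o

theorem ker_eq : ρ.ker = Q.subgroupOf M := Subgroup.ext o.ker

theorem pre_bot : pre ρ ⊥ = Q := by
  rw [pre, MonoidHom.comap_bot, o.ker_eq, subgroupOf_map_subtype, inf_eq_left.2 o.le]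

theorem nml : Nml Q M := by
  have := pre_nml (ρ := ρ) (A := ⊥) (B := ⊤) ⟨bot_le, le_norm_iff.2 fun a _ h hh => by simp [mem_bot.1 hh]⟩
  rwa [o.pre_bot, pre_top] at this

theorem le_pre : Q ≤ pre ρ A := o.pre_bot.ge.trans (pre_mono bot_le)

theorem pre_sup : pre ρ (A ⊔ B) = pre ρ A ⊔ pre ρ B := by
  rw [pre, ← comap_sup_eq ρ A B o.surj, Subgroup.map_sup]; rfl

theorem pre_le_iff : pre ρ A ≤ pre ρ B ↔ A ≤ B :=
  ⟨fun e x hx => by obtain ⟨g, rfl⟩ := o.surj x; exact mem_pre.1 (e (mem_pre.2 hx)), pre_mono⟩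

theorem norm_of_pre {g : M} (e : (g : G) ∈ 𝐍(pre ρ A)) : ρ g ∈ 𝐍(A) := by
  have := (pre_conj (ρ := ρ) (A := A) g).trans (conj_eq_self_iff.2 e)
  exact conj_eq_self_iff.1 (le_antisymm (o.pre_le_iff.1 this.le) (o.pre_le_iff.1 this.ge))

theorem relIndex_pre : (pre ρ A).relIndex (pre ρ B) = A.relIndex B := by
  rw [pre, pre, relIndex_map_map_of_injective _ _ M.subtype_injective, relIndex_comap,
    map_comap_eq_self_of_surjective o.surj]

theorem relIndex_Q : Q.relIndex (pre ρ A) = Nat.card A := by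
  rw [← relIndex_bot_left, ← o.relIndex_pre, o.pre_bot]

/-- Every subgroup between `Q` and `M` is a preimage. -/
theorem exists_pre (h1 : Q ≤ K) (h2 : K ≤ M) : ∃ A : Subgroup X, pre ρ A = K :=
  ⟨(K.subgroupOf M).map ρ, by
    rw [pre, comap_map_eq, o.ker_eq, sup_eq_left.2 (subgroupOf_mono M h1), subgroupOf_map_subtype, inf_eq_left.2 h2]⟩

theorem pg_ker (hQ : IsPGroup 2 Q) : IsPGroup 2 ρ.ker := o.ker_eq ▸ hQ.comap_subtype

theorem pg_pre (hQ : IsPGroup 2 Q) (hA : IsPGroup 2 A) : IsPGroup 2 (pre ρ A) :=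
  (hA.comap_of_ker_isPGroup ρ (o.pg_ker hQ)).map _

theorem card_cent (y : M) : Nat.card ↥(Q ⊓ 𝐂[(y : G)]) = Nat.card ↥(ρ.ker ⊓ 𝐂[y]) := by
  rw [← card_map_of_injective M.subtype_injective (K := ρ.ker ⊓ 𝐂[y])]
  congr 2
  ext x
  constructor
  · intro h
    exact ⟨⟨x, o.le h.1⟩, ⟨(o.ker _).2 h.1, mem_cent1.2 (Subtype.ext (mem_cent1.1 h.2))⟩, rfl⟩
  · rintro ⟨x, h, rfl⟩
    exact ⟨(o.ker _).1 h.1, mem_cent1.2 (congrArg Subtype.val (mem_cent1.1 h.2))⟩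

variable [Finite G]

theorem syl_pre (hQ : IsPGroup 2 Q) (h0 : Syl 2 S₀ ⊤) : Syl 2 (pre ρ S₀) M := by
  have := Finite.of_surjective ρ o.surj
  refine Syl.mk' (pre_le _ _) (o.pg_pre hQ h0.pgroup) ?_
  have := o.relIndex_pre (A := S₀) (B := ⊤)
  rw [pre_top] at this
  rw [this]
  exact h0.not_dvd'

/-- Proof: `pre ρ S₀` and `S` are conjugate by some `g ∈ M`; compose `ρ` with conjugation by `ρ g`. -/
theorem normalize (hQ : IsPGroup 2 Q) (hS : Syl 2 S M) (h0 : Syl 2 S₀ ⊤) :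
    ∃ ρ' : M →* X, Ov M Q ρ' ∧ pre ρ' S₀ = S := by
  obtain ⟨g, hg, e⟩ := (o.syl_pre hQ h0).exists_conj_eq hS
  refine ⟨(MulAut.conj (ρ ⟨g, hg⟩)⁻¹).toMonoidHom.comp ρ, ⟨o.le, (MulAut.conj _).surjective.comp o.surj, fun x => ?_⟩, ?_⟩
  · rw [← o.ker]
    exact (MulAut.conj (ρ ⟨g, hg⟩)⁻¹).map_eq_one_iff
  · rw [e]
    refine Eq.trans ?_ (pre_conj ⟨g, hg⟩)
    ext x
    simp only [mem_pre', Transfer.mem_conj]
    simp

/-- A subgroup of odd prime power order lifts isomorphically. -/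
theorem lift_grp (hQ : IsPGroup 2 Q) {r : ℕ} (hr : r.Prime) (h2 : r ≠ 2) (hA : IsPGroup r A) :
    ∃ P : Subgroup M, P.map ρ = A ∧ Function.Injective (ρ.comp P.subtype) := by
  have := Finite.of_surjective ρ o.surj
  have := Fact.mk hr
  obtain ⟨P, hP⟩ := Syl.exists (p := r) (A.comap ρ)
  have h1 : Syl r (P.map ρ) A := map_comap_eq_self_of_surjective o.surj A ▸ hP.map ρ
  refine ⟨P, h1.eq_of_le_pgroup h1.le le_rfl hA, (injective_iff_map_eq_one _).2 fun x hx => Subtype.ext ?_⟩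
  exact disjoint_def.1 (IsPGroup.disjoint_of_ne r 2 h2 _ _ hP.pgroup (o.pg_ker hQ)) x.2 hx

/-- Elements of odd prime order lift (replace a lift `g` by `g ^ (2 ^ k * m)` with `2 ^ k * m ≡ 1 mod r`). -/
theorem lift_odd (hQ : IsPGroup 2 Q) {r : ℕ} (hr : r.Prime) (h2 : r ≠ 2) {y : X} (hy : orderOf y = r) :
    ∃ g : M, ρ g = y ∧ orderOf (g : G) = r := by
  obtain ⟨P, e, i⟩ := o.lift_grp hQ hr h2 (A := zpowers y) (.of_card (n := 1) (by rw [Nat.card_zpowers, hy, pow_one]))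
  obtain ⟨g, hg, rfl⟩ := e.ge (mem_zpowers y)
  exact ⟨g, rfl, by rw [orderOf_coe, ← hy]; exact (orderOf_mk _ hg).symm.trans (orderOf_injective _ i ⟨g, hg⟩).symm⟩

set_option linter.unusedSectionVars false in
theorem order_big (h : Om8 G) {r : ℕ} (hr : r = 5 ∨ r = 7) {g : M} (e : orderOf (ρ g) = r) :
    orderOf (g : G) = r :=
  h.order_big hr (by rw [orderOf_coe, ← e]; exact orderOf_map_dvd ρ g)

/-- An element of odd prime order keeps its order modulo `Q`. -/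
theorem order_map (hQ : IsPGroup 2 Q) {r : ℕ} (hr : r.Prime) (h2 : r ≠ 2) {g : M} (e : orderOf (g : G) = r) :
    orderOf (ρ g) = r := by
  have := Fact.mk hr
  refine ((Nat.dvd_prime hr).1 (by rw [← e, orderOf_coe]; exact orderOf_map_dvd ρ g)).resolve_left fun k => h2 ?_
  exact pgroup_eq_of_dvd hQ hr (e ▸ Q.orderOf_dvd_natCard ((o.ker g).1 (orderOf_eq_one_iff.1 k)))

/-- Proof: the Sylow `3`-subgroup of `pre ρ ⟨a, b⟩` maps isomorphically onto `⟨a, b⟩`. -/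
theorem lift_e9 (hQ : IsPGroup 2 Q) {a b : X} (e : L72.E9 a b) :
    ∃ a' b' : M, ρ a' = a ∧ ρ b' = b ∧ L72.E9 (a' : G) (b' : G) := by
  have := Finite.of_surjective ρ o.surj
  obtain ⟨P, k, i⟩ := o.lift_grp hQ Nat.prime_three (by norm_num) e.pg
  obtain ⟨a', ha, rfl⟩ := k.ge (mem_sup_left (mem_zpowers a))
  obtain ⟨b', hb, rfl⟩ := k.ge (mem_sup_right (mem_zpowers b))
  have od : ∀ g (hg : g ∈ P), orderOf (g : G) = orderOf (ρ g) := fun g hg => by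
    rw [orderOf_coe]; exact (orderOf_mk _ hg).symm.trans (orderOf_injective _ i ⟨g, hg⟩).symm
  refine ⟨a', b', rfl, rfl, (od _ ha).trans e.ox, (od _ hb).trans e.oy, ?_, fun ⟨n, hn⟩ => e.n ⟨n, ?_⟩⟩
  · have : (⟨a', ha⟩ * ⟨b', hb⟩ : P) = ⟨b', hb⟩ * ⟨a', ha⟩ := i (by rw [map_mul, map_mul]; exact e.cm)
    exact congrArg (fun x : P => ((x : M) : G)) this
  · rw [← show b' ^ n = a' from Subtype.ext hn, map_zpow]

end Ov

/-- The kernel of a surjection from a subgroup. -/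
theorem ov_ker (hρ : Function.Surjective ρ) : Ov M (ρ.ker.map M.subtype) ρ :=
  ⟨map_subtype_le _, hρ, fun x => (mem_map_iff_mem (K := ρ.ker) (x := x) M.subtype_injective).symm⟩

end Cfsg.Lib.O8E
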