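import Cfsg.Agent.Lib.O8E.Lift

/-!
# Lifting the data of the four types
-/

set_option autoImplicit false

namespace Cfsg.Lib.O8E

open Subgroup Cfsg.Lib Cfsg.Lib.BG Cfsg.Lib.Transfer Cfsg.Lib.PLocal Cfsg.Lib.Loc
open scoped commutatorElement

universe u v

variable {G : Type u} [Group G] [Finite G] {X : Type v} [Group X] {M Q S : Subgroup G} {ρ : M →* X}
  {S₀ O₀ P₀ O₁ O₂ P₁ P₂ : Subgroup X}

section Cnt

variable {Y : Subgroup G} {a g k : G}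

omit [Finite G] in
theorem l2_idx (hg : g ∈ 𝐍(Y)) (a : G) : 𝐂[g * a * g⁻¹].relIndex Y = 𝐂[a].relIndex Y := by
  rw [← conj_cent1, ← relIndex_conj g 𝐂[a] Y, conj_eq_of_norm hg]

omit [Finite G] in
theorem l2_bot {A : Subgroup G} (e : Y ⊓ A = ⊥) : A.relIndex Y = Nat.card Y := by
  rw [← inf_relIndex_left, e, relIndex_bot_left]

theorem l2_two (hg : g ∈ 𝐍(Y)) (e : Y ⊓ (𝐂[a] ⊓ 𝐂[g * a * g⁻¹]) = ⊥) : Nat.card ↥(Y ⊓ 𝐂[a]) ^ 2 ≤ Nat.card Y := by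
  have h1 := relIndex_inf_le (H := 𝐂[a]) (K := 𝐂[g * a * g⁻¹]) (L := Y)
  have h2 := Core.card_inf_mul_relIndex 𝐂[a] Y
  rw [l2_bot e, l2_idx hg, ← h2] at h1
  rw [inf_comm, ← h2, sq]
  exact Nat.mul_le_mul_left _ (Nat.le_of_mul_le_mul_right h1 (Nat.pos_of_mul_pos_left (h2 ▸ Nat.card_pos)))

theorem l2_three (hg : g ∈ 𝐍(Y)) (hk : k ∈ 𝐍(Y)) (e : Y ⊓ (𝐂[a] ⊓ 𝐂[g * a * g⁻¹] ⊓ 𝐂[k * a * k⁻¹]) = ⊥) :
    Nat.card ↥(Y ⊓ 𝐂[a]) ^ 3 ≤ Nat.card Y ^ 2 := by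
  have h1 := (relIndex_inf_le (H := 𝐂[a] ⊓ 𝐂[g * a * g⁻¹]) (K := 𝐂[k * a * k⁻¹]) (L := Y)).trans
    (Nat.mul_le_mul_right _ relIndex_inf_le)
  have h2 := Core.card_inf_mul_relIndex 𝐂[a] Y
  rw [l2_bot e, l2_idx hg, l2_idx hk, ← h2] at h1
  rw [inf_comm, ← h2, mul_pow, pow_succ, sq (relIndex _ _)]
  exact Nat.mul_le_mul_left _ (Nat.le_of_mul_le_mul_right h1 (Nat.pos_of_mul_pos_left (h2 ▸ Nat.card_pos)))

end Cnt

omit [Finite G] in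
theorem l2_all {A : Subgroup X} {P : G → Prop} (h : ∀ x : M, ρ x ∈ A → P x) : ∀ x ∈ pre ρ A, P x := by
  rintro _ ⟨x, hx, rfl⟩
  exact h x hx

namespace Ov

variable (o : Ov M Q ρ)
include o

omit [Finite G] in
theorem l2_yf {A : Subgroup X} {y : M} (e : ∀ a ∈ A, a * ρ y * a⁻¹ * (ρ y)⁻¹ ∈ (⊥ : Subgroup X) → a ∈ (⊥ : Subgroup X)) :
    ∀ a ∈ pre ρ A, a * y * a⁻¹ * (y : G)⁻¹ ∈ Q → a ∈ Q := l2_all fun x hx k =>
  (o.ker x).1 (e _ hx (by simpa using (o.ker (x * y * x⁻¹ * y⁻¹)).2 k))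

omit [Finite G] in
theorem l2_idx {A : Subgroup X} {n : ℕ} (e : (⊥ : Subgroup X).relIndex A = n) : Q.relIndex (pre ρ A) = n :=
  o.relIndex_Q.trans ((relIndex_bot_left A).symm.trans e)

omit [Finite G] in
theorem l2_mx {A : Subgroup X} (e : ∀ K, A ≤ K → K ≤ ⊤ → K = A ∨ K = ⊤) (K : Subgroup G) (h1 : pre ρ A ≤ K) (h2 : K ≤ M) :
    K = pre ρ A ∨ K = M := by
  obtain ⟨B, rfl⟩ := o.exists_pre (o.le_pre.trans h1) h2
  exact (e B (o.pre_le_iff.1 h1) le_top).imp (congrArg _) fun e => by rw [e, pre_top]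

/-- All fields are transported with the `pre` lemmas of `Lift` (`exists_pre` for `ovr`, `mem_pre`, `o.ker`). -/
theorem ta0 {y t : M} (hy : orderOf (y : G) = 3) (a : TA0 ⊤ ⊥ S₀ (ρ y) (ρ t)) : TA0 M Q (pre ρ S₀) y t := by
  refine ⟨o.l2_idx a.idx4, hy, y.2, pre_norm a.yS, o.l2_yf a.yf, fun K h1 h2 => ?_, t.2,
    (o.ker (t * y * t⁻¹ * y)).1 (by simpa using a.ty), by rw [← pre_conj, ← o.pre_sup, a.gen, pre_top]⟩
  obtain ⟨B, rfl⟩ := o.exists_pre (o.le_pre.trans h1) h2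
  exact (a.ovr B (o.pre_le_iff.1 h1) le_top).imp pre_mono mem_pre.2

theorem pb {y : M} (hy : orderOf (y : G) = 3) (a : Pb ⊥ S₀ O₀ P₀ (ρ y)) :
    Pb Q (pre ρ S₀) (pre ρ O₀) (pre ρ P₀) y :=
  ⟨o.le_pre, pre_mono a.OS, pre_mono a.SP, pre_nml a.nO, o.l2_idx a.i4,
    l2_all fun x hx => (o.ker (x * x)).1 (by simpa using a.sq _ hx), o.relIndex_pre.trans a.i3, hy, mem_pre.2 a.yP, o.l2_yf a.yf⟩

theorem td {y₁ y₂ : M} (h₁ : orderOf (y₁ : G) = 3) (h₂ : orderOf (y₂ : G) = 3)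
    (a : TD ⊤ ⊥ S₀ O₁ O₂ P₁ P₂ (ρ y₁) (ρ y₂)) :
    TD M Q (pre ρ S₀) (pre ρ O₁) (pre ρ O₂) (pre ρ P₁) (pre ρ P₂) y₁ y₂ := by
  refine ⟨o.pb h₁ a.p₁, o.pb h₂ a.p₂, o.l2_idx a.idx8, by rw [← o.pre_sup, a.sup], l2_all fun x hx k =>
    (a.inv _ hx (by simpa using (o.ker (x * x)).2 k)).imp mem_pre.2 mem_pre.2, fun k => a.nab (comm_le_iff.2 fun u hu v hv => ?_),
    by rw [← o.pre_sup, a.gen, pre_top], o.l2_mx a.mx₁, o.l2_mx a.mx₂, fun g hg =>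
      (mem_pre (x := ⟨g, hg.1⟩)).2 (a.nS ⟨trivial, o.norm_of_pre hg.2⟩)⟩
  obtain ⟨u, rfl⟩ := o.surj u
  obtain ⟨v, rfl⟩ := o.surj v
  simpa using (o.ker (u * v * u⁻¹ * v⁻¹)).2 (comm_le_iff.1 k _ (mem_pre.2 hu) _ (mem_pre.2 hv))

/-- Proof: `clo`: the image of `D` is normal and nontrivial, lift with `o.order_big`.  `cQ`: `C(Q) ≤ N(Q) ≤ M` (`mx`), and
`C(Q) ⊴ M`; `clo` and `h.fpf` give `Q = 1` otherwise.  `el4`: `|E| = |E ⊓ Q| ⬝ |ρ(E)|`.  `out`: else `|X| = |M:Q|` is odd. -/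
theorem bs (h : Om8 G) (p : Pre M Q S) (x : Xb X) : Bs M Q S := by
  have hQ := pgroup_of_le p.syl.pgroup p.QS
  have clo (D) (hD : Nml D M) (n : ¬ D ≤ Q) : ∃ f ∈ D, orderOf f = 5 ∨ orderOf f = 7 := by
    obtain ⟨_, ⟨g, hg, rfl⟩, e⟩ := x.clo ((D.subgroupOf M).map ρ) (hD.normal.map ρ o.surj) fun k => n fun d hd =>
      (o.ker ⟨d, hD.le hd⟩).1 (mem_bot.1 (k.le ⟨_, hd, rfl⟩))
    exact ⟨g, hg, o.order_big h e rfl ▸ e⟩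
  refine ⟨p, by_contra fun n => ?_, clo, fun E hE el => ?_, fun k => p.syl.not_dvd' ?_⟩
  · obtain ⟨f, hf, e⟩ := clo _ ⟨(cent_le_norm Q).trans (p.mx Q hQ p.ne p.nQ.norm), norm_cent p.nQ.norm⟩ n
    exact p.ne ((inf_eq_left.2 (le_cent1_iff.2 hf)).symm.trans (h.fpf hQ e))
  · have := x.el4 ((E.subgroupOf M).map ρ) (PGroup.elemAb_two_iff.2 (by
      rintro _ ⟨g, hg, rfl⟩
      rw [← map_pow, show g ^ 2 = 1 from Subtype.ext (el.2 g hg), map_one]))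
    rw [← relIndex_ker, o.ker_eq, relIndex_subgroupOf (hE.trans p.syl.le)] at this
    rw [← Core.card_inf_mul_relIndex Q E, inf_comm, mul_comm]
    exact Nat.mul_le_mul_right _ this
  · rw [le_antisymm k p.QS, ← pre_top (ρ := ρ), o.relIndex_Q, card_top]
    exact x.ev

/-- Proof: lift `g`; `Y ⊓ C(a)` and `Y ⊓ C(a^g)` have the same order and meet in `Y ⊓ C(a a^g)`, which is trivial: `a a^g`
has order `5` (`o.order_big`, `h.fpf`), or order `3` or `6` and then `(a a^g)²` has order `3` (`h3`).  Two subgroups `A, B ≤ Y`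
satisfy `|A| |B| ≤ |Y| |A ⊓ B|` (via `relIndex_inf_le`/`index_inf_le`, or an injection `A × B → Y`). -/
theorem bd1 (h : Om8 G) (hQ : IsPGroup 2 Q) (hS : S ≤ M) (e : ∀ a : X, a ≠ 1 → a * a = 1 → ∃ g,
    orderOf (a * (g * a * g⁻¹)) = 5 ∨ orderOf (a * (g * a * g⁻¹)) = 3 ∧ ∀ y ∈ M, orderOf y = 3 → Q ⊓ 𝐂[y] = ⊥) :
    Bd M Q S 1 := by
  intro a ha n a2 Y hY hM
  obtain ⟨g, e⟩ := e (ρ ⟨a, hS ha⟩) (fun k => n ((o.ker _).1 k)) (by rw [← map_mul]; exact (o.ker _).2 a2)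
  obtain ⟨g, rfl⟩ := o.surj g
  rw [← map_inv, ← map_mul, ← map_mul, ← map_mul] at e
  have k {z} (hz : z ∈ Y ⊓ (𝐂[a] ⊓ 𝐂[g * a * (g : G)⁻¹])) : a * (g * a * (g : G)⁻¹) ∈ 𝐂[z] :=
    mul_mem (mem_cent1_symm hz.2.1) (mem_cent1_symm hz.2.2)
  rw [pow_one]
  refine l2_two (hM g.2) (eq_bot_iff.2 fun z hz => ?_)
  rcases e with e | ⟨e, e'⟩
  · exact (h.fpf hQ (.inl (o.order_big h (.inl rfl) e))).le ⟨hY hz.1, mem_cent1_symm (k hz)⟩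
  · have d := orderOf_map_dvd ρ (⟨a, hS ha⟩ * (g * ⟨a, hS ha⟩ * g⁻¹))
    rw [e, ← orderOf_coe] at d
    refine (e' _ (pow_mem (mul_mem (hS ha) (conj_mem_of_norm (le_norm M g.2) (hS ha))) 2) ?_).le
      ⟨hY hz.1, mem_cent1_symm (pow_mem (k hz) 2)⟩
    rcases h.order_three d with e | e <;> rw [orderOf_pow' _ two_ne_zero, show orderOf (a * (g * a * (g : G)⁻¹)) = _ from e] <;> rfl

/-- Proof: three conjugate centralisers of index `i = |Y : Y ⊓ C(a)|` meet trivially, so `|Y| ≤ i³` (`relIndex_inf_le`). -/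
theorem bd2 (h : Om8 G) (hQ : IsPGroup 2 Q) (hS : S ≤ M) (e : ∀ a : X, a ≠ 1 → a * a = 1 → ∃ g k,
    orderOf (a * (g * a * g⁻¹) * (k * a * k⁻¹)) = 7) : Bd M Q S 2 := by
  intro a ha n a2 Y hY hM
  obtain ⟨g, k, e⟩ := e (ρ ⟨a, hS ha⟩) (fun k => n ((o.ker _).1 k)) (by rw [← map_mul]; exact (o.ker _).2 a2)
  obtain ⟨g, rfl⟩ := o.surj g
  obtain ⟨k, rfl⟩ := o.surj k
  simp only [← map_inv, ← map_mul] at e
  exact l2_three (hM g.2) (hM k.2) (eq_bot_iff.2 fun z hz => (h.fpf hQ (.inr (o.order_big h (.inr rfl) e))).le ⟨hY hz.1,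
    mem_cent1_symm (mul_mem (mul_mem (mem_cent1_symm hz.2.1.1) (mem_cent1_symm hz.2.1.2)) (mem_cent1_symm hz.2.2))⟩)

theorem yb (h : Om8 G) (hQ : IsPGroup 2 Q) {y : M} (e : ∃ g, orderOf ((ρ y)⁻¹ * (g * ρ y * g⁻¹)) = 7) :
    ∀ Y ≤ Q, M ≤ 𝐍(Y) → Nat.card ↥(Y ⊓ 𝐂[(y : G)]) ^ 2 ≤ Nat.card Y := by
  intro Y hY hM
  obtain ⟨g, e⟩ := e
  obtain ⟨g, rfl⟩ := o.surj g
  simp only [← map_inv, ← map_mul] at e
  exact l2_two (hM g.2) (eq_bot_iff.2 fun z hz => (h.fpf hQ (.inr (o.order_big h (.inr rfl) e))).le ⟨hY hz.1,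
    mem_cent1_symm (mul_mem (inv_mem (mem_cent1_symm hz.2.1)) (mem_cent1_symm hz.2.2))⟩)

/-- Proof: `L = pre ρ φ.range`; the map to `A₅` is `(MonoidHom.ofInjective hφ).symm ∘ (ρ restricted to L)`. -/
theorem pa (hQ : IsPGroup 2 Q) (cQ : 𝐂(Q) ≤ Q) {φ : A5 →* X} (hφ : Function.Injective φ) (h1 : O₀ ≤ φ.range)
    (h4 : Nat.card O₀ = 4) : PA (pre ρ φ.range) Q (pre ρ O₀) := by
  refine ⟨⟨(MonoidHom.ofInjective hφ).symm.toMonoidHom.comp ((ρ.comp (inclusion (pre_le ρ φ.range))).codRestrict φ.range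
    fun x => (mem_pre (ρ := ρ) (x := inclusion (pre_le ρ φ.range) x)).1 x.2), o.le_pre, fun a => ?_, fun x => ?_⟩, hQ, o.le_pre, pre_mono h1, o.relIndex_Q.trans h4,
    inf_le_right.trans cQ⟩
  · obtain ⟨g, hg⟩ := o.surj (φ a)
    exact ⟨⟨g, mem_pre.2 ⟨a, hg.symm⟩⟩, (MonoidHom.ofInjective hφ).symm_apply_eq.2 (Subtype.ext hg)⟩
  · exact (MonoidHom.ofInjective hφ).symm.map_eq_one_iff.trans
      (Subtype.ext_iff.trans (o.ker (inclusion (pre_le ρ φ.range) x)))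

end Ov

end Cfsg.Lib.O8E
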