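import Cfsg.Agent.Lib.O8E.TDa
import Cfsg.Agent.Lib.O8E.K0

/-!
# No failure of factorisation: the bound `|V| ≤ 8 |Z|`
-/

set_option autoImplicit false

namespace Cfsg.Lib.O8E

open Subgroup Cfsg.Lib Cfsg.Lib.BG Cfsg.Lib.Transfer Cfsg.Lib.PLocal Cfsg.Lib.Loc
open scoped commutatorElement

universe u v

variable {G : Type u} [Group G] [Finite G] {M O Q S O₁ O₂ P₁ P₂ : Subgroup G} {y₁ y₂ : G}

/-- Proof: `C = C(Zo S)`, `V₁ = Zo Q ⊓ O ⊴ S`.  `N = V₁ ⊓ g V₁ g⁻¹` is normal in `O` and centralised by `Q ⊔ g Q g⁻¹ ∋ x` of order `3`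
(`S3o.gen`), so `N ≤ C(O)` (`k0n`); `S = O ⊔ Q` (`S3o.sup_eq`) gives `N ≤ Zo S`. -/
theorem nf1 (h : Om8 G) (b : Bs M Q S) (s : S3o 𝐂(Zo S) O S) (hQ : ¬ Q ≤ O) {g : G} (hg : g ∈ 𝐂(Zo S)) (g1 : g ∉ S) :
    Zo Q ⊓ O ⊓ g ⋆ (Zo Q ⊓ O) ≤ Zo S := by
  have SC := s.syl.le
  have n1 : S ≤ 𝐍(Zo Q ⊓ O) := norm_inf (b.SM.trans b.nV) (SC.trans s.nml.norm)
  have n2 : O ≤ 𝐍(g ⋆ (Zo Q ⊓ O)) := by
    rw [← conj_normalizer]
    exact (conj_eq_of_norm (s.nml.norm hg)).ge.trans (map_mono (s.OS.trans n1))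
  have c1 : Zo Q ⊓ O ≤ 𝐂(Q) := inf_le_left.trans (oz_le_centralizer Q)
  have c2 : g ⋆ (Zo Q ⊓ O) ≤ 𝐂(g ⋆ Q) := by
    rw [← conj_centralizer]
    exact map_mono c1
  obtain ⟨x, hx, x3⟩ := s.gen b.QS hQ hg g1
  have xC : x ∈ 𝐂(Zo S) := sup_le (b.QS.trans SC) (conj_le_of_mem (b.QS.trans SC) hg) hx
  have k := k0n h s.pg x3 (s.nml.norm xC) (N := Zo Q ⊓ O ⊓ g ⋆ (Zo Q ⊓ O))
    ⟨inf_le_left.trans inf_le_right, norm_inf (s.OS.trans n1) n2⟩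
    ((le_cent_sup (inf_le_left.trans c1) (inf_le_right.trans c2)).trans (cent_le_cent1 hx))
  refine le_oz (PGroup.elemAb_of_le (oz_elemAb Q) (inf_le_left.trans inf_le_left))
    (inf_le_left.trans (inf_le_right.trans s.OS)) ?_
  rw [← s.sup_eq b.QS hQ]
  exact le_cent_sup k (inf_le_left.trans c1)

/-- Proof: `B = Bm S ≤ C_S(Zo Q) ≤ Q` (`PU.le_zj`, `b.cV`), so `Q ≰ O`; `Jt S ≰ O`, else `C ≤ N(O) ≤ N(Jt O) = N(Jt Q) ≤ M` (`mx`) and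
`C ≤ S`.  Let `x ∈ C` have order `3`, `U = x V₁ x⁻¹ ≤ O`.  For `a ∈ S ∖ O`: `x⁻¹ a x ∉ S` (`S3o.cap`), so
`U ⊓ C(a) ≤ U ⊓ a U a⁻¹ = x (V₁ ⊓ g V₁ g⁻¹) x⁻¹ ≤ Zo S` (`nf1`, `g = x⁻¹ a x`).  If `a ∈ V ∖ O`: `U ⊓ Q ≤ C(a)`, `|U| ≤ 4 |Z|` (`el4`),
`|V| ≤ 2 |V₁|`.  If `V ≤ O`: take `A ∈ maxIn 2 S`, `a ∈ A ∖ O`, `A₀ = A ⊓ O` (index `2`), `A₁ = A₀ ⊓ x Q x⁻¹`, `|A₀| ≤ 4 |A₁|` (`el4` for
`x⁻¹ A₀ x`); `A₁ ⊔ U ≤ S` is elementary, so `|A₁| |U| ≤ |A| |A₁ ⊓ U| ≤ 8 |A₁| |Z|`. -/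
theorem nf2 (h : Om8 G) (b : Bs M Q S) (hJ : Jt S ≤ Q) (bad : Bad M S O) : Nat.card (Zo Q) ≤ 8 * Nat.card (Zo S) := by
  have s := bad.s3
  have VS : Zo Q ≤ S := (oz_le Q).trans b.QS
  have hQ : ¬ Q ≤ O := fun H => bad.nb (((inf_le_right.trans (cent_anti (PU.le_zj (oz_elemAb Q) VS
    ((oz_le_centralizer Q).trans (cent_anti hJ))))).trans (b.cV h)).trans H)
  obtain ⟨x, xC, x3⟩ := s.ex3
  have xS := s.nmem3 x3
  have xO := s.nml.norm xC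
  have hJO : ¬ Jt S ≤ O := fun H => by
    have e1 : Jt O = Jt S := thompsonSubgroupOf_eq_of_le H s.OS
    have e2 : Jt Q = Jt S := thompsonSubgroupOf_eq_of_le hJ b.QS
    exact xS (bad.cm ⟨xC, b.mx (Jt S) (pgroup_of_le b.twoS (thompsonSubgroupOf_le S))
      (thompsonSubgroupOf_ne_bot (.inr rfl) b.twoS (ne_bot_mono b.ne b.QS))
      (e2 ▸ b.nQ.norm.trans (normalizer_le_normalizer_thompsonSubgroupOf Q))
      (e1 ▸ normalizer_le_normalizer_thompsonSubgroupOf O xO)⟩)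
  have key : ∀ a ∈ S, a ∉ O → x ⋆ (Zo Q ⊓ O) ⊓ 𝐂[a] ≤ Zo S := fun a ha a1 u hu => by
    have g1 : x⁻¹ * a * x ∉ S := fun H => a1 (s.cap xC xS ⟨ha, Transfer.mem_conj.2 H⟩)
    have h1 := Transfer.mem_conj.1 hu.1
    have h2 := nf1 h b s hQ (mul_mem (mul_mem (inv_mem xC) (s.syl.le ha)) xC) g1 ⟨h1, Transfer.mem_conj.2 (by
      rwa [show (x⁻¹ * a * x)⁻¹ * (x⁻¹ * u * x) * (x⁻¹ * a * x) = x⁻¹ * (a⁻¹ * (u * a)) * x by group,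
        mem_cent1.1 hu.2, inv_mul_cancel_left])⟩
    rwa [show u = x * (x⁻¹ * u * x) * x⁻¹ by group, ← mem_cent.1 xC _ h2, mul_inv_cancel_right]
  have two : ∀ A ≤ S, Nat.card A ≤ 2 * Nat.card ↥(A ⊓ O) := fun A hA => by
    rw [← PGroup.card_inf_mul_relIndex O A, inf_comm, mul_comm]
    exact Nat.mul_le_mul_right _ (Nat.le_of_dvd two_pos
      (s.i2 ▸ relIndex_dvd_of_norm hA (s.syl.le.trans s.nml.norm)))
  have eU : IsElementaryAbelian 2 (x ⋆ (Zo Q ⊓ O)) :=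
    PGroup.elemAb_map _ (PGroup.elemAb_of_le (oz_elemAb Q) inf_le_left)
  have US : x ⋆ (Zo Q ⊓ O) ≤ S := (conj_le_of_norm inf_le_right xO).trans s.OS
  by_cases hV : Zo Q ≤ O
  swap
  · obtain ⟨a, ha, a1⟩ := SetLike.not_le_iff_exists.1 hV
    have h1 := b.el4 _ US eU
    have h2 := card_le_of_le ((inf_le_inf_left _ ((le_centralizer_oz Q).trans (cent_le_cent1 ha))).trans
      (key a (VS ha) a1))
    have h3 := two _ VS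
    rw [Transfer.card_conj] at h1
    omega
  rw [Jt, thompsonSubgroupOf_le_iff] at hJO
  push Not at hJO
  obtain ⟨A, hA, AO⟩ := hJO
  obtain ⟨a, ha, a1⟩ := SetLike.not_le_iff_exists.1 AO
  have h1 := b.el4 (x⁻¹ ⋆ (A ⊓ O)) ((conj_le_of_norm inf_le_right (inv_mem xO)).trans s.OS)
    (PGroup.elemAb_map _ (PGroup.elemAb_of_le hA.2.1 inf_le_left))
  rw [Transfer.card_conj, ← Transfer.card_conj x (_ ⊓ Q)] at h1
  have l1 : x ⋆ (x⁻¹ ⋆ (A ⊓ O) ⊓ Q) ≤ A :=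
    (map_mono inf_le_left).trans ((Transfer.conj_inv_conj x _).le.trans inf_le_left)
  have c1 : x ⋆ (x⁻¹ ⋆ (A ⊓ O) ⊓ Q) ≤ 𝐂(x ⋆ (Zo Q ⊓ O)) := by
    rw [← conj_centralizer]
    exact map_mono (inf_le_right.trans ((le_centralizer_oz Q).trans (cent_anti inf_le_left)))
  generalize x ⋆ (x⁻¹ ⋆ (A ⊓ O) ⊓ Q) = A₁ at h1 l1 c1
  have h2 := Core.card_sup_mul_card_inf (c1.trans (cent_le_norm _))
  have h3 := hA.2.2 _ (sup_le (l1.trans hA.1) US)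
    (PGroup.elemAb_sup (PGroup.elemAb_of_le hA.2.1 l1) eU c1)
  have h4 := card_le_of_le ((le_inf inf_le_right (inf_le_left.trans (l1.trans
    ((PGroup.elemAb_le_centralizer hA.2.1).trans (cent_le_cent1 ha))))).trans (key a (hA.1 ha) a1))
  have h5 := two A hA.1
  have h6 := Nat.mul_le_mul (show _ ≤ 8 * Nat.card A₁ from h3.trans (by omega)) h4
  rw [h2, Transfer.card_conj, inf_eq_left.2 hV] at h6
  exact Nat.le_of_mul_le_mul_left (c := Nat.card A₁) (h6.trans_eq (by ring)) Nat.card_pos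

/-- Proof: `Z < Vᵢ = Zo Oᵢ` (else `t.z1` contradicts `cm` and `i3`), `V₁ ⊓ V₂ = Z`, and `V₁V₂ ≤ V ⊓ C(s)` (`t.exs`), whose order `c`
satisfies `c ≥ 4 |Z| ≥ 8`, `2 c ≥ |V|`, `c³ ≤ |V|² ≤ 4 c²`. -/
theorem dkill (b : Bs M Q S) (t : TD M Q S O₁ O₂ P₁ P₂ y₁ y₂) (bd : Bd M Q S 2) (cm : 𝐂(Zo S) ⊓ M ≤ S)
    (e : Nat.card (Zo Q) ≤ 8 * Nat.card (Zo S)) : False := by
  have k : ∀ {O₁ O₂ P₁ P₂ : Subgroup G} {y₁ y₂ : G}, TD M Q S O₁ O₂ P₁ P₂ y₁ y₂ →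
      2 * Nat.card (Zo S) ≤ Nat.card (Zo O₁) := fun t =>
    PGroup.mul_card_le_of_lt (PGroup.elemAb_isPGroup (oz_elemAb _)) (lt_of_le_not_ge (t.zle b) fun H => by
      have := t.p₁.i3
      rw [relIndex_eq_one.2 ((le_inf (t.z1 b H) t.PM).trans cm)] at this
      omega)
  obtain ⟨s, s1, s2, s3⟩ := t.exs
  have h1 := bd s (t.p₁.OS s1) s3 (t.p₁.sq s s1) _ (oz_le Q) b.nV
  have h2 := Core.card_sup_mul_card_inf (H := Zo O₁) (N := Zo O₂) (norm_of_cent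
    (cent_mono (PGroup.elemAb_le_centralizer (oz_elemAb Q)) (t.zV b) (t.swap.zV b)))
  have h3 := card_le_of_le (t.zinf b)
  have h4 := card_le_of_le (sup_le (le_inf (t.zV b) ((oz_le_centralizer _).trans (cent_le_cent1 s1)))
    (le_inf (t.swap.zV b) ((oz_le_centralizer _).trans (cent_le_cent1 s2))))
  have h5 := Nat.mul_le_mul (k t) (k t.swap)
  have h6 : 1 < Nat.card (Zo S) := lt_of_le_of_ne Nat.card_pos (card_ne_one b.Z1).symm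
  have h7 := Nat.mul_le_mul h4 h3
  have h8 : 4 * Nat.card (Zo S) ≤ Nat.card ↥(Zo Q ⊓ 𝐂[s]) :=
    Nat.le_of_mul_le_mul_right (c := Nat.card (Zo S)) (by nlinarith) Nat.card_pos
  have h9 := h1.trans (Nat.pow_le_pow_left (e.trans (show _ ≤ 2 * Nat.card ↥(Zo Q ⊓ 𝐂[s]) by omega)) 2)
  have : 8 ≤ Nat.card ↥(Zo Q ⊓ 𝐂[s]) := by omega
  generalize Nat.card ↥(Zo Q ⊓ 𝐂[s]) = c at h9 this
  have := Nat.le_of_mul_le_mul_right (a := c) (b := 4) (c := c * c)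
    ((show c * (c * c) = c ^ (2 + 1) by ring).trans_le (h9.trans_eq (by ring))) (by positivity)
  omega

end Cfsg.Lib.O8E
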