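import Cfsg.Agent.Lib.O8E.Ty
import Cfsg.Agent.Lib.Core.MinNormal

/-!
# Nonsolvable `Om8` groups are extensions of `2`-groups by almost simple groups
-/

set_option autoImplicit false

namespace Cfsg.Lib.O8E

open Subgroup Cfsg.Lib Cfsg.Lib.BG Cfsg.Lib.Transfer Cfsg.Lib.PLocal Cfsg.Lib.Loc
open scoped commutatorElement

universe u v

variable {H : Type u} [Group H] [Finite H] {Y : Type v} [Group Y]

theorem Ty8.dvd (t : Ty8 Y) : 2 ∣ Nat.card Y ∧ 3 ∣ Nat.card Y ∧ ∃ r, (r = 5 ∨ r = 7) ∧ r ∣ Nat.card Y := by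
  rcases t.card with e | e | e | e | e <;> rw [e] <;> simp

/-- A normal subgroup contains the socle or is trivial. -/
theorem st_le {X D : Subgroup Y} [X.Normal] [IsSimpleGroup X] (c : 𝐂(X) = ⊥) (n : D.Normal) : D = ⊥ ∨ X ≤ D :=
  (n.subgroupOf X).eq_bot_or_eq_top.imp (fun e => eq_bot_mono c (cent_of_norm_of_disjoint le_normalizer_of_normal
    le_normalizer_of_normal (disjoint_iff.1 (subgroupOf_eq_bot.1 e)))) subgroupOf_eq_top.1

/-- A normal `p`-subgroup lies in the kernel.  Proof: its image `T̄` is normal, `T̄ ⊓ X` is normal in the simple group `X`, which is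
not a `p`-group (`Ty8.card`), so `T̄ ⊓ X = 1`, `T̄ ≤ C(X) = 1`. -/
theorem le_ker {π : H →* Y} (hπ : Function.Surjective π) {X : Subgroup Y} [X.Normal] (t : Ty8 X) (c : 𝐂(X) = ⊥) {p : ℕ}
    [Fact p.Prime] {T : Subgroup H} (n : T.Normal) (hT : IsPGroup p T) : T ≤ π.ker := by
  have := Finite.of_surjective π hπ
  have := t.simple
  refine (Subgroup.map_eq_bot_iff _).1 ((st_le c (n.map π hπ)).resolve_right fun e => ?_)
  have pX := (hT.map π).to_le e
  exact absurd ((pgroup_eq_of_dvd pX Nat.prime_two t.dvd.1).trans (pgroup_eq_of_dvd pX Nat.prime_three t.dvd.2.1).symm)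
    (by norm_num)

/-- Port of `Spec2.Om6.cfg` (same proof, bound `8`). -/
theorem Om8.cfg (h : Om8 H) {π : H →* Y} (hπ : Function.Surjective π) {p r m : ℕ} [Fact p.Prime] [Fact r.Prime]
    (hN : IsPGroup p π.ker) (h1 : p ≠ r) (m0 : 0 < m) {a a' b : Y} (c : Spec2.Cf r m a a' b) (hn : a ∉ 𝐂(π.ker).map π) :
    m * p ≤ 8 := by
  have hr : Fact r.Prime := ‹_›
  have := Finite.of_surjective π hπ
  obtain ⟨c1, c2, c3, c4, c5, c6⟩ := c
  have n : zpowers a' ≤ 𝐍(zpowers a) :=
    norm_of_cent (zpowers_le.2 (by rw [cent_zpowers]; exact mem_cent1.2 c1.symm))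
  have z : ∀ x : Y, x ^ r = 1 → ∀ y ∈ zpowers x, ∃ i < r, x ^ i = y := fun x hx y hy => by
    obtain ⟨i, rfl⟩ := mem_powers_iff_mem_zpowers.2 hy
    exact ⟨i % r, Nat.mod_lt _ hr.out.pos, (pow_eq_pow_mod i hx).symm⟩
  have k : ∀ x ∈ zpowers a ⊔ zpowers a', ∃ i < r, ∃ j < r, a ^ i * a' ^ j = x := fun x hx => by
    obtain ⟨y, hy, w, hw, rfl⟩ := (mem_sup_left_norm n).1 hx
    obtain ⟨i, hi, rfl⟩ := z a c2 y hy
    obtain ⟨j, hj, rfl⟩ := z a' c3 w hw
    exact ⟨i, hi, j, hj, rfl⟩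
  have pg : ∀ x : Y, x ^ r = 1 → IsPGroup r (zpowers x) := fun x hx y => ⟨1, Subtype.ext (by
    obtain ⟨i, -, e⟩ := z x hx y y.2
    rw [pow_one, Subgroup.coe_pow, ← e, ← pow_mul, mul_comm, pow_mul, hx, one_pow, Subgroup.coe_one])⟩
  have pK := pgroup_sup (pg a c2) (pg a' c3) n
  have ob : orderOf b = m := (orderOf_eq_iff m0).2 ⟨c4, fun i hi i0 e => c5 (by
    simpa [e] using (c6 1 hr.out.one_lt 0 hr.out.pos).2 i hi i0)⟩
  obtain ⟨g, hg⟩ := Spec2.exists_big hπ hN (K := zpowers a ⊔ zpowers a') (b := b) (mem_normalizer_fintype fun x hx => by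
      obtain ⟨i, hi, j, hj, rfl⟩ := k x hx
      obtain ⟨i', -, j', -, e⟩ := (c6 i hi j hj).1
      exact e ▸ mul_mem_sup (npow_mem_zpowers a i') (npow_mem_zpowers a' j'))
    (fun l l0 hl => eq_bot_iff.2 fun x hx => by
      obtain ⟨i, hi, j, hj, rfl⟩ := k x hx.1
      exact (c6 i hi j hj).2 l (ob ▸ hl) l0 (mem_cent1.1 hx.2))
    (fun e => h1 (pgroup_eq_of_dvd pK Fact.out e)) (pgroup_sol pK) fun e => hn (e (mem_sup_left (mem_zpowers a)))
  exact ob ▸ (Nat.le_of_dvd (orderOf_pos g) hg).trans (h g)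

/-- An almost simple quotient forces `p = 2`. -/
theorem st_two (h : Om8 H) {π : H →* Y} (hπ : Function.Surjective π) {X : Subgroup Y} [X.Normal] (t : Ty8 X)
    (c : 𝐂(X) = ⊥) {p : ℕ} [hp : Fact p.Prime] (hN : IsPGroup p π.ker) (N1 : π.ker ≠ ⊥) : p = 2 := by_contra fun p2 => by
  have := Finite.of_surjective π hπ
  have := t.simple
  obtain ⟨a, a', b, cf⟩ := t.cf
  have := hp.out.two_le
  have : 3 * p ≤ 8 := h.cfg hπ hN p2 three_pos (cf_map X.subtype_injective cf) fun e => by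
    rcases st_le c (Normal.map (inferInstance : 𝐂(π.ker).Normal) π hπ) with e' | e'
    · exact cf.2.2.2.2.1 (Subtype.ext (e'.le e))
    obtain ⟨d2, -, r, hr, dr⟩ := t.dvd
    have pr : r.Prime := by rcases hr with rfl | rfl <;> norm_num
    obtain ⟨f, hf, of⟩ := Core.exists_mem_orderOf_eq_prime pr dr
    obtain ⟨u, hu, ou⟩ := Core.exists_mem_orderOf_eq_prime Nat.prime_two d2
    obtain ⟨x, hx, ox⟩ := Core.exists_mem_orderOf_eq_prime hp.out (pgroup_dvd_card hN N1)
    obtain ⟨f, cf, rfl⟩ := e' hf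
    obtain ⟨u, cu, rfl⟩ := e' hu
    have h1 := h.order_big hr (x := x) (by_contra fun e => by
      rw [h.big hr (h.order_big hr (of ▸ orderOf_map_dvd π f)) e (mem_cent.1 cf x hx), orderOf_one] at ox
      omega)
    have h2 : 2 ∣ orderOf u := ou ▸ orderOf_map_dvd π u
    rw [h.big hr h1 (fun e => by rw [h.order_big hr e] at h2; omega) (mem_cent.1 cu x hx).symm, orderOf_one] at h2
    omega
  omega

/-- Proof (pattern `Spec2.Om6.step`): strong induction on `|H|`; for smaller groups `h0` follows from `ih`.  Let `A` be minimal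
normal, chosen inside `O₂(H)` if that is nontrivial.
`A` nonsolvable: if `A = H`, `H` is simple (`π = id`, `X = ⊤`, `h.cent_bot`).  Else the induction for `A` gives `π_A` with kernel
`≤ O₂(A) = 1`, so a normal `Ty8` subgroup `B` of `A` with `C_A(B) = 1`; its `H`-conjugates are normal in `A` and meet `B`
nontrivially, so equal `B` (simple), hence `B = A`; `C(A) = 1` by `h.cent_bot`.
`A` a `p`-group: the induction for `H ⧸ A` gives `π', X`.  If `p = 2` compose.  Let `p ≠ 2`, so `O₂(H) = 1`.  If `N̄ = ker π' = 1`: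
restrict to the preimage `K` of `X`; `C_K(A)` maps to a normal subgroup of `X`, not `X` (elements of order `2` and `5` or `7` cannot
both centralise an element of order `p`: `h.big`), so to `1`, and `Om8.cfg` with `Ty8.cf` gives `3 p ≤ 8`.  If `N̄ ≠ 1`: take `b` of
order `r ∈ {5, 7}` in `H ⧸ A`; `Spec2.exists_big` (`K := N̄`) gives an element of order divisible by `r p`, or `N̄ ≤ C(A)A/A`, and
then a Sylow `2`-subgroup of the preimage of `N̄` is normal in `H` and nontrivial (last part of `Om6.step`). -/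
theorem st (h : Om8 H) (hs : ¬ Group.IsSolvable H) (ih : IH.{u} (Nat.card H)) (h0 : IsSimpleGroup H → Ty8 H) :
    ∃ (Y : Type u) (_ : Group Y) (_ : Finite Y) (π : H →* Y) (X : Subgroup Y), Function.Surjective π ∧
      IsPGroup 2 π.ker ∧ X.Normal ∧ Ty8 X ∧ 𝐂(X) = ⊥ := by
  induction hn : Nat.card H using Nat.strong_induction_on generalizing H with | h n rc => ?_
  subst hn
  replace rc := fun (K : Type u) [Group K] [Finite K] (lt : Nat.card K < Nat.card H) (a : Om8 K)
    (b : ¬ Group.IsSolvable K) => rc _ lt a b (ih.mono lt.le)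
      (fun _ => ih K lt a fun _ => b (Group.isSolvable_of_comm mul_comm')) rfl
  have : Nontrivial H := not_subsingleton_iff_nontrivial.1 fun _ => hs inferInstance
  have on : ∀ M : Subgroup H, M.Normal → 𝐎({2}, M).Normal := fun M hM =>
    Nml.top_iff.1 ((Nml.top_iff.2 hM).pcore _)
  have fin : ∀ M : Subgroup H, M.Normal → Ty8 M → ∃ (Y : Type u) (_ : Group Y) (_ : Finite Y) (π : H →* Y)
      (X : Subgroup Y), Function.Surjective π ∧ IsPGroup 2 π.ker ∧ X.Normal ∧ Ty8 X ∧ 𝐂(X) = ⊥ := fun M n t =>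
    let ⟨d2, _, _, hr, dr⟩ := t.dvd
    ⟨H, _, ‹_›, .id H, M, Function.surjective_id, by rw [MonoidHom.ker_id]; exact .of_bot, n, t, h.cent_bot hr d2 dr⟩
  obtain ⟨N, hN, h2⟩ : ∃ N : Subgroup H, Core.IsMinNormal N ∧ (𝐎({2}, (⊤ : Subgroup H)) = ⊥ ∨ IsPGroup 2 N) := by
    by_cases e : 𝐎({2}, (⊤ : Subgroup H)) = ⊥
    · exact Core.exists_isMinNormal.imp fun _ a => ⟨a, .inl e⟩
    · exact (Core.exists_isMinNormal_le (on ⊤ inferInstance) e).imp fun _ a =>
        ⟨a.1, .inr (pgroup_of_le (pcore_pgroup 2 _) a.2)⟩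
  have := hN.normal
  by_cases sN : Group.IsSolvable N
  · obtain ⟨p, hp, eN⟩ := hN.isElementaryAbelian sN
    have := Fact.mk hp
    have pN := Core.isPGroup_of_isElementaryAbelian eN
    have s := QuotientGroup.mk'_surjective N
    have kN := QuotientGroup.ker_mk' N
    obtain ⟨Y, _, _, ρ, X, hρ, pρ, nX, t, c⟩ := rc (H ⧸ N) (by
      rw [card_eq_card_quotient_mul_card_subgroup N]
      exact lt_mul_of_one_lt_right Nat.card_pos ((one_lt_card_iff_ne_bot N).2 hN.ne_bot)) (h.surj s)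
      (mt (Core.isSolvable_of_normal_quotient N sN) hs)
    have mR : (ρ.comp (QuotientGroup.mk' N)).ker.map (QuotientGroup.mk' N) = ρ.ker :=
      map_comap_eq_self_of_surjective s ρ.ker
    have lR : N ≤ (ρ.comp (QuotientGroup.mk' N)).ker := kN.ge.trans (ker_le_comap _ ρ.ker)
    obtain rfl : p = 2 := by
      refine by_contra fun p2 => ?_
      replace h2 := h2.resolve_right fun e => p2 (pgroup_eq_of_dvd e hp (pgroup_dvd_card pN hN.ne_bot))
      by_cases hb : ρ.ker = ⊥
      · have e : (ρ.comp (QuotientGroup.mk' N)).ker = N := by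
          rw [← MonoidHom.comap_ker, hb, MonoidHom.comap_bot, kN]
        exact p2 (st_two h (π := ρ.comp (QuotientGroup.mk' N)) (hρ.comp s) t c (e.symm ▸ pN) (e.symm ▸ hN.ne_bot))
      obtain ⟨-, -, r, hr, dr⟩ := t.dvd
      have pr : r.Prime := by rcases hr with rfl | rfl <;> norm_num
      obtain ⟨f, -, of⟩ := Core.exists_mem_orderOf_eq_prime pr dr
      obtain ⟨b, rfl⟩ := hρ f
      have h' := h.surj s
      have ob := h'.order_big hr (of ▸ orderOf_map_dvd ρ b)
      obtain ⟨g, hg⟩ := Spec2.exists_big s (kN.symm ▸ pN) (K := ρ.ker) (b := b) (le_normalizer_of_normal (mem_top b))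
        (fun i i0 hi => h'.big' hr (by omega) pρ (by
          rw [Nat.Coprime.orderOf_pow (ob ▸ (Nat.coprime_of_lt_prime i0.ne' (ob ▸ hi) pr)), ob]))
        (fun e => p2 (pgroup_eq_of_dvd pρ hp e)) (pgroup_sol pρ) fun e => hb (by
          obtain ⟨Q, hQ⟩ := Syl.exists 2 (ρ.comp (QuotientGroup.mk' N)).ker
          obtain ⟨k, hk⟩ := pρ.exists_card_eq
          have e1 := hQ.sup_eq lR (by
            have := relIndex_ker (ρ.comp (QuotientGroup.mk' N)).ker (QuotientGroup.mk' N)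
            rw [kN, mR, hk] at this
            exact this ▸ PiNat.prime_pow Nat.prime_two (Set.mem_singleton 2) k)
          rw [← mR, Subgroup.map_le_map_iff, kN, sup_eq_left.2 (abelian_cent eN.1)] at e
          have e2 := (hQ.pcore_eq' (e1.ge.trans (sup_le (norm_of_cent (cent_symm (hQ.le.trans e))) (le_norm Q)))).ge.trans
            ((Nml.top_iff.2 inferInstance).pcore_le _)
          rw [← mR, ← e1, eq_bot_mono h2 e2, sup_bot_eq, Subgroup.map_eq_bot_iff, kN])
      have := (Nat.le_of_dvd (orderOf_pos g) hg).trans (h g)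
      have := Nat.mul_le_mul (show 5 ≤ r by omega) hp.two_le
      rw [ob] at *
      omega
    exact ⟨Y, _, ‹_›, ρ.comp (QuotientGroup.mk' N), X, hρ.comp s, pρ.comap_of_ker_isPGroup _ (kN.symm ▸ pN), nX, t, c⟩
  by_cases hT : N = ⊤
  · exact fin ⊤ inferInstance (.of_equiv topEquiv (h0 ⟨fun K hK => (hN.min K hK (hT ▸ le_top)).imp_right
      fun e => e.trans hT⟩))
  obtain ⟨Y, _, _, ρ, X, hρ, pρ, nX, t, c⟩ := rc N (card_lt_of_lt (lt_top_iff_ne_top.2 hT) |>.trans_eq card_top) (h.sub N) sN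
  have hi : Function.Injective ρ := (MonoidHom.ker_eq_bot_iff ρ).1 ((map_eq_bot_iff_of_injective _ N.subtype_injective).1
    (eq_bot_mono ((hN.min _ (on N this) (pcore_le _ _)).resolve_right fun e => sN (e ▸ pgroup_sol (pcore_pgroup 2 N)))
      (pcore_max_p (pρ.map _) (Nml.of_normal N _))))
  have t' : Ty8 (X.comap ρ) := t.of_equiv (((X.comap ρ).equivMapOfInjective ρ hi).trans
    (MulEquiv.subgroupCongr (map_comap_eq_self_of_surjective hρ X)))
  have := t'.simple
  have b1 : X.comap ρ ≠ ⊥ := ne_bot_of_dvd Nat.prime_two t'.dvd.1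
  have c' : 𝐂(X.comap ρ) = ⊥ := (map_eq_bot_iff_of_injective _ hi).1 (eq_bot_mono c ((map_cent ρ le_rfl).trans
    (by rw [map_comap_eq_self_of_surjective hρ])))
  have : (X.comap ρ).Characteristic := characteristic_iff_le_map.2 fun φ =>
    (st_le c' (Normal.map inferInstance _ φ.surjective)).resolve_left fun e =>
      b1 ((map_eq_bot_iff_of_injective _ φ.injective).1 e)
  exact fin _ (inferInstance : ((X.comap ρ).map N.subtype).Normal)
    (t'.of_equiv (equivMapOfInjective _ _ N.subtype_injective).symm)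

end Cfsg.Lib.O8E
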