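import Cfsg.Agent.Lib.O8E.T5

/-!
# Modules for `A₆` and `S₆`
-/

set_option autoImplicit false

namespace Cfsg.Lib.O8E

open Subgroup Cfsg.Lib Cfsg.Lib.BG Cfsg.Lib.Transfer Cfsg.Lib.PLocal Cfsg.Lib.Loc
open scoped commutatorElement

universe u v

variable {Γ : Type u} [Group Γ] [Finite Γ] {W : Subgroup Γ}

theorem e9_map6 {X Y : Type*} [Group X] [Group Y] {f : X →* Y} (hf : Function.Injective f) {x y : X} (h : L72.E9 x y) :
    L72.E9 (f x) (f y) :=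
  ⟨(orderOf_injective f hf x).trans h.ox, (orderOf_injective f hf y).trans h.oy, h.cm.map f, fun k =>
    h.n ((mem_map_iff_mem hf).1 (MonoidHom.map_zpowers f y ▸ k))⟩

omit [Finite Γ] in
/-- A nontrivial invariant set closed under products contains a nontrivial fixed point. -/
theorem Md.fx {X : Type v} [Group X] {j : X →* Γ} (m : Md W j) {K : W → Prop} {t : X} (hm : ∀ a b, K a → K b → K (a * b))
    (ht : ∀ a, K a → K (m.act t a)) {d : W} (hd : K d) (d1 : d ≠ 1) (e : m.act (t * t) d = d) :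
    ∃ w, K w ∧ w ≠ 1 ∧ m.act t w = w := by
  have := m.el.1
  by_cases k : d * m.act t d = 1
  · exact ⟨d, hd, d1, mul_left_cancel (k.trans (m.sq d).symm)⟩
  · exact ⟨_, hm _ _ hd (ht _ hd), k, by rw [map_mul, ← m.act_mul, e, mul_comm']⟩

/-- `S₅ ≤ S₆`. -/
def x56 : S5 →* S6 := Equiv.Perm.extendDomainHom (finSuccAboveEquiv (Fin.last 5))

/-- `A₅ ≤ A₆`. -/
def i56 : A5 →* A6 := (x56.comp (alternatingGroup _).subtype).codRestrict _ fun s =>
  Equiv.Perm.mem_alternatingGroup.2 ((Equiv.Perm.sign_extendDomain _ _).trans (Equiv.Perm.mem_alternatingGroup.1 s.2))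

theorem i56_inj : Function.Injective i56 := fun _ _ e =>
  Subtype.ext (Equiv.Perm.extendDomainHom_injective _ (Subtype.ext_iff.1 e :))

/-- The element `(0 3)(1 4 2 5)`. -/
def g6 : A6 := ⟨Equiv.swap 0 3 * (Equiv.swap 1 4 * Equiv.swap 4 2 * Equiv.swap 2 5), Equiv.Perm.mem_alternatingGroup.2 (by decide)⟩

/-- Membership in `⟨a, b, g⟩`. -/
abbrev InN (s : S6) : Prop := ∃ a ∈ [1, c6a, c6a⁻¹], ∃ b ∈ [1, c6b, c6b⁻¹], ∃ c ∈ [1, g6, g6 * g6, g6⁻¹], s = (a * b * c).1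

theorem InN.mem {s : A6} (h : InN s.1) {K : Subgroup A6} (a : c6a ∈ K) (b : c6b ∈ K) (g : g6 ∈ K) : s ∈ K := by
  obtain ⟨x, hx, y, hy, z, hz, e⟩ := h
  rw [Subtype.ext e]
  simp only [List.mem_cons, List.not_mem_nil, or_false] at hx hy hz
  refine mul_mem (mul_mem ?_ ?_) ?_
  · rcases hx with rfl | rfl | rfl
    exacts [one_mem _, a, inv_mem a]
  · rcases hy with rfl | rfl | rfl
    exacts [one_mem _, b, inv_mem b]
  · rcases hz with rfl | rfl | rfl | rfl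
    exacts [one_mem _, g, mul_mem g g, inv_mem g]

theorem e9_six : L72.E9 c6a c6b := by
  have o : orderOf c6b = 3 := orderOf_eq_prime (by decide +kernel) (by decide +kernel)
  refine ⟨orderOf_eq_prime (by decide +kernel) (by decide +kernel), o, by unfold Commute SemiconjBy; decide +kernel, fun h => ?_⟩
  have := L72.mem3 o h
  revert this
  decide +kernel

/-- Proof: `D = W ⊓ C(E)`, `E = ⟨a, b⟩`, `a = (0 1 2)`, `b = (3 4 5)`, is normalised by `g = (0 3)(1 4 2 5)` (order `4`, `cf6`); if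
`D ≠ 1` take `1 ≠ w ∈ D` fixed by `g`, so by `N = E⟨g⟩ ∋ (0 1)(3 4)`, the stabiliser of the bisection `{012|345}`.  `A₅ = Stab(5)`
(embedding `A5 →* A6`, e.g. via `Equiv.Perm.viaEmbedding`/`extendDomain`): `w_{ij}` corresponds to `{ij5|rest}` and `tri` applies.
`b` maps `w₀₃ ↦ w₁₂`, `w₁₃ ↦ w₀₂`, `w₂₃ ↦ w₀₁` (check `b s ∈ s' N`), so `b (w₀₃ w₁₃ w₂₃) b⁻¹ = 1` and `w' = w₀₃ w₁₃ w₂₃ = 1`; `b` maps
`w_{i4} ↦ w_{i3}`, so `w'' = w₀₄ w₁₄ w₂₄ = 1`; and `w' w'' = w₃₄³ = w`. -/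
theorem t6 {j : A6 →* Γ} (m : Md W j) : W ⊓ 𝐂[j c6a] ⊓ 𝐂[j c6b] = ⊥ := by
  have := m.el.1
  rw [inf_assoc]
  refine Md.bot_of fun d hd => by_contra fun d1 => ?_
  let K : W → Prop := fun v => c6a ∈ m.stab v ∧ c6b ∈ m.stab v
  have hm : ∀ a b, K a → K b → K (a * b) := fun a b x y =>
    ⟨m.mem_stab.2 (by rw [map_mul, m.mem_stab.1 x.1, m.mem_stab.1 y.1]), m.mem_stab.2 (by rw [map_mul, m.mem_stab.1 x.2, m.mem_stab.1 y.2])⟩
  have hg : ∀ a, K a → K (m.act g6 a) := fun a x => by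
    constructor <;> rw [m.mem_stab, ← m.act_mul] <;> refine m.same ?_
    · rw [(by decide +kernel : g6⁻¹ * (c6a * g6) = c6b⁻¹)]; exact inv_mem x.2
    · rw [(by decide +kernel : g6⁻¹ * (c6b * g6) = c6a)]; exact x.1
  obtain ⟨d, hd, d1, e⟩ := m.fx (t := g6 * g6) hm (fun a x => by rw [m.act_mul]; exact hg _ (hg _ x))
    (⟨m.fix.2 hd.1, m.fix.2 hd.2⟩ : K d) d1 (by rw [(by decide +kernel : g6 * g6 * (g6 * g6) = 1), m.act_one])
  obtain ⟨w, hw, w1, wg⟩ := m.fx hm hg hd d1 e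
  have hN : ∀ s : A6, InN s.1 → s ∈ m.stab w := fun s h => h.mem hw.1 hw.2 wg
  have k5 : ∀ s : S5, (s 3 = 3 ∧ s 4 = 4 ∨ s 3 = 4 ∧ s 4 = 3) → Equiv.Perm.sign s = 1 → InN (x56 s) := by decide +kernel
  obtain ⟨ω, h1, h2, -, h4⟩ := om (m.comp i56_inj) (w := w) fun s hs =>
    hN (i56 s) (k5 s.1 hs (Equiv.Perm.mem_alternatingGroup.1 s.2))
  replace h1 : ∀ s : A5, m.act (i56 s) w = ω (s.1 3) (s.1 4) := h1
  have w34 : w = ω 3 4 := (m.act_one w).symm.trans (map_one i56 ▸ h1 1)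
  have k : ∀ (s t : A5) {p q p' q' : Fin 5}, (s.1 3 = p ∧ s.1 4 = q ∧ t.1 3 = p' ∧ t.1 4 = q') ∧
      InN ((x56 t.1)⁻¹ * (c6b.1 * x56 s.1)) → m.act c6b (ω p q) = ω p' q' := by
    rintro s t _ _ _ _ ⟨⟨rfl, rfl, rfl, rfl⟩, h⟩
    rw [← h1, ← h1, ← m.act_mul, m.same (hN ((i56 t)⁻¹ * (c6b * i56 s)) h)]
  have k0 : m.act c6b (ω 0 3) = ω 1 2 := k (ev5 c[3, 0, 4]) (ev5 (Equiv.swap 3 1 * Equiv.swap 4 2)) (by decide +kernel)
  have k1 : m.act c6b (ω 1 3) = ω 0 2 := k (ev5 c[3, 1, 4]) (ev5 (Equiv.swap 3 0 * Equiv.swap 4 2)) (by decide +kernel)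
  have k2 : m.act c6b (ω 2 3) = ω 0 1 := k (ev5 c[3, 2, 4]) (ev5 (Equiv.swap 3 0 * Equiv.swap 4 1)) (by decide +kernel)
  have l0 : m.act c6b (ω 0 4) = ω 0 3 := k (ev5 c[3, 0, 1]) (ev5 c[3, 0, 4]) (by decide +kernel)
  have l1 : m.act c6b (ω 1 4) = ω 1 3 := k (ev5 c[3, 1, 0]) (ev5 c[3, 1, 4]) (by decide +kernel)
  have l2 : m.act c6b (ω 2 4) = ω 2 3 := k (ev5 c[3, 2, 1]) (ev5 c[3, 2, 4]) (by decide +kernel)
  have a : ω 0 3 * ω 1 3 * ω 2 3 = 1 := (map_eq_one_iff _ (m.act c6b).injective).1 (by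
    rw [map_mul, map_mul, k0, k1, k2, ← h4 0 1 2 (by decide) (by decide) (by decide)]; ac_rfl)
  have b : ω 0 4 * ω 1 4 * ω 2 4 = 1 := (map_eq_one_iff _ (m.act c6b).injective).1 (by rw [map_mul, map_mul, l0, l1, l2, a])
  exact w1 (by rw [w34, ← om_fin m.sq h4, a, b, mul_one])

/-- Proof: `f1`: `W ⊓ C(a) ≤ C((3 4)) ⊓ C((4 5)) ≤ C(b)`, symmetrically for `b`; `a b` commutes with the involutions
`(0 3)(1 4)(2 5)`, `(0 4)(1 5)(2 3)` whose product is `(a b⁻¹)^{±1}`; similarly for `a b⁻¹`.  So the four fixed point groups lie in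
`W ⊓ C(a) ⊓ C(b) = 1` (`t6` for `m.comp`), and `L72.E9.gen` gives `W = 1`. -/
theorem ts6 {j : S6 →* Γ} (m : Md W j) : W = ⊥ := by
  have t := t6 (m.comp (alternatingGroup (Fin 6)).subtype_injective)
  have k : ∀ x c d : S6, x ^ 3 = 1 → x ≠ 1 → c * c = 1 → d * d = 1 → c * x = x * c → d * x = x * d →
      (∀ K : Subgroup S6, x ∈ K → c * d ∈ K → c6a.1 ∈ K ∧ c6b.1 ∈ K) → W ⊓ 𝐂[j x] ≤ ⊥ := fun x c d x3 x1 c2 d2 cx dx h =>
    (Md.bot_of fun w hw => by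
      have o := orderOf_eq_prime x3 x1
      have wx := m.fix.2 hw
      obtain ⟨a, b⟩ := h (m.stab w) wx (mul_mem (m.mem_stab.2 (m.f1' o c2 cx wx)) (m.mem_stab.2 (m.f1' o d2 dx wx)))
      exact Subtype.ext (t.le ⟨⟨w.2, m.fix.1 a⟩, m.fix.1 b⟩)).le
  have e := e9_map6 m.inj (e9_map6 (alternatingGroup (Fin 6)).subtype_injective e9_six)
  refine le_bot_iff.1 (e.gen (PGroup.elemAb_isPGroup m.el) (m.nm _) (m.nm _) ?_ ?_ ?_ ?_)
  · exact k c6a.1 (.swap 3 4) (.swap 4 5) (by decide +kernel) (by decide +kernel) (by decide) (by decide) (by decide +kernel)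
      (by decide +kernel) fun K a b => ⟨a, b⟩
  · exact k c6b.1 (.swap 0 1) (.swap 1 2) (by decide +kernel) (by decide +kernel) (by decide) (by decide) (by decide +kernel)
      (by decide +kernel) fun K a b => ⟨b, a⟩
  · rw [← map_mul]
    refine k (c6a.1 * c6b.1) (.swap 0 3 * .swap 1 4 * .swap 2 5) (.swap 0 4 * .swap 1 5 * .swap 2 3) (by decide +kernel)
      (by decide +kernel) (by decide +kernel) (by decide +kernel) (by decide +kernel) (by decide +kernel) fun K a b => ?_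
    have : c6a.1 ∈ K := by convert inv_mem (mul_mem a b) using 1; decide +kernel
    exact ⟨this, (mul_mem_cancel_left this).1 a⟩
  · rw [← map_inv, ← map_mul]
    refine k (c6a.1 * c6b.1⁻¹) (.swap 0 3 * .swap 1 5 * .swap 2 4) (.swap 0 5 * .swap 1 4 * .swap 2 3) (by decide +kernel)
      (by decide +kernel) (by decide +kernel) (by decide +kernel) (by decide +kernel) (by decide +kernel) fun K a b => ?_
    have : c6a.1 ∈ K := by convert inv_mem (mul_mem a b) using 1; decide +kernel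
    exact ⟨this, inv_mem_iff.1 ((mul_mem_cancel_left this).1 a)⟩

end Cfsg.Lib.O8E
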