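import Cfsg.Agent.Lib.O8E.Bs
import Cfsg.Agent.Lib.O8E.S3

/-!
# The types `A₆` and `L₃(2)`: parabolics
-/

set_option autoImplicit false

namespace Cfsg.Lib.O8E

open Subgroup Cfsg.Lib Cfsg.Lib.BG Cfsg.Lib.Transfer Cfsg.Lib.PLocal Cfsg.Lib.Loc
open scoped commutatorElement

universe u v

variable {G : Type u} [Group G] [Finite G] {A D M Q S O₁ O₂ P₁ P₂ Y : Subgroup G} {y₁ y₂ : G}

namespace TD

variable (b : Bs M Q S) (t : TD M Q S O₁ O₂ P₁ P₂ y₁ y₂)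
include t

omit [Finite G] in
theorem PM : P₁ ≤ M := t.gen ▸ le_sup_left

/-- `|S : O₁| = 2` (`relIndex_mul_relIndex`). -/
theorem i2 : O₁.relIndex S = 2 := by
  have := relIndex_mul_relIndex Q O₁ S t.p₁.QO t.p₁.OS
  rw [t.p₁.i4, t.idx8] at this
  omega

theorem ne : ¬ O₁ ≤ O₂ := by
  intro e
  have := t.swap.i2
  rw [← t.sup, sup_eq_right.2 e, relIndex_self] at this
  omega

/-- Proof: `|O₁ : O₁ ⊓ O₂| = |S : O₂| = 2 < 4 = |O₁ : Q|`. -/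
theorem exs : ∃ s ∈ O₁, s ∈ O₂ ∧ s ∉ Q := by
  by_contra k
  push Not at k
  have a : O₂.relIndex O₁ ≤ O₂.relIndex S := relIndex_le_of_le_right t.p₁.OS index_ne_zero_of_finite
  have c : Q.relIndex O₁ ≤ (O₂ ⊓ O₁).relIndex O₁ := relIndex_le_of_le_left (fun s hs => k s hs.2 hs.1) index_ne_zero_of_finite
  rw [inf_relIndex_right, t.p₁.i4] at c
  rw [t.swap.i2] at a
  omega

/-- Proof: `A ≤ O₁ ∨ A ≤ O₂` (`inv`, `R2.le_or_of_forall`-type argument), then compare indices over `Q`. -/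
theorem four (b : Bs M Q S) (hA : A ≤ S) (e : ∀ a ∈ A, a * a ∈ Q) (h4 : Q.relIndex A = 4) : A ⊔ Q = O₁ ∨ A ⊔ Q = O₂ := by
  have k : ∀ {O P : Subgroup G} {y : G}, Pb Q S O P y → A ≤ O → A ⊔ Q = O := fun {O P y} p e => by
    have a := relIndex_mul_relIndex Q (A ⊔ Q) O le_sup_right (sup_le e p.QO)
    have c : Q.relIndex A ≤ Q.relIndex (A ⊔ Q) := relIndex_le_of_le_right le_sup_left index_ne_zero_of_finite
    have d : (A ⊔ Q).relIndex O ≠ 0 := index_ne_zero_of_finite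
    rw [p.i4] at a
    rw [h4] at c
    exact le_antisymm (sup_le e p.QO) (relIndex_eq_one.1 (by nlinarith [Nat.pos_of_ne_zero d]))
  by_cases a : A ≤ O₁
  · exact .inl (k t.p₁ a)
  · obtain ⟨x, hx, x1⟩ := SetLike.not_le_iff_exists.1 a
    have x2 := (t.inv x (hA hx) (e x hx)).resolve_left x1
    refine .inr (k t.p₂ fun z hz => by_contra fun z2 => ?_)
    have z1 := (t.inv z (hA hz) (e z hz)).resolve_right z2
    rcases t.inv _ (hA (mul_mem hx hz)) (e _ (mul_mem hx hz)) with c | c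
    exacts [x1 ((mul_mem_cancel_right z1).1 c), z2 ((mul_mem_cancel_left x2).1 c)]

include b

/-- (`S3o.of`, `nS`, `b.cQ`.) -/
theorem s3o : S3o P₁ O₁ S := by
  refine S3o.of t.p₁.nO b.twoS t.p₁.OS t.p₁.SP t.i2 t.p₁.i3 (fun e => ?_)
    (inf_le_right.trans ((cent_anti t.p₁.QO).trans (b.cQ.trans t.p₁.QO)))
  have := t.p₁.i3
  rw [relIndex_eq_one.2 ((le_inf t.PM e).trans t.nS)] at this
  omega

theorem supy : S ⊔ zpowers y₁ = P₁ := by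
  exact ((t.s3o b).max le_sup_left (sup_le t.p₁.SP (zpowers_le.2 t.p₁.yP))).resolve_left fun e =>
    (t.s3o b).nmem3 t.p₁.y3 (e.le (mem_sup_right (mem_zpowers _)))

/-- Proof: `K = P₁ ⊓ C(Y) ⊴ P₁` contains `S`; `K = S` contradicts `nS`. -/
theorem pc (n : P₁ ≤ 𝐍(Y)) (e : S ≤ 𝐂(Y)) : P₁ ≤ 𝐂(Y) := by
  rcases (t.s3o b).max (le_inf t.p₁.SP e) inf_le_left with k | k
  · have := t.p₁.i3
    rw [relIndex_eq_one.2 ((le_inf t.PM (k ▸ norm_inf (le_norm P₁) (norm_cent n))).trans t.nS)] at this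
    omega
  · exact k.ge.trans inf_le_right

/-- `y₁` is irreducible on `O₁/Q`.  Proof: `|D ⊔ Q : Q| ∈ {1, 2, 4}`; if it is `2`, `y₁` centralises `DQ/Q`, against `yf`. -/
theorem irr (hD : D ≤ O₁) (n : y₁ ∈ 𝐍(D)) : D ≤ Q ∨ D ⊔ Q = O₁ := by
  by_contra k
  push Not at k
  obtain ⟨a, ha, a1⟩ := SetLike.not_le_iff_exists.1 k.1
  have le := sup_le hD t.p₁.QO
  have c := relIndex_mul_relIndex Q (D ⊔ Q) O₁ le_sup_right le
  have c1 : Q.relIndex (D ⊔ Q) ≠ 1 := fun e => k.1 (le_sup_left.trans (relIndex_eq_one.1 e))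
  have c2 : (D ⊔ Q).relIndex O₁ ≠ 1 := fun e => k.2 (le_antisymm le (relIndex_eq_one.1 e))
  rw [t.p₁.i4] at c
  have i : (Q.subgroupOf (D ⊔ Q)).index = 2 := by
    have := Nat.le_of_dvd (by norm_num) (Dvd.intro _ c)
    change Q.relIndex (D ⊔ Q) = 2
    generalize Q.relIndex (D ⊔ Q) = m at *
    interval_cases m <;> omega
  have yQ := b.nQ.norm (t.PM t.p₁.yP)
  have := (mul_mem_iff_of_index_two i (a := ⟨a, mem_sup_left ha⟩)
    (b := ⟨y₁ * a⁻¹ * y₁⁻¹, mem_sup_left (conj_mem_of_norm n (inv_mem ha))⟩)).2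
    (iff_of_false a1 fun e => a1 (inv_mem_iff.1 ((mem_normalizer_iff.1 yQ _).2 e)))
  exact a1 (t.p₁.yf a (hD ha) (by simpa only [mem_subgroupOf, MulMemClass.mk_mul_mk, mul_assoc] using this))

theorem zle : Zo S ≤ Zo O₁ := by
  exact zo_le_zo t.p₁.OS (inf_le_right.trans ((cent_anti t.p₁.QO).trans (b.cQ.trans t.p₁.QO)))

theorem zV : Zo O₁ ≤ Zo Q := by
  exact zo_le_zo t.p₁.QO (inf_le_right.trans b.cQ)

/-- (`b.Zeq`, `sup`.) -/
theorem zinf : Zo O₁ ⊓ Zo O₂ ≤ Zo S := by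
  rw [b.Zeq b.QS]
  exact le_inf (inf_le_left.trans (t.zV b)) (t.sup ▸ le_cent_sup (inf_le_left.trans (oz_le_centralizer _))
    (inf_le_right.trans (oz_le_centralizer _)))

/-- If `Zo O₁ = Zo S` then `P₁` centralises it (`pc`). -/
theorem z1 (e : Zo O₁ ≤ Zo S) : P₁ ≤ 𝐂(Zo S) := by
  exact t.pc b (le_antisymm e (t.zle b) ▸ t.p₁.nO.norm.trans (normalizer_le_normalizer_oz O₁))
    (cent_symm (oz_le_centralizer S))

variable (h : Om8 G)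
include h

/-- A subgroup normalised by `P₁, P₂` and centralised by `O₁ ⊓ O₂` is trivial (`b.cen0`, `exs`). -/
theorem triv (hY : IsPGroup 2 Y) (n₁ : P₁ ≤ 𝐍(Y)) (n₂ : P₂ ≤ 𝐍(Y)) (e : O₁ ⊓ O₂ ≤ 𝐂(Y)) : Y = ⊥ := by
  obtain ⟨s, h1, h2, s1⟩ := t.exs
  exact b.cen0 h hY (t.gen ▸ sup_le n₁ n₂) (b.SM (t.p₁.OS h1)) s1 (e ⟨h1, h2⟩)

/-- Proof: `mx₁`; `M ≤ C(Zo S)` contradicts `b.cen0`. -/
theorem cm (e : P₁ ≤ 𝐂(Zo S)) : M ⊓ 𝐂(Zo S) = P₁ := by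
  refine (t.mx₁ _ (le_inf t.PM e) inf_le_left).resolve_right fun k => ?_
  obtain ⟨s, h1, -, s1⟩ := t.exs
  have c : M ≤ 𝐂(Zo S) := k.ge.trans inf_le_right
  exact b.Z1 (b.cen0 h (PGroup.elemAb_isPGroup (oz_elemAb S)) (norm_of_cent c) (b.SM (t.p₁.OS h1)) s1 (c (b.SM (t.p₁.OS h1))))

end TD

end Cfsg.Lib.O8E
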