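import Cfsg.Agent.Lib.O8E.X0

/-!
# Subgroup data in `A₆`
-/

set_option autoImplicit false

namespace Cfsg.Lib.O8E

open Subgroup Cfsg.Lib Cfsg.Lib.BG Cfsg.Lib.Transfer Cfsg.Lib.PLocal Cfsg.Lib.Loc
open scoped commutatorElement

universe u v

theorem x6_dec : ∀ g : S6, g * (sw 0 1 2 3 : A6) = (sw 0 1 2 3 : A6) * g → Equiv.Perm.sign g = 1 →
    g ∈ ([1, sw 0 1 2 3, sw 0 2 1 3, sw 0 1 2 3 * sw 0 2 1 3, sw 0 1 4 5, sw 0 1 2 3 * sw 0 1 4 5, sw 0 2 1 3 * sw 0 1 4 5,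
      sw 0 1 4 5 * sw 0 2 1 3] : List A6).map Subtype.val := by
  decide +kernel

theorem x6_x8 : X8 (sw 0 1 2 3 : A6) (sw 0 2 1 3) (sw 0 1 4 5) (sw 0 1 0 2) (sw 0 2 0 4 * sw 1 3 1 5) where
  hL g e := by
    rw [← List.mem_map_of_injective Subtype.val_injective]
    exact x6_dec g (by rw [← coe_mul, e, coe_mul]) (Equiv.Perm.mem_alternatingGroup.1 g.2)
  nd := by decide +kernel
  x₁ := by constructor <;> (try refine x0_all ?_) <;> decide +kernel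
  x₂ := by constructor <;> (try refine x0_all ?_) <;> decide +kernel
  sq := x0_all (by decide +kernel)
  ab := by decide +kernel

theorem x6_simple : IsSimpleGroup A6 := alternatingGroup.isSimpleGroup (by simp)

theorem x6_syl : Syl 2 𝐂[(sw 0 1 2 3 : A6)] ⊤ := x0_syl (k := 3) x6_x8.c8 (by rw [Spec2.card_a6]; norm_num)

theorem x6_hom {O : Subgroup A6} {x y : A6} (e : x ^ 3 = 1 ∧ y ^ 5 = 1 ∧ (x * y) ^ 2 = 1 ∧ x ≠ 1)
    (h : ∀ K : Subgroup A6, x ∈ K → y ∈ K → O ≤ K) :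
    ∃ φ : A5 →* A6, Function.Injective φ ∧ O ≤ φ.range ∧ φ.range ⊔ 𝐂[(sw 0 1 2 3 : A6)] = ⊤ := by
  have : IsSimpleGroup A5 := alternatingGroup.isSimpleGroup (by simp)
  have := x6_simple
  obtain ⟨f, rfl, rfl⟩ := Small.exists_hom_alt_five e.1 e.2.1 e.2.2.1
  have hf : Function.Injective f := (MonoidHom.ker_eq_bot_iff f).1
    ((IsSimpleGroup.eq_bot_or_eq_top_of_normal f.ker inferInstance).resolve_right fun h =>
      e.2.2.2 (MonoidHom.mem_ker.1 (h ▸ mem_top _)))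
  refine ⟨f, hf, h _ ⟨_, rfl⟩ ⟨_, rfl⟩, x0_top (m := 120) (n := 3) Spec2.card_a6 ?_ (by decide)⟩
  have d1 := card_dvd_of_le (le_sup_left : f.range ≤ f.range ⊔ 𝐂[(sw 0 1 2 3 : A6)])
  have d2 := card_dvd_of_le (le_sup_right : _ ≤ f.range ⊔ 𝐂[(sw 0 1 2 3 : A6)])
  rw [← Nat.card_congr (MonoidHom.ofInjective hf).toEquiv, Spec2.card_a5] at d1
  rw [x6_x8.c8] at d2
  omega

theorem x6_le {z a : A6} {O K : Subgroup A6} (m : ∀ g, g ∈ O ↔ g ∈ [1, z, a, z * a]) (hz : z ∈ K) (ha : a ∈ K) : O ≤ K :=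
  fun g hg => by
    have := (m g).1 hg
    simp only [List.mem_cons, List.not_mem_nil, or_false] at this
    rcases this with rfl | rfl | rfl | rfl
    exacts [one_mem _, hz, ha, mul_mem hz ha]

theorem x6_w {x y : A6} {K : Subgroup A6} (hx : x ∈ K) (hy : y ∈ K) :
    y * y * x * x * y * y * x * x * y ∈ K ∧ y * x ∈ K ∧ x * y ∈ K ∧ y * x * x * y * y * x * x * y * y ∈ K := by
  refine ⟨?_, ?_, ?_, ?_⟩ <;> repeat (first | assumption | apply mul_mem)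

/-- `O₁ = {1, (01)(23), (02)(13), (03)(12)}`, `O₂ = {1, (01)(23), (01)(45), (23)(45)}`, `S₀ = O₁O₂ = C((01)(23))`,
`P₁ = Stab{4,5}`, `y₁ = (0 1 2)`, `P₂ =` stabiliser of `{01|23|45}`, `y₂ = (0 2 4)(1 3 5)` (define the subgroups by decidable
predicates and count with `decide +kernel`).  `mxᵢ`, `gen`: a proper subgroup `K > Pᵢ` has index `3` or `5`, but the simple group
`A₆` does not embed in `S₅`.  `φ₁ : A₅ = Stab(5)`, `φ₂` a transitive `A₅ ⊇ O₂` (`Pres.carmichael_univ`, or an outer automorphism);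
`|φ.range ⊔ S₀|` is divisible by `120`, so the index is `≤ 3`. -/
theorem x6 : ∃ (S₀ O₁ O₂ P₁ P₂ : Subgroup A6) (y₁ y₂ : A6), Syl 2 S₀ ⊤ ∧ TD ⊤ ⊥ S₀ O₁ O₂ P₁ P₂ y₁ y₂ ∧
    (∃ φ : A5 →* A6, Function.Injective φ ∧ O₁ ≤ φ.range ∧ φ.range ⊔ S₀ = ⊤) ∧
    ∃ φ : A5 →* A6, Function.Injective φ ∧ O₂ ≤ φ.range ∧ φ.range ⊔ S₀ = ⊤ := by
  have := x6_simple
  refine ⟨_, _, _, _, _, _, _, x6_syl, x6_x8.td fun K P c l => x0_mx (n := 15) Spec2.card_a6 c l (by decide),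
    x6_hom (x := sw 2 3 3 4) (y := sw 0 1 0 2 * sw 1 3 2 4) (by decide +kernel) fun K hx hy =>
      x6_le (x6_x8.x₁.mem x6_x8.hL') ?_ ?_,
    x6_hom (x := sw 0 1 1 2 * sw 3 4 4 5) (y := sw 1 2 2 3 * sw 2 4 2 5) (by decide +kernel) fun K hx hy =>
      x6_le (x6_x8.x₂.mem x6_x8.hL') ?_ ?_⟩
  · convert (x6_w hx hy).1 using 1; decide +kernel
  · convert (x6_w hx hy).2.1 using 1; decide +kernel
  · convert (x6_w hx hy).2.2.1 using 1; decide +kernel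
  · convert (x6_w hx hy).2.2.2 using 1; decide +kernel

theorem x6_o5 : orderOf (sw 0 1 2 3 * (sw 1 2 3 4 * sw 0 1 2 3 * (sw 1 2 3 4)⁻¹) : A6) = 5 :=
  x0_ord Nat.prime_five (by decide +kernel)

theorem xb6 : Xb A6 :=
  have := x6_simple
  x0_xb x6_syl (.inr ⟨x6_x8.c8, x6_x8.nab⟩) (.inl x6_o5)

theorem inv6 (a : A6) (a1 : a ≠ 1) (a2 : a * a = 1) : ∃ g, orderOf (a * (g * a * g⁻¹)) = 5 := by
  obtain ⟨u, rfl⟩ := x6_x8.cj x6_syl a1 a2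
  exact ⟨u * sw 1 2 3 4 * u⁻¹, (x0_oc u (by group)).trans x6_o5⟩

end Cfsg.Lib.O8E
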