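import Cfsg.Agent.Lib.O8E.Def

/-!
# Common tools for the subgroup data in small groups
-/

set_option autoImplicit false

namespace Cfsg.Lib.O8E

open Subgroup Cfsg.Lib Cfsg.Lib.BG Cfsg.Lib.Transfer Cfsg.Lib.PLocal Cfsg.Lib.Loc
open scoped commutatorElement

/-- A product of two transpositions. -/
def sw {n : ℕ} (a b c d : Fin n) (h : a ≠ b ∧ c ≠ d := by decide) : alternatingGroup (Fin n) :=
  ⟨Equiv.swap a b * Equiv.swap c d, by simp [Equiv.Perm.sign_swap h.1, Equiv.Perm.sign_swap h.2]⟩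

theorem x0_all {α : Type*} {L : List α} {P : α → Prop} [DecidablePred P] (h : L.all (fun g => decide (P g)) = true) :
    ∀ g ∈ L, P g := fun g hg => of_decide_eq_true (List.all_eq_true.1 h g hg)

variable {X : Type*} [Group X]

theorem x0_card {H : Subgroup X} {L : List X} (n : L.Nodup) (e : ∀ g, g ∈ H ↔ g ∈ L) : Nat.card H = L.length := by
  classical
  rw [← List.toFinset_card_of_nodup n]
  exact Nat.subtype_card L.toFinset fun x => by simp [e]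

theorem x0_ord {p : ℕ} (hp : p.Prime) {w : X} (e : w ^ p = 1 ∧ w ≠ 1) : orderOf w = p :=
  have := Fact.mk hp
  orderOf_eq_prime e.1 e.2

variable [Finite X]

theorem x0_top [IsSimpleGroup X] {K : Subgroup X} {m n : ℕ} (c : Nat.card X = m * n) (d : m ∣ Nat.card K)
    (e : ∀ i ∈ n.divisors, i = 1 ∨ ¬ m * n ∣ i.factorial) : K = ⊤ := by
  by_contra k
  obtain ⟨j, hj⟩ := d
  have h1 := K.card_mul_index
  have h0 := Nat.card_pos (α := X)
  rw [c] at h0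
  rw [c, hj, mul_assoc] at h1
  refine (e K.index (Nat.mem_divisors.2 ⟨Dvd.intro_left j (Nat.eq_of_mul_eq_mul_left (Nat.pos_of_mul_pos_right h0) h1),
    (Nat.pos_of_mul_pos_left h0).ne'⟩)).elim (fun i => k (index_eq_one.1 i)) fun i => i (c ▸ Inv.card_dvd_factorial_index k)

theorem x0_mx [IsSimpleGroup X] {K P : Subgroup X} {m n : ℕ} (c : Nat.card X = m * n) (d : Nat.card P = m) (l : P ≤ K)
    (e : ∀ i ∈ n.divisors, i = 1 ∨ i = n ∨ ¬ m * n ∣ i.factorial) : K = P ∨ K = ⊤ := by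
  have h0 := Nat.card_pos (α := X)
  rw [c] at h0
  have h2 : P.index = n := Nat.eq_of_mul_eq_mul_left (Nat.pos_of_mul_pos_right h0) (by rw [← c, ← P.card_mul_index, d])
  rcases e K.index (Nat.mem_divisors.2 ⟨h2 ▸ index_dvd_of_le l, (Nat.pos_of_mul_pos_left h0).ne'⟩) with i | i | i
  · exact .inr (index_eq_one.1 i)
  · refine .inl (eq_of_le_of_card_le l (le_of_eq ?_)).symm
    refine Nat.eq_of_mul_eq_mul_right (Nat.pos_of_mul_pos_left h0) ?_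
    rw [d, ← c, ← i, K.card_mul_index]
  · exact .inr (by_contra fun k => i (c ▸ Inv.card_dvd_factorial_index k))

theorem x0_syl {S : Subgroup X} {k : ℕ} (c : Nat.card S = 2 ^ k) (e : ¬ 2 ^ (k + 1) ∣ Nat.card X) : Syl 2 S ⊤ :=
  Syl.mk' le_top (.of_card c) fun d => e (by
    rw [← S.card_mul_index, c, pow_succ]; exact Nat.mul_dvd_mul_left _ (relIndex_top_right S ▸ d))

theorem x0_el4 {S : Subgroup X} (h : Syl 2 S ⊤) (c : Nat.card S = 4 ∨ Nat.card S = 8 ∧ ⁅S, S⁆ ≠ ⊥) (E : Subgroup X)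
    (hE : IsElementaryAbelian 2 E) : Nat.card E ≤ 4 := by
  obtain ⟨g, -, l⟩ := h.exists_conj_le (PGroup.elemAb_isPGroup hE) le_top
  have d := card_dvd_of_le l
  rw [card_conj] at d
  rcases c with c | ⟨c, n⟩
  · exact Nat.le_of_dvd (by norm_num) (c ▸ d)
  · by_contra k
    have e : Nat.card E = 8 := by
      rw [c] at d
      have := Nat.le_of_dvd (by norm_num) d
      generalize Nat.card E = m at *
      interval_cases m <;> omega
    have := eq_of_le_of_card_le l (by rw [card_conj, c, e])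
    exact n (comm_eq_bot_iff.2 (this ▸ PGroup.elemAb_le_centralizer (PGroup.elemAb_map _ hE)))

theorem x0_xb [IsSimpleGroup X] {S : Subgroup X} (h : Syl 2 S ⊤) (c : Nat.card S = 4 ∨ Nat.card S = 8 ∧ ⁅S, S⁆ ≠ ⊥)
    {f : X} (hf : orderOf f = 5 ∨ orderOf f = 7) : Xb X :=
  ⟨fun D n d => ⟨f, (n.eq_bot_or_eq_top.resolve_left d).ge trivial, hf⟩, x0_el4 h c,
    (show 2 ∣ Nat.card S by omega).trans S.card_subgroup_dvd_card⟩

/-- The four-group `{1, z, a, z a}` and an element `y` of order three normalising it. -/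
structure X4 (L : List X) (z a y : X) : Prop where
  h1 : ∀ g ∈ L, g * a = a * g → g ∈ [1, z, a, z * a]
  h2 : ∀ g ∈ L, g * a = a * g ∨ g * a = z * a * g
  nd : [1, z, a, z * a].Nodup
  zz : z * z = 1
  aa : a * a = 1
  za : z * a = a * z
  y3 : y ^ 3 = 1 ∧ y ≠ 1
  yz : y * z = a * y
  ya : y * a = z * a * y
  yf : ∀ g ∈ [z, a, z * a], g * y ≠ y * g

namespace X4

variable {L : List X} {z a y : X} (x : X4 L z a y) (hL : ∀ g ∈ 𝐂[z], g ∈ L)
include x hL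

omit [Finite X] in
theorem mem (g : X) : g ∈ 𝐂[z] ⊓ 𝐂[a] ↔ g ∈ [1, z, a, z * a] := by
  have hz : z ∈ 𝐂[z] ⊓ 𝐂[a] := ⟨mem_cent1.2 rfl, mem_cent1.2 x.za⟩
  have ha : a ∈ 𝐂[z] ⊓ 𝐂[a] := ⟨mem_cent1.2 x.za.symm, mem_cent1.2 rfl⟩
  refine ⟨fun h => x.h1 g (hL g h.1) (mem_cent1.1 h.2), fun h => ?_⟩
  simp only [List.mem_cons, List.not_mem_nil, or_false] at h
  rcases h with rfl | rfl | rfl | rfl
  exacts [one_mem _, hz, ha, mul_mem hz ha]

theorem nrm {g : X} (h1 : g * z * g⁻¹ ∈ [1, z, a, z * a]) (h2 : g * a * g⁻¹ ∈ [1, z, a, z * a]) :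
    g ∈ 𝐍(𝐂[z] ⊓ 𝐂[a]) := mem_normalizer_fintype fun h hh => by
  rw [← x.mem hL] at h1 h2
  have hh := (x.mem hL h).1 hh
  simp only [List.mem_cons, List.not_mem_nil, or_false] at hh
  rcases hh with rfl | rfl | rfl | rfl
  · simp
  · exact h1
  · exact h2
  · have := mul_mem h1 h2
    rwa [show g * z * g⁻¹ * (g * a * g⁻¹) = g * (z * a) * g⁻¹ by group] at this

omit hL [Finite X] in
theorem cz : y * z * y⁻¹ = a := by rw [x.yz, mul_inv_cancel_right]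

omit hL [Finite X] in
theorem ca : y * a * y⁻¹ = z * a := by rw [x.ya, mul_inv_cancel_right]

theorem pb (c8 : Nat.card 𝐂[z] = 8) :
    Pb ⊥ 𝐂[z] (𝐂[z] ⊓ 𝐂[a]) 𝐍(𝐂[z] ⊓ 𝐂[a]) y ∧ Nat.card 𝐍(𝐂[z] ⊓ 𝐂[a]) = 24 := by
  have SP : 𝐂[z] ≤ 𝐍(𝐂[z] ⊓ 𝐂[a]) := fun g hg => x.nrm hL (by rw [mem_cent1.1 hg]; simp) (by
    rcases x.h2 g (hL g hg) with e | e <;> rw [e] <;> simp)
  have yP : y ∈ 𝐍(𝐂[z] ⊓ 𝐂[a]) := x.nrm hL (by rw [x.cz]; simp) (by rw [x.ca]; simp)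
  have o3 := x0_ord Nat.prime_three x.y3
  have z1 : z ≠ 1 := fun e => by have := x.nd; simp [e] at this
  have c : Nat.card 𝐍(𝐂[z] ⊓ 𝐂[a]) = 24 := by
    have d1 := c8 ▸ card_dvd_of_le SP
    have d2 := o3 ▸ orderOf_dvd_natCard _ yP
    have d3 : Nat.card 𝐍(𝐂[z] ⊓ 𝐂[a]) ≤ Nat.card (zpowers y × 𝐂[z]) := Nat.card_le_card_of_surjective
      (fun p => ⟨p.1 * p.2, mul_mem (zpowers_le.2 yP p.1.2) (SP p.2.2)⟩) fun g => by
        have k (u : X) (hu : u ∈ zpowers y) (e : g * z * g.1⁻¹ = u * z * u⁻¹) : ∃ p : zpowers y × 𝐂[z],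
            (⟨p.1 * p.2, mul_mem (zpowers_le.2 yP p.1.2) (SP p.2.2)⟩ : 𝐍(𝐂[z] ⊓ 𝐂[a])) = g :=
          ⟨⟨⟨u, hu⟩, u⁻¹ * g, mem_cent1.2 (by
            calc _ = u⁻¹ * (g * z * g.1⁻¹) * g := by group
              _ = _ := by rw [e]; group)⟩, Subtype.ext (mul_inv_cancel_left _ _)⟩
        have := (x.mem hL _).1 (conj_mem_of_norm g.2 ((x.mem hL z).2 (by simp)))
        simp only [List.mem_cons, List.not_mem_nil, or_false] at this
        rcases this with e | e | e | e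
        · exact (z1 (by simpa using e)).elim
        · exact k 1 (one_mem _) (by simpa using e)
        · exact k y (mem_zpowers y) (e.trans x.cz.symm)
        · exact k (y * y) (mul_mem (mem_zpowers y) (mem_zpowers y)) (e.trans (by rw [← x.ca, ← x.cz]; group))
    rw [Nat.card_prod, Nat.card_zpowers, o3, c8] at d3
    have := Nat.card_pos (α := 𝐍(𝐂[z] ⊓ 𝐂[a]))
    omega
  refine ⟨⟨bot_le, inf_le_left, SP, ⟨inf_le_left.trans SP, le_rfl⟩, by rw [relIndex_bot_left, x0_card x.nd (x.mem hL)]; rfl,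
    fun g hg => ?_, ?_, o3, yP, fun g hg e => ?_⟩, c⟩
  · have hg := (x.mem hL g).1 hg
    simp only [List.mem_cons, List.not_mem_nil, or_false] at hg
    rcases hg with rfl | rfl | rfl | rfl
    exacts [one_mul 1, x.zz, x.aa, by
      rw [mem_bot, mul_assoc, ← mul_assoc a, ← x.za, mul_assoc, x.aa, mul_one, x.zz]]
  · have := Transfer.card_mul_relIndex SP
    rw [c, c8] at this
    omega
  · rcases List.mem_cons.1 ((x.mem hL g).1 hg) with k | k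
    · exact k
    · exact (x.yf g k (mul_inv_eq_iff_eq_mul.1 (mul_inv_eq_one.1 e))).elim

omit [Finite X] in
theorem cj {g : X} (hg : g ∈ 𝐂[z] ⊓ 𝐂[a]) (g1 : g ≠ 1) : ∃ u, g = u * z * u⁻¹ := by
  have := (x.mem hL g).1 hg
  simp only [List.mem_cons, List.not_mem_nil, or_false] at this
  rcases this with e | e | e | e
  · exact (g1 e).elim
  · exact ⟨1, by simpa using e⟩
  · exact ⟨y, e.trans x.cz.symm⟩
  · exact ⟨y * y, e.trans (by rw [← x.ca, ← x.cz]; group)⟩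

end X4

/-- The dihedral group `C(z) = ⟨a, b⟩` of order eight. -/
structure X8 (z a b y₁ y₂ : X) : Prop where
  hL : ∀ g, g * z = z * g → g ∈ [1, z, a, z * a, b, z * b, a * b, b * a]
  nd : [1, z, a, z * a, b, z * b, a * b, b * a].Nodup
  x₁ : X4 [1, z, a, z * a, b, z * b, a * b, b * a] z a y₁
  x₂ : X4 [1, z, a, z * a, b, z * b, a * b, b * a] z b y₂
  sq : ∀ g ∈ [1, z, a, z * a, b, z * b, a * b, b * a], g * g = 1 ∧ (g * a = a * g ∨ g * b = b * g) ∨ g * g = z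
  ab : a * b * (a * b) = z

namespace X8

variable {z a b y₁ y₂ : X} (x : X8 z a b y₁ y₂)
include x

omit [Finite X] in
theorem hL' : ∀ g ∈ 𝐂[z], g ∈ [1, z, a, z * a, b, z * b, a * b, b * a] := fun g hg => x.hL g (mem_cent1.1 hg)

omit [Finite X] in
theorem le {K : Subgroup X} (ha : a ∈ K) (hb : b ∈ K) : ∀ g ∈ [1, z, a, z * a, b, z * b, a * b, b * a], g ∈ K := by
  have hz : z ∈ K := x.ab ▸ mul_mem (mul_mem ha hb) (mul_mem ha hb)
  simp only [List.mem_cons, List.not_mem_nil, or_false]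
  rintro g (rfl | rfl | rfl | rfl | rfl | rfl | rfl | rfl)
  exacts [one_mem _, hz, ha, mul_mem hz ha, hb, mul_mem hz hb, mul_mem ha hb, mul_mem hb ha]

omit [Finite X] in
theorem c8 : Nat.card 𝐂[z] = 8 := x0_card x.nd fun g =>
  ⟨x.hL' g, x.le (mem_cent1.2 x.x₁.za.symm) (mem_cent1.2 x.x₂.za.symm) g⟩

omit [Finite X] in
theorem z1 : z ≠ 1 := fun e => by have := x.nd; simp [e] at this

omit [Finite X] in
theorem nc : a * b ≠ b * a := fun e => by have := x.nd; simp [e] at this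

omit [Finite X] in
theorem inv (g : X) (hg : g ∈ 𝐂[z]) (e : g * g = 1) : g ∈ 𝐂[z] ⊓ 𝐂[a] ∨ g ∈ 𝐂[z] ⊓ 𝐂[b] := by
  rcases x.sq g (x.hL' g hg) with ⟨-, k⟩ | k
  · exact k.imp (fun k => ⟨hg, mem_cent1.2 k⟩) fun k => ⟨hg, mem_cent1.2 k⟩
  · exact (x.z1 (k.symm.trans e)).elim

omit [Finite X] in
theorem nab : ⁅𝐂[z], 𝐂[z]⁆ ≠ ⊥ := fun e =>
  x.nc (mem_cent.1 (comm_eq_bot_iff.1 e (mem_cent1.2 x.x₂.za.symm)) a (mem_cent1.2 x.x₁.za.symm))

theorem td (mx : ∀ K P : Subgroup X, Nat.card P = 24 → P ≤ K → K = P ∨ K = ⊤) :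
    TD ⊤ ⊥ 𝐂[z] (𝐂[z] ⊓ 𝐂[a]) (𝐂[z] ⊓ 𝐂[b]) 𝐍(𝐂[z] ⊓ 𝐂[a]) 𝐍(𝐂[z] ⊓ 𝐂[b]) y₁ y₂ := by
  obtain ⟨p₁, c₁⟩ := x.x₁.pb x.hL' x.c8
  obtain ⟨p₂, c₂⟩ := x.x₂.pb x.hL' x.c8
  have ha : a ∈ 𝐂[z] := mem_cent1.2 x.x₁.za.symm
  have hb : b ∈ 𝐂[z] := mem_cent1.2 x.x₂.za.symm
  refine ⟨p₁, p₂, by rw [relIndex_bot_left, x.c8], le_antisymm (sup_le inf_le_left inf_le_left) fun g hg =>
    x.le (mem_sup_left (mem_inf.2 ⟨ha, mem_cent1.2 rfl⟩)) (mem_sup_right (mem_inf.2 ⟨hb, mem_cent1.2 rfl⟩)) g (x.hL' g hg), x.inv,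
    fun e => x.nab (le_bot_iff.1 e), (mx _ _ c₁ le_sup_left).resolve_left fun e => x.nc ?_, fun K l _ => mx K _ c₁ l,
    fun K l _ => mx K _ c₂ l, fun g hg => mem_cent1.2 ?_⟩
  · have := conj_mem_of_norm (e.le (mem_sup_right p₂.yP)) (⟨mem_cent1.2 rfl, mem_cent1.2 x.x₁.za⟩ : z ∈ 𝐂[z] ⊓ 𝐂[a])
    rw [x.x₂.cz] at this
    exact (mem_cent1.1 this.2).symm
  · have e : g * (a * b) * g⁻¹ * (g * (a * b) * g⁻¹) = g * z * g⁻¹ := by rw [← x.ab]; group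
    rcases x.sq _ (x.hL' _ (conj_mem_of_norm hg.2 (mul_mem ha hb))) with ⟨k, -⟩ | k
    · exact (x.z1 (by simpa using e.symm.trans k)).elim
    · exact mul_inv_eq_iff_eq_mul.1 (e.symm.trans k)

/-- All involutions are conjugate. -/
theorem cj (h : Syl 2 𝐂[z] ⊤) {t : X} (t1 : t ≠ 1) (t2 : t * t = 1) : ∃ u, t = u * z * u⁻¹ := by
  obtain ⟨g, -, l⟩ := h.exists_conj_le (L72.t2_inv t2).pg le_top
  have m := conj_le_iff.1 l t (mem_zpowers t)
  have n : g * t * g⁻¹ ≠ 1 := by simpa using t1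
  obtain ⟨u, e⟩ : ∃ u, g * t * g⁻¹ = u * z * u⁻¹ := (x.inv _ m (by rw [conj_mul, t2]; simp)).elim
    (fun k => x.x₁.cj x.hL' k n) fun k => x.x₂.cj x.hL' k n
  exact ⟨g⁻¹ * u, by rw [mul_inv_rev, inv_inv, mul_assoc g⁻¹, mul_assoc g⁻¹, ← mul_assoc _ u⁻¹, ← e]; group⟩

end X8

omit [Finite X] in
theorem x0_oc {w v : X} (u : X) (e : w = u * v * u⁻¹) : orderOf w = orderOf v :=
  e ▸ orderOf_injective (MulAut.conj u).toMonoidHom (MulAut.conj u).injective v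

end Cfsg.Lib.O8E
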