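import Cfsg.Agent.Lib.O8E.Ty
import Cfsg.Agent.Lib.O8E.X0

/-!
# Subgroup data in `L₃(2)`
-/

set_option autoImplicit false

namespace Cfsg.Lib.O8E

open Subgroup Cfsg.Lib Cfsg.Lib.BG Cfsg.Lib.Transfer Cfsg.Lib.PLocal Cfsg.Lib.Loc
open scoped commutatorElement

universe u v

/-- An element of `L₃(2)` from its entries. -/
def m7 (a b c d e f g h i : ZMod 2)
    (k : a * e * i - a * f * h - b * d * i + b * f * g + c * d * h - c * e * g = 1 := by decide) : L32 :=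
  ⟨!![a, b, c; d, e, f; g, h, i], by rw [Matrix.det_fin_three]; exact k⟩

local notation "𝐳" => m7 1 0 1 0 1 0 0 0 1
local notation "𝐚" => m7 1 1 0 0 1 0 0 0 1
local notation "𝐛" => m7 1 0 0 0 1 1 0 0 1
local notation "𝐱" => m7 1 0 0 0 0 1 0 1 1
local notation "𝐲" => m7 0 1 0 1 1 0 0 0 1

theorem x7_dec : ∀ a b c d e f g h i : ZMod 2, ∀ k : a * e * i - a * f * h - b * d * i + b * f * g + c * d * h - c * e * g = 1,
    m7 a b c d e f g h i k * 𝐳 = 𝐳 * m7 a b c d e f g h i k →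
    m7 a b c d e f g h i k ∈ [1, 𝐳, 𝐚, 𝐳 * 𝐚, 𝐛, 𝐳 * 𝐛, 𝐚 * 𝐛, 𝐛 * 𝐚] := by
  decide +kernel

theorem x7_x8 : X8 𝐳 𝐚 𝐛 𝐱 𝐲 where
  hL g e := by
    have k : g = m7 (g 0 0) (g 0 1) (g 0 2) (g 1 0) (g 1 1) (g 1 2) (g 2 0) (g 2 1) (g 2 2)
      (by rw [← Matrix.det_fin_three]; exact g.2) := Subtype.ext (Matrix.eta_fin_three g.1)
    rw [k] at e ⊢
    exact x7_dec _ _ _ _ _ _ _ _ _ _ e
  nd := by decide +kernel
  x₁ := by constructor <;> (try refine x0_all ?_) <;> decide +kernel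
  x₂ := by constructor <;> (try refine x0_all ?_) <;> decide +kernel
  sq := x0_all (by decide +kernel)
  ab := by decide +kernel

theorem x7_syl : Syl 2 𝐂[𝐳] ⊤ := x0_syl (k := 3) x7_x8.c8 (by rw [card_l32]; norm_num)

theorem x7_o {y g w : L32} (e : g * y = y * w * g ∧ w ^ 7 = 1 ∧ w ≠ 1) : ∃ g, orderOf (y⁻¹ * (g * y * g⁻¹)) = 7 :=
  ⟨g, by rw [e.1, mul_inv_cancel_right, inv_mul_cancel_left]; exact x0_ord (by norm_num) e.2⟩

/-- `S₀` upper unitriangular, `P₁, P₂` the two parabolics over it (index `7`, hence maximal), `Oᵢ = O₂(Pᵢ)`, `yᵢ` of order `3` in the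
Levi factors.  Define the subgroups by conditions on entries; for `decide` over `L32` enumerate the nine entries
(`∀ a b c d e f g h i : ZMod 2`, `!![a, b, c; d, e, f; g, h, i]`), or transport from another simple group of order `168` with
`T2.nonempty_equiv_of_simple` (all structures are invariant under isomorphisms: `Ov ⊤ ⊥`-lifting in `O8E/Lift2`). -/
theorem x7 : ∃ (S₀ O₁ O₂ P₁ P₂ : Subgroup L32) (y₁ y₂ : L32), Syl 2 S₀ ⊤ ∧ TD ⊤ ⊥ S₀ O₁ O₂ P₁ P₂ y₁ y₂ ∧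
    (∃ g, orderOf (y₁⁻¹ * (g * y₁ * g⁻¹)) = 7) ∧ ∃ g, orderOf (y₂⁻¹ * (g * y₂ * g⁻¹)) = 7 :=
  have := simple_l32
  ⟨_, _, _, _, _, _, _, x7_syl, x7_x8.td fun _ _ c l => x0_mx (n := 7) card_l32 c l (by decide),
    x7_o (g := m7 0 0 1 0 1 0 1 1 0) (w := m7 1 1 0 0 1 1 1 0 0) (by decide +kernel),
    x7_o (g := m7 0 0 1 0 1 0 1 1 0) (w := m7 1 0 1 1 0 0 0 1 1) (by decide +kernel)⟩

theorem x7_o7 : ∃ g k : L32, orderOf (𝐳 * (g * 𝐳 * g⁻¹) * (k * 𝐳 * k⁻¹)) = 7 := by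
  refine ⟨m7 0 0 1 0 1 0 1 0 0, m7 0 1 0 1 0 0 1 1 1, ?_⟩
  have i : ∀ g : L32, g * g = 1 → g⁻¹ = g := fun _ => inv_eq_of_mul_eq_one_left
  rw [i (m7 0 0 1 0 1 0 1 0 0) (by decide +kernel), i (m7 0 1 0 1 0 0 1 1 1) (by decide +kernel),
    show 𝐳 * (m7 0 0 1 0 1 0 1 0 0 * 𝐳 * m7 0 0 1 0 1 0 1 0 0) *
    (m7 0 1 0 1 0 0 1 1 1 * 𝐳 * m7 0 1 0 1 0 0 1 1 1) = m7 1 1 0 1 0 1 0 1 0 by decide +kernel]
  exact x0_ord (by norm_num) (by decide +kernel)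

theorem xb7 : Xb L32 :=
  have := simple_l32
  let ⟨_, _, e⟩ := x7_o7
  x0_xb x7_syl (.inr ⟨x7_x8.c8, x7_x8.nab⟩) (.inr e)

/-- (Involutions are conjugate into `S₀`; three suitable transvections multiply to a Singer cycle.) -/
theorem inv7 (a : L32) (a1 : a ≠ 1) (a2 : a * a = 1) :
    ∃ g k, orderOf (a * (g * a * g⁻¹) * (k * a * k⁻¹)) = 7 := by
  obtain ⟨u, rfl⟩ := x7_x8.cj x7_syl a1 a2
  obtain ⟨g, k, e⟩ := x7_o7
  exact ⟨u * g * u⁻¹, u * k * u⁻¹, (x0_oc u (by group)).trans e⟩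

end Cfsg.Lib.O8E
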