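import Cfsg.Agent.Lib.O8E.X0

/-!
# Subgroup data in `A₅` and `S₅`
-/

set_option autoImplicit false

namespace Cfsg.Lib.O8E

open Subgroup Cfsg.Lib Cfsg.Lib.BG Cfsg.Lib.Transfer Cfsg.Lib.PLocal Cfsg.Lib.Loc
open scoped commutatorElement

universe u v

local notation "𝐳" => (sw 0 1 2 3 : A5)
local notation "𝐚" => (sw 0 2 1 3 : A5)
local notation "𝐲" => (sw 1 2 2 3 : A5)
local notation "𝐭" => (sw 0 4 1 2 : A5)

theorem xa_simple : IsSimpleGroup A5 := alternatingGroup.isSimpleGroup (by simp)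

theorem xa_mem (g : A5) : g ∈ 𝐂[𝐳] ↔ g ∈ [1, 𝐳, 𝐚, 𝐳 * 𝐚] := by
  rw [mem_cent1]; revert g; decide +kernel

theorem xa_c4 : Nat.card 𝐂[𝐳] = 4 := x0_card (by decide +kernel) xa_mem

theorem xa_syl : Syl 2 𝐂[𝐳] ⊤ := x0_syl (k := 2) xa_c4 (by rw [Spec2.card_a5]; norm_num)

theorem xa_top {K : Subgroup A5} (l : 𝐂[𝐳] ≤ K) {f : A5} (hf : f ∈ K) (e : f ^ 5 = 1 ∧ f ≠ 1) : K = ⊤ := by
  have := xa_simple
  have d1 := xa_c4 ▸ card_dvd_of_le l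
  have d2 := x0_ord Nat.prime_five e ▸ orderOf_dvd_natCard _ hf
  exact x0_top (m := 20) (n := 3) Spec2.card_a5 (Nat.Coprime.mul_dvd_of_dvd_of_dvd (by norm_num) d1 d2) (by decide)

theorem xa_ovr : ∀ k : A5, k * 𝐳 = 𝐳 * k ∨ ([1, 𝐳, 𝐚, 𝐳 * 𝐚].any fun s =>
    decide (s * k = 𝐲 ∨ s * k * k = 𝐲 ∨ (s * k) ^ 5 = 1 ∧ s * k ≠ 1)) = true := by
  decide +kernel

/-- `S₀ = {1, (01)(23), (02)(13), (03)(12)}`, `y = (0 1 2)`, `t = (0 1)(3 4)`.  `ovr`: the overgroups of `S₀` are `S₀, A₄, A₅`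
(e.g. `decide`: for `k ∉ S₀`, `y` is a product of boundedly many elements of `S₀ k^{±1} S₀`; or orders: `|K| ∈ {4, 12, 20, 60}`). -/
theorem xa5 : ∃ (S₀ : Subgroup A5) (y t : A5), Syl 2 S₀ ⊤ ∧ TA0 ⊤ ⊥ S₀ y t := by
  refine ⟨_, 𝐲, 𝐭, xa_syl, by rw [relIndex_bot_left, xa_c4], x0_ord Nat.prime_three (by decide +kernel), trivial,
    mem_normalizer_fintype fun g hg => mem_cent1.2 ?_, fun g hg => ?_, fun K l _ => ?_, trivial,
    mem_bot.2 (by decide +kernel), xa_top le_sup_left (mul_mem (mem_sup_left (mem_cent1.2 rfl))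
      (mem_sup_right (conj_mem_conj.2 (mem_cent1.2 rfl)))) (by decide +kernel)⟩
  · exact x0_all (P := fun g => 𝐲 * g * 𝐲⁻¹ * 𝐳 = 𝐳 * (𝐲 * g * 𝐲⁻¹)) (by decide +kernel) g ((xa_mem g).1 hg)
  · rw [mem_bot, mem_bot]
    exact x0_all (P := fun g => g * 𝐲 * g⁻¹ * 𝐲⁻¹ = 1 → g = 1) (by decide +kernel) g ((xa_mem g).1 hg)
  · refine or_iff_not_imp_left.2 fun n => ?_
    obtain ⟨k, hk, n⟩ := SetLike.not_le_iff_exists.1 n
    obtain ⟨s, hs, e⟩ := List.any_eq_true.1 ((xa_ovr k).resolve_left fun e => n (mem_cent1.2 e))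
    have m := mul_mem (l ((xa_mem s).2 hs)) hk
    rcases of_decide_eq_true e with e | e | e
    exacts [e ▸ m, e ▸ mul_mem m hk, (xa_top l m e).ge trivial]

theorem xb5 : Xb A5 :=
  have := xa_simple
  x0_xb xa_syl (.inl xa_c4) (f := sw 0 1 1 2 * sw 2 3 3 4) (.inl (x0_ord Nat.prime_five (by decide +kernel)))

theorem xa_inv : ∀ a : A5, a * a = 1 → a ≠ 1 → ([sw 0 1 1 2 * sw 2 3 3 4, sw 0 1 0 2 * sw 1 3 2 4].any fun g : A5 =>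
    decide ((a * (g * a * g⁻¹)) ^ 5 = 1 ∧ a * (g * a * g⁻¹) ≠ 1)) = true := by
  decide +kernel

theorem inv5 (a : A5) (a1 : a ≠ 1) (a2 : a * a = 1) : ∃ g, orderOf (a * (g * a * g⁻¹)) = 5 :=
  let ⟨g, _, e⟩ := List.any_eq_true.1 (xa_inv a a2 a1)
  ⟨g, x0_ord Nat.prime_five (of_decide_eq_true e)⟩

theorem xa_c8 : Nat.card ↥(𝐂[Equiv.swap (0 : Fin 5) 1 * Equiv.swap 2 3] : Subgroup S5) = 8 :=
  (Nat.subtype_card (Finset.univ.filter fun g : S5 => g * (Equiv.swap 0 1 * Equiv.swap 2 3) =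
    Equiv.swap 0 1 * Equiv.swap 2 3 * g) fun g => by rw [Finset.mem_filter, mem_cent1]; simp only [Finset.mem_univ, true_and]).trans
    (by decide +kernel)

theorem xs5 : ∃ S₀ : Subgroup S5, Syl 2 S₀ ⊤ ∧ Nat.card S₀ = 8 ∧ ⁅S₀, S₀⁆ ≠ ⊥ :=
  ⟨_, x0_syl (k := 3) xa_c8 (by rw [Nat.card_perm, Nat.card_fin]; decide), xa_c8, fun e => absurd
    (mem_cent.1 (comm_eq_bot_iff.1 e (x := Equiv.swap 0 1) (mem_cent1.2 (by decide +kernel))) (Equiv.swap 0 2 * Equiv.swap 1 3)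
      (mem_cent1.2 (by decide +kernel))) (by decide +kernel)⟩

/-- (`alternatingGroup_le_of_normal` for `clo`; Sylow `2`-subgroups have order `8` and contain an element of order `4`.) -/
theorem xbs5 : Xb S5 := by
  obtain ⟨S, h, c⟩ := xs5
  refine ⟨fun D n d => ⟨(sw 0 1 1 2 * sw 2 3 3 4 : A5), Equiv.Perm.alternatingGroup_le_of_normal (by simp)
    ((nontrivial_iff_ne_bot D).2 d) (Subtype.property _), .inl (x0_ord Nat.prime_five (by decide +kernel))⟩,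
    x0_el4 h (.inr c), by rw [Nat.card_perm, Nat.card_fin]; decide⟩

theorem xa_invs : ∀ a : S5, a * a = 1 → a ≠ 1 → ([sw 0 1 1 2 * sw 2 3 3 4, sw 2 3 3 4].any fun g : A5 =>
    decide (((a * (g * a * g.1⁻¹)) ^ 5 = 1 ∨ (a * (g * a * g.1⁻¹)) ^ 3 = 1) ∧ a * (g * a * g.1⁻¹) ≠ 1)) = true := by
  decide +kernel

theorem invs5 (a : S5) (a1 : a ≠ 1) (a2 : a * a = 1) :
    ∃ g, orderOf (a * (g * a * g⁻¹)) = 5 ∨ orderOf (a * (g * a * g⁻¹)) = 3 :=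
  let ⟨g, _, e⟩ := List.any_eq_true.1 (xa_invs a a2 a1)
  let ⟨e, n⟩ := of_decide_eq_true e
  ⟨g, e.imp (fun e => x0_ord Nat.prime_five ⟨e, n⟩) fun e => x0_ord Nat.prime_three ⟨e, n⟩⟩

end Cfsg.Lib.O8E
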