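import Cfsg.Agent.Lib.O8E.Lift2
import Cfsg.Agent.Lib.O8E.Ex
import Cfsg.Agent.Lib.O8E.ExC
import Cfsg.Agent.Lib.O8E.XA
import Cfsg.Agent.Lib.O8E.X6
import Cfsg.Agent.Lib.O8E.X7

/-!
# The four types of maximal nonsolvable `2`-locals
-/

set_option autoImplicit false

namespace Cfsg.Lib.O8E

open Subgroup Cfsg.Lib Cfsg.Lib.BG Cfsg.Lib.Transfer Cfsg.Lib.PLocal Cfsg.Lib.Loc
open scoped commutatorElement

universe u v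

variable {G : Type u} [Group G] [Finite G] {H M Q S T U : Subgroup G}

section

variable (h : Om8 G) (p : Pre M Q S)
include h p

theorem tyA {ρ : M →* A5} (o : Ov M Q ρ) : Bs M Q S ∧ Typ M Q S := by
  have hQ := pgroup_of_le p.syl.pgroup p.QS
  obtain ⟨S₀, y, t, hS, a⟩ := xa5
  obtain ⟨ρ, o, rfl⟩ := o.normalize hQ p.syl hS
  obtain ⟨y, rfl, hy⟩ := o.lift_odd hQ Nat.prime_three (by norm_num) a.y3
  obtain ⟨t, rfl⟩ := o.surj t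
  have := Fact.mk Nat.prime_five
  obtain ⟨f, hf⟩ := exists_prime_orderOf_dvd_card' (G := A5) 5 (by rw [Spec2.card_a5]; norm_num)
  obtain ⟨f, -, hf⟩ := o.lift_odd hQ Nat.prime_five (by norm_num) hf
  exact ⟨o.bs h p xb5, .inl ⟨y, t, o.ta0 hy a, ⟨ρ, o⟩, o.bd1 h hQ p.syl.le fun a b c => (inv5 a b c).imp fun _ => .inl,
    ⟨f, f.2, hf⟩, o.card_cent y ▸ a5c (h.sub M) o.surj (o.pg_ker hQ) ((orderOf_coe y).symm.trans hy)⟩⟩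

theorem tyS {ρ : M →* S5} (o : Ov M Q ρ) : Bs M Q S ∧ Typ M Q S := by
  have hQ := pgroup_of_le p.syl.pgroup p.QS
  obtain ⟨S₀, hS, c, n⟩ := xs5
  obtain ⟨ρ, o, rfl⟩ := o.normalize hQ p.syl hS
  have := Fact.mk Nat.prime_five
  obtain ⟨f, hf⟩ := exists_prime_orderOf_dvd_card' (G := S5) 5 (by simp [Nat.card_eq_fintype_card, Fintype.card_perm]; decide)
  obtain ⟨f, -, hf⟩ := o.lift_odd hQ Nat.prime_five (by norm_num) hf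
  have e := PGroup.elemAb_map M.subtype (s5el (h.sub M) o.surj (o.pg_ker hQ))
  rw [o.ker_eq, subOf_map o.le] at e
  refine ⟨o.bs h p xbs5, .inr (.inl ⟨e, o.relIndex_Q.trans c, fun e => n (eq_bot_iff.2 (comm_le_iff.2 fun a ha b hb => ?_)),
    o.bd1 h hQ p.syl.le fun a b c => (invs5 a b c).imp fun _ => .imp_right fun e => ⟨e, fun y yM hy => ?_⟩, f, f.2, hf⟩)⟩
  · obtain ⟨a, rfl⟩ := o.surj a
    obtain ⟨b, rfl⟩ := o.surj b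
    have := (o.ker (a * b * a⁻¹ * b⁻¹)).2 (e (commutator_mem_commutator (mem_pre.2 ha) (mem_pre.2 hb)))
    simpa using this
  · have := o.card_cent ⟨y, yM⟩
    rw [s5c (h.sub M) o.surj (o.pg_ker hQ) ((orderOf_coe (⟨y, yM⟩ : M)).symm.trans hy), card_bot] at this
    exact eq_bot_of_card_eq _ this

theorem ty6 {ρ : M →* A6} (o : Ov M Q ρ) : Bs M Q S ∧ Typ M Q S := by
  have hQ := pgroup_of_le p.syl.pgroup p.QS
  obtain ⟨S₀, O₁, O₂, P₁, P₂, y₁, y₂, hS, a, ⟨φ₁, a₁, b₁, c₁⟩, φ₂, a₂, b₂, c₂⟩ := x6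
  obtain ⟨ρ, o, rfl⟩ := o.normalize hQ p.syl hS
  obtain ⟨y₁, rfl, h₁⟩ := o.lift_odd hQ Nat.prime_three (by norm_num) a.p₁.y3
  obtain ⟨y₂, rfl, h₂⟩ := o.lift_odd hQ Nat.prime_three (by norm_num) a.p₂.y3
  have := Fact.mk Nat.prime_five
  obtain ⟨f, hf⟩ := exists_prime_orderOf_dvd_card' (G := A6) 5 (by rw [Spec2.card_a6]; norm_num)
  obtain ⟨f, -, hf⟩ := o.lift_odd hQ Nat.prime_five (by norm_num) hf
  have b := o.bs h p xb6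
  exact ⟨b, .inr (.inr (.inl ⟨_, _, _, _, _, _, o.td h₁ h₂ a,
    o.bd1 h hQ p.syl.le fun a b c => (inv6 a b c).imp fun _ => .inl, ⟨f, f.2, hf⟩,
    ⟨_, o.pa hQ b.cQ a₁ b₁ (by simpa using a.p₁.i4), by rw [← o.pre_sup, c₁, pre_top]⟩,
    ⟨_, o.pa hQ b.cQ a₂ b₂ (by simpa using a.p₂.i4), by rw [← o.pre_sup, c₂, pre_top]⟩⟩))⟩

theorem ty7 {ρ : M →* L32} (o : Ov M Q ρ) : Bs M Q S ∧ Typ M Q S := by
  have hQ := pgroup_of_le p.syl.pgroup p.QS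
  obtain ⟨S₀, O₁, O₂, P₁, P₂, y₁, y₂, hS, a, a₁, a₂⟩ := x7
  obtain ⟨ρ, o, rfl⟩ := o.normalize hQ p.syl hS
  obtain ⟨y₁, rfl, h₁⟩ := o.lift_odd hQ Nat.prime_three (by norm_num) a.p₁.y3
  obtain ⟨y₂, rfl, h₂⟩ := o.lift_odd hQ Nat.prime_three (by norm_num) a.p₂.y3
  obtain ⟨f, -, hf⟩ := o.lift_odd hQ (by norm_num : Nat.Prime 7) (by norm_num) a₁.choose_spec
  exact ⟨o.bs h p xb7, .inr (.inr (.inr ⟨_, _, _, _, _, _, o.td h₁ h₂ a, o.bd2 h hQ p.syl.le inv7, ⟨f, f.2, hf⟩,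
    o.yb h hQ a₁, o.yb h hQ a₂⟩))⟩

end

theorem exists_bs (h : Om8 G) (ih : IH.{u} (Nat.card G)) (hU : IsPGroup 2 U) (U1 : U ≠ ⊥) (hH : H ≤ 𝐍(U))
    (hs : ¬ Group.IsSolvable H) (hT : IsPGroup 2 T) (TH : T ≤ H) :
    ∃ M Q S, H ≤ M ∧ T ≤ S ∧ Bs M Q S ∧ Typ M Q S := by
  obtain ⟨M, HM, ⟨U, hU, U1, rfl⟩, hm⟩ := Core.exists_maximal_ge
    (P := fun M : Subgroup G => ∃ U : Subgroup G, IsPGroup 2 U ∧ U ≠ ⊥ ∧ M = 𝐍(U)) ⟨U, hU, U1, rfl⟩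
  replace HM := hH.trans HM
  have U1' := mt (subOf_eq_bot_iff (le_norm U)).1 U1
  obtain ⟨-, e⟩ := ex (h.sub 𝐍(U)) (fun e => hs (sol_of_le e HM)) (ih.mono (card_le_card_group _))
    (Nml.norm_self U).normal hU.comap_subtype U1'
  obtain ⟨S, hS, TS⟩ := Syl.exists_ge hT (TH.trans HM)
  have k : ∀ {X : Type} [Group X] {ρ : 𝐍(U) →* X}, IsPGroup 2 ρ.ker →
      ρ.ker ≠ ⊥ → Pre 𝐍(U) (ρ.ker.map 𝐍(U).subtype) S := fun {X} _ ρ a b =>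
    ⟨hS.ge_of_nml (Nml.of_normal _ _) (PiGrp.p_iff.2 (a.map _)), hS, Nml.of_normal _ _,
      mt (map_eq_bot_iff_of_injective _ (subtype_injective _)).1 b, fun C a b c => (hm _ ⟨C, a, b, rfl⟩ c).le⟩
  have k1 : ∀ {X : Type} [Group X] {ρ : 𝐍(U) →* X}, Function.Surjective ρ → Xb X → ρ.ker ≠ ⊥ := fun {X} _ ρ a x e => by
    have := Finite.of_surjective ρ a
    obtain ⟨f, hf, o⟩ := x.clo _ ((Nml.norm_self U).normal.map ρ a) (fun e' => U1' (eq_bot_mono e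
      ((Subgroup.map_eq_bot_iff _).1 e')))
    have := pgroup_eq_of_dvd (hU.comap_subtype.map ρ) (q := orderOf f) (by rcases o with o | o <;> rw [o] <;> norm_num)
      (orderOf_dvd_natCard _ hf)
    omega
  refine ⟨𝐍(U), ?_⟩
  rcases e with ⟨ρ, a, b⟩ | ⟨ρ, a, b⟩ | ⟨ρ, a, b⟩ | ⟨ρ, a, b⟩
  exacts [⟨_, S, HM, TS, tyA h (k b (k1 a xb5)) (ov_ker a)⟩,
    ⟨_, S, HM, TS, tyS h (k b (k1 a xbs5)) (ov_ker a)⟩,
    ⟨_, S, HM, TS, ty6 h (k b (k1 a xb6)) (ov_ker a)⟩,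
    ⟨_, S, HM, TS, ty7 h (k b (k1 a xb7)) (ov_ker a)⟩]

end Cfsg.Lib.O8E
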